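import Mathlib
import Cfsg.Agent.Lib.StdW.Cov
import Cfsg.Agent.Lib.StdM24.Basic

/-! Standard subgroups of type `O'N`, `He`, `Suz`: the finite facts used, and the frames of the proof. -/

set_option autoImplicit false

namespace H36.SV

open Subgroup H69 H36.SW
open H48.SM (Pf)
open scoped commutatorElement

/-- The data in `X = J.2`. -/
structure Dy (X : Type) [Group X] where
  J : Subgroup X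
  Ts : Subgroup X
  M : Subgroup X
  R : Subgroup X
  z : X
  b : X
  q : X
  f : X
  φ : X
  ψ : X
  n2 : ℕ
  n3 : ℕ

variable {X : Type} [Group X] {G : Type*} [Group G]

namespace Dy
variable (F : Dy X)

/-- Sylow subgroup of `J` -/
def T : Subgroup X := F.Ts ⊓ F.J
/-- `C_J(z)` -/
def D : Subgroup X := F.J ⊓ centralizer {F.z}
/-- the class of `z` -/
def Zc (a : X) : Prop := ∃ j ∈ F.J, j * F.z * j⁻¹ = a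
/-- the class of `b` -/
def Bc (a : X) : Prop := ∃ j ∈ F.J, j * F.b * j⁻¹ = a
/-- pairs conjugate to `(z, q)` under `X` -/
def Ty (a a' : X) : Prop := ∃ g, g * F.z * g⁻¹ = a ∧ g * F.q * g⁻¹ = a'
/-- what is used of an outer involution -/
def Out (x : X) : Prop :=
  (∃ u ∈ F.J, ∃ v ∈ F.J, u * x = x * u ∧ v * x = x * v ∧ ⁅u, v⁆ ≠ 1 ∧ ∃ j ∈ F.J, j * x * j⁻¹ = x * ⁅u, v⁆) ∧
    ∃ P ≤ F.J, IsPGroup 2 P ∧ (∀ a ∈ P, a * x = x * a) ∧ F.n2 ≤ Nat.card P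
/-- `He`, `Suz` -/
def Mode1 : Prop :=
  F.f = F.z ∧ F.D ≤ F.M ∧
  ∀ x ∈ F.T, (∀ τ ∈ F.T, τ * x * τ⁻¹ = x ∨ τ * x * τ⁻¹ = x * F.z) →
    x = 1 ∨ x = F.z ∨ ∃ d ∈ F.D, F.Ty F.z ⁅x, d⁆
/-- `O'N` -/
def Mode2 : Prop :=
  F.f * F.f = F.z ∧ F.Zc F.b ∧ IsConj F.φ F.ψ ∧ 4 * F.n3 < Nat.card (F.T ⊓ F.M : Subgroup X) ∧
  96 < Nat.card F.M ∧
  (∀ N ≤ F.M, F.M ≤ 𝐍(N) → N ≤ zpowers F.f ∨ F.M ≤ N ⊔ zpowers F.f) ∧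
  (∃ y0 ∈ F.D, y0 * y0 = 1 ∧ y0 * F.f * y0⁻¹ = F.f⁻¹ ∧ ∀ d ∈ F.D, d ∈ F.M ∨ d * y0 ∈ F.M) ∧
  ∃ A ≤ F.M, (∀ g, (∀ a ∈ A, g * a = a * g) → g ∈ A) ∧ F.z ∈ A ∧ F.q ∈ A ∧
    (∃ n ∈ F.J, n ∈ 𝐍(A) ∧ n * F.z * n⁻¹ = F.q) ∧
    ∃ κ ∈ F.M, κ ∈ 𝐍(A) ∧ κ * κ ∈ A ∧ κ * F.q * κ⁻¹ = F.z * F.q ∧
      ∀ a ∈ A, κ * a * κ⁻¹ * a ≠ F.f ∧ κ * a * κ⁻¹ * a ≠ F.f⁻¹
/-- a homomorphic image of `C_J(z)` centralised by a group of order four kills a neighbour of `z` -/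
def Cen4 : Prop :=
  ∀ (ρ : F.D →* X) (P : Subgroup X), IsPGroup 2 P → (∀ a ∈ P, ∀ a' ∈ P, a * a' = a' * a) → 4 ≤ Nat.card P →
    (∀ a ∈ P, ∀ d, a * ρ d = ρ d * a) → ∃ d : F.D, F.Ty F.z d ∧ ρ d = 1

end Dy

/-- global facts -/
structure Gl (F : Dy X) : Prop where
  nJ : F.J.Normal
  simple : IsSimpleGroup F.J
  sq : ∀ a, a ∉ F.J → ∀ b, b ∉ F.J → a * b ∈ F.J
  aut : ∀ θ : F.J ≃* F.J, ∃ x : X, ∀ j : F.J, (θ j : X) = x * j * x⁻¹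
  syl : IsSylowIn 2 F.Ts ⊤
  zT : F.z ∈ F.T
  z2 : F.z * F.z = 1
  z1 : F.z ≠ 1
  cT : ∀ a ∈ F.Ts, a * F.z = F.z * a
  φT : F.φ ∈ F.Ts
  φJ : F.φ ∉ F.J
  φ2 : F.φ * F.φ = 1
  ψJ : F.ψ ∉ F.J
  ψ2 : F.ψ * F.ψ = 1
  oφ : F.Out F.φ
  oψ : F.Out F.ψ
  k1 : 4 * F.n2 ≤ Nat.card F.R
  k2 : 2 * F.n3 ^ 2 < 4 * Nat.card F.R * F.n2
  k3 : Nat.card F.Ts < Nat.card F.R * F.n2
  oo : Nat.card F.Ts ≤ F.n2 ^ 2 ∨ (IsConj F.φ F.ψ ∧ ∃ (N : Subgroup X) (k : ℕ), Pf N ∧ N ≤ F.J ∧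
    (∀ a ∈ N, a * F.φ = F.φ * a) ∧ k ∣ Nat.card N ∧ ¬ k ^ 2 ∣ Nat.card F.J)

/-- the Sylow subgroup -/
structure Sy (F : Dy X) : Prop where
  ctr : ∀ a ∈ F.Ts, (∀ τ ∈ F.T, a * τ = τ * a) → a = 1 ∨ a = F.z
  genT : F.T ≤ closure {a | a ∈ F.T ∧ a * a = 1}
  invT : ∀ a ∈ F.T, a * a = 1 → a = 1 ∨ F.Zc a ∨
    (F.Bc a ∧ Nat.card (F.T ⊓ centralizer {a} : Subgroup X) ≤ Nat.card F.R)
  outT : ∀ x ∈ F.Ts, x ∉ F.J → x * x = 1 →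
    ((∃ j ∈ F.J, j * F.φ * j⁻¹ = x) ∧ Nat.card (F.Ts ⊓ centralizer {x} : Subgroup X) ≤ F.n3) ∨
      ((∃ j ∈ F.J, j * F.ψ * j⁻¹ = x) ∧ ¬ IsConj F.φ F.ψ)
  RT : F.R ≤ F.T
  Rb : ∀ a ∈ F.R, a * F.b = F.b * a
  bR : F.b ∈ ⁅F.R, F.R⁆
  b2 : F.b * F.b = 1
  b1 : F.b ≠ 1
  genR : F.R ≤ closure {a | a ∈ F.R ∧ a * a = 1}
  R4 : 4 < Nat.card F.R
  bx : ∃ x ∈ F.Ts, x ∉ F.J ∧ x * F.b = F.b * x
  p8 : F.Zc F.b ∨ ((∀ v ∈ F.Ts, v ^ 8 = 1 → v ^ 4 = 1 ∨ F.Zc (v ^ 4)) ∧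
    ∃ v ∈ F.J, v * F.b = F.b * v ∧ F.Zc (v ^ 4) ∧ ∃ j ∈ F.J, j * F.b * j⁻¹ = F.b * v ^ 4)

/-- the centraliser of `z` -/
structure Ce (F : Dy X) : Prop where
  MD : F.M ≤ F.D
  pfM : Pf F.M
  zM : F.z ∈ F.M
  qM : F.q ∈ F.M
  fM : F.f ∈ F.M
  fc : ∀ m ∈ F.M, m * F.f = F.f * m
  DD : ⁅F.D, F.D⁆ ≤ F.M
  cM : ∀ g, (∀ m ∈ F.M, g * m = m * g) → g ∈ zpowers F.f
  autM : ∀ θ : X → X, (∀ a ∈ F.M, θ a ∈ F.M) → (∀ a ∈ F.M, ∀ a' ∈ F.M, θ (a * a') = θ a * θ a') →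
    (∀ a ∈ F.M, θ a = 1 → a = 1) → θ F.z = F.z → ∃ x, x * F.z = F.z * x ∧ ∀ m ∈ F.M, θ m = x * m * x⁻¹
  sg : ∃ σ ∈ F.J, σ * F.z * σ⁻¹ = F.q ∧ σ * F.q * σ⁻¹ = F.z * F.q
  gq : F.J ≤ F.D ⊔ (F.J ⊓ centralizer {F.q})
  exO : ∃ A ≤ F.M, F.z ∈ A ∧ F.φ ∈ 𝐍(A) ∧ (∀ g, (∀ a ∈ A, g * a = a * g) → g ∈ F.J) ∧
    ∃ l1 ∈ F.J, ∃ l2 ∈ F.J, l1 ∈ 𝐍(A) ∧ l2 ∈ 𝐍(A) ∧
      l1 * (F.z * (F.φ * (l2 * F.z * l2⁻¹) * F.φ⁻¹)) * l1⁻¹ = F.z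
  mode : F.Mode1 ∨ F.Mode2

/-- all the facts -/
structure Fx (F : Dy X) : Prop extends Gl F, Sy F, Ce F

/-- `L ≅ J`; `α` is the action of `N(L)`, `h` the inverse of `α` on `J` -/
structure Iso (J : Subgroup X) (L : Subgroup G) (α : G → X) (h : X → G) : Prop where
  cov : Cov J L α
  hL : ∀ j ∈ J, h j ∈ L
  αh : ∀ j ∈ J, α (h j) = j
  inj : ∀ a ∈ L, α a = 1 → a = 1

/-- `C(t) ≤ N(L)`, `C(t) ∩ C(L) = ⟨t⟩ × O` -/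
structure W0 (F : Dy X) (t : G) (L O : Subgroup G) (α : G → X) (h : X → G) : Prop
    extends Iso F.J L α h where
  t2 : t * t = 1
  t1 : t ≠ 1
  tL : t ∈ 𝐂(L)
  CN : ∀ g, g * t = t * g → g ∈ 𝐍(L)
  OL : O ≤ 𝐂(L)
  Ot : ∀ o ∈ O, o * t = t * o
  oddO : ∀ o ∈ O, Odd (orderOf o)
  ker2 : ∀ k ∈ 𝐂(L), k * t = t * k → k ∈ O ∨ k * t ∈ O

/-- `t ~ t ẑ` -/
structure W (F : Dy X) (t : G) (L O : Subgroup G) (α : G → X) (h : X → G) : Prop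
    extends W0 F t L O α h where
  fus : ∃ g, g * t * g⁻¹ = t * h F.z

/-- by an element centralising `O` and `M̂` -/
structure W1 (F : Dy X) (t : G) (L O : Subgroup G) (α : G → X) (h : X → G) (g : G) : Prop
    extends W0 F t L O α h where
  gt : g * t * g⁻¹ = t * h F.z
  gO : ∀ o ∈ O, g * o = o * g
  gM : ∀ m ∈ F.M, g * h m = h m * g

/-- by an involution centralising `O` and `D̂` -/
structure W2 (F : Dy X) (t : G) (L O : Subgroup G) (α : G → X) (h : X → G) (u : G) : Prop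
    extends W0 F t L O α h where
  u2 : u * u = 1
  ut : u * t * u⁻¹ = t * h F.z
  uO : ∀ o ∈ O, u * o = o * u
  uD : ∀ d ∈ F.D, u * h d = h d * u

/-- the involutions `e a`, `a` in the class of `z` -/
structure We (F : Dy X) (t : G) (L O : Subgroup G) (α : G → X) (h : X → G) (e : X → G) : Prop
    extends W0 F t L O α h where
  e2 : ∀ a, F.Zc a → e a * e a = 1
  et : ∀ a, F.Zc a → e a * t * (e a)⁻¹ = t * h a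
  eO : ∀ a, F.Zc a → ∀ o ∈ O, e a * o = o * e a
  ecj : ∀ a, F.Zc a → ∀ j ∈ F.J, e (j * a * j⁻¹) = h j * e a * (h j)⁻¹

/-- `L` is the diagonal of `A × tAt` -/
structure Pr (F : Dy X) (t : G) (L O : Subgroup G) (α : G → X) (h : X → G) (u : G) (A : Subgroup G)
    (β : G → X) : Prop extends W2 F t L O α h u where
  covA : Cov F.J A β
  comm : ∀ g ∈ A, ∀ k ∈ A, g * (t * k * t⁻¹) = (t * k * t⁻¹) * g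
  piL : ∀ g ∈ A, g * (t * g * t⁻¹) ∈ L
  piα : ∀ g ∈ A, α (g * (t * g * t⁻¹)) = β g
  onL : ∀ l ∈ L, ∃ g ∈ A, g * (t * g * t⁻¹) = l
  uA : u ∈ A
  genA : A ≤ closure {g | g ∈ A ∧ g * g = 1}

theorem eqns_Defs : True := by
  have := @Dy.T.eq_1
  have := @Dy.D.eq_1
  have := @Dy.Zc.eq_1
  have := @Dy.Bc.eq_1
  have := @Dy.Ty.eq_1
  have := @Dy.Out.eq_1
  have := @Dy.Mode1.eq_1
  have := @Dy.Mode2.eq_1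
  have := @Dy.Cen4.eq_1
  trivial

end H36.SV
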