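import Mathlib
import Cfsg.Agent.Lib.StdV.Defs

/-! Consequences of `Fx`; the calculus of `Iso` and `W0`. -/

set_option autoImplicit false
set_option linter.unusedSectionVars false

namespace H36.SV

open Subgroup H69 H36.SW
open H48.SM (Pf)
open scoped commutatorElement

variable {X : Type} [Group X] {G : Type*} [Group G]

theorem cjc {j x y : G} (h : x * y = y * x) : j * x * j⁻¹ * (j * y * j⁻¹) = j * y * j⁻¹ * (j * x * j⁻¹) := by
  rw [conj_mul, conj_mul, h]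

theorem cj_fix {j x : G} : j * x * j⁻¹ = x ↔ j * x = x * j := mul_inv_eq_iff_eq_mul

namespace Dy
variable {F : Dy X}
theorem mem_T {a : X} : a ∈ F.T ↔ a ∈ F.Ts ∧ a ∈ F.J := Iff.rfl
theorem mem_D {a : X} : a ∈ F.D ↔ a ∈ F.J ∧ a * F.z = F.z * a :=
  and_congr_right fun _ => mem_centralizer_singleton_iff
theorem TTs : F.T ≤ F.Ts := inf_le_left
theorem TJ : F.T ≤ F.J := inf_le_right
theorem DJ : F.D ≤ F.J := inf_le_left
theorem Dz {a : X} (h : a ∈ F.D) : a * F.z = F.z * a := (mem_D.1 h).2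
theorem Zz : F.Zc F.z := ⟨1, one_mem _, by group⟩
theorem Bb : F.Bc F.b := ⟨1, one_mem _, by group⟩
theorem Zc.cj {a j : X} (h : F.Zc a) (hj : j ∈ F.J) : F.Zc (j * a * j⁻¹) :=
  let ⟨k, hk, e⟩ := h; ⟨j * k, mul_mem hj hk, by rw [← e]; group⟩
theorem Bc.cj {a j : X} (h : F.Bc a) (hj : j ∈ F.J) : F.Bc (j * a * j⁻¹) :=
  let ⟨k, hk, e⟩ := h; ⟨j * k, mul_mem hj hk, by rw [← e]; group⟩
theorem Zc.of_cj {a j : X} (hj : j ∈ F.J) (h : F.Zc (j * a * j⁻¹)) : F.Zc a := by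
  simpa [mul_assoc] using h.cj (inv_mem hj)
theorem Bc.of_cj {a j : X} (hj : j ∈ F.J) (h : F.Bc (j * a * j⁻¹)) : F.Bc a := by
  simpa [mul_assoc] using h.cj (inv_mem hj)
theorem Bc.zc {a : X} (h : F.Bc a) (hb : F.Zc F.b) : F.Zc a := let ⟨_, hj, e⟩ := h; e ▸ hb.cj hj
theorem Ty.cj {a a' : X} (h : F.Ty a a') (g : X) : F.Ty (g * a * g⁻¹) (g * a' * g⁻¹) :=
  let ⟨k, e, e'⟩ := h; ⟨g * k, by rw [← e]; group, by rw [← e']; group⟩
theorem Ty.base : F.Ty F.z F.q := ⟨1, by group, by group⟩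
end Dy

namespace Fx
variable {F : Dy X} (H : Fx F)
include H

theorem cjJ {a : X} (ha : a ∈ F.J) (x : X) : x * a * x⁻¹ ∈ F.J := H.nJ.conj_mem a ha x
theorem cjJ' {a x : X} : x * a * x⁻¹ ∈ F.J ↔ a ∈ F.J :=
  ⟨fun h => by simpa [mul_assoc] using H.cjJ h x⁻¹, fun h => H.cjJ h x⟩
theorem zJ : F.z ∈ F.J := H.zT.2
theorem zTs : F.z ∈ F.Ts := H.zT.1
theorem TD : F.T ≤ F.D := fun a ha => Dy.mem_D.2 ⟨ha.2, H.cT a ha.1⟩
theorem MJ : F.M ≤ F.J := H.MD.trans Dy.DJ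
theorem RJ : F.R ≤ F.J := H.RT.trans Dy.TJ
theorem qJ : F.q ∈ F.J := H.MJ H.qM
theorem fJ : F.f ∈ F.J := H.MJ H.fM
theorem bR' : F.b ∈ F.R := commutator_le_of_le le_rfl le_rfl H.bR
theorem bT : F.b ∈ F.T := H.RT H.bR'
theorem bJ : F.b ∈ F.J := H.bT.2
theorem Jne : F.J ≠ ⊥ := fun e => H.z1 (mem_bot.1 (e ▸ H.zJ))
theorem P2T {a : X} (ha : a ∈ F.Ts) : P2 a := P2.of_mem H.syl.isP ha
theorem pT : IsPGroup 2 F.T := H.syl.isP.to_inf_left
theorem pR : IsPGroup 2 F.R := H.pT.to_le H.RT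
theorem sq2 (x : X) : x * x ∈ F.J := (em _).elim (fun h => mul_mem h h) fun h => H.sq x h x h
theorem inv_mul_mem {x y : X} (hx : x ∉ F.J) (hy : y ∉ F.J) : x⁻¹ * y ∈ F.J :=
  H.sq _ (by rwa [inv_mem_iff]) _ hy
theorem mul_inv_mem {x y : X} (hx : x ∉ F.J) (hy : y ∉ F.J) : x * y⁻¹ ∈ F.J :=
  H.sq _ hx _ (by rwa [inv_mem_iff])

theorem comm_mem (x y : X) : ⁅x, y⁆ ∈ F.J := by
  rw [commutatorElement_def]
  by_cases hx : x ∈ F.J
  · rw [mul_assoc, mul_assoc, ← mul_assoc y]; exact mul_mem hx (H.cjJ (inv_mem hx) y)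
  · by_cases hy : y ∈ F.J
    · exact mul_mem (H.cjJ hy x) (inv_mem hy)
    · rw [mul_assoc]; exact mul_mem (H.sq x hx y hy) (H.sq _ (by rwa [inv_mem_iff]) _ (by rwa [inv_mem_iff]))

theorem perf_le {N : Subgroup X} (h : N ≤ ⁅N, N⁆) : N ≤ F.J :=
  h.trans (commutator_le.2 fun a _ b _ => H.comm_mem a b)

theorem mem_of_odd_pow {x : X} {n : ℕ} (hn : Odd n) (h : x ^ n ∈ F.J) : x ∈ F.J := by
  obtain ⟨k, rfl⟩ := hn
  rw [pow_succ, pow_mul, pow_two] at h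
  exact (mul_mem_cancel_left (pow_mem (H.sq2 x) k)).1 h

/-- `X = J ∪ J x` -/
theorem dec {x : X} (hx : x ∉ F.J) (g : X) : g ∈ F.J ∨ ∃ j ∈ F.J, g = j * x :=
  (em _).imp id fun h => ⟨_, H.mul_inv_mem h hx, by group⟩

theorem φz : F.φ * F.z = F.z * F.φ := H.cT _ H.φT

theorem Zc_cj {a : X} (h : F.Zc a) (g : X) : F.Zc (g * a * g⁻¹) := by
  rcases H.dec H.φJ g with hg | ⟨j, hj, rfl⟩
  · exact h.cj hg
  · obtain ⟨k, hk, rfl⟩ := h
    refine ⟨j * (F.φ * k * F.φ⁻¹), mul_mem hj (H.cjJ hk _), ?_⟩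
    calc _ = j * F.φ * k * (F.φ⁻¹ * (F.z * F.φ)) * k⁻¹ * F.φ⁻¹ * j⁻¹ := by group
      _ = _ := by rw [← H.φz]; group
theorem Zc_mem {a : X} (h : F.Zc a) : a ∈ F.J := let ⟨j, _, e⟩ := h; e ▸ H.cjJ H.zJ j
theorem Zc_sq {a : X} (h : F.Zc a) : a * a = 1 := let ⟨j, _, e⟩ := h; e ▸ cjsq H.z2 j
theorem Zc_ne {a : X} (h : F.Zc a) : a ≠ 1 := let ⟨j, _, e⟩ := h; e ▸ cjne H.z1 j
theorem Bc_mem {a : X} (h : F.Bc a) : a ∈ F.J := let ⟨j, _, e⟩ := h; e ▸ H.cjJ H.bJ j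
theorem Bc_sq {a : X} (h : F.Bc a) : a * a = 1 := let ⟨j, _, e⟩ := h; e ▸ cjsq H.b2 j
theorem Bc_ne {a : X} (h : F.Bc a) : a ≠ 1 := let ⟨j, _, e⟩ := h; e ▸ cjne H.b1 j
theorem Zq : F.Zc F.q := let ⟨σ, h, e, _⟩ := H.sg; ⟨σ, h, e⟩
theorem Zzq : F.Zc (F.z * F.q) := let ⟨_, h, _, e⟩ := H.sg; e ▸ H.Zq.cj h
theorem qz : F.q * F.z = F.z * F.q := Dy.Dz (H.MD H.qM)
theorem Ty1 {a a' : X} (h : F.Ty a a') : F.Zc a := let ⟨g, e, _⟩ := h; e ▸ H.Zc_cj Dy.Zz g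
theorem Ty2 {a a' : X} (h : F.Ty a a') : F.Zc a' := let ⟨g, _, e⟩ := h; e ▸ H.Zc_cj H.Zq g
theorem Ty3 {a a' : X} (h : F.Ty a a') : F.Zc (a * a') := by
  obtain ⟨g, rfl, rfl⟩ := h; rw [conj_mul]; exact H.Zc_cj H.Zzq g
theorem Tyc {a a' : X} (h : F.Ty a a') : a * a' = a' * a := by
  obtain ⟨g, rfl, rfl⟩ := h; exact cjc H.qz.symm

/-- `⟨f⟩`: the elements -/
theorem f4 : F.f * F.f = 1 ∨ F.f * F.f = F.z := H.mode.elim (fun m => Or.inl (m.1 ▸ H.z2)) fun m => Or.inr m.1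
theorem P2f : P2 F.f := P2.of_mul_self (H.f4.elim (fun e => e ▸ P2.of_sq (mul_one 1)) fun e => e ▸ P2.of_sq H.z2)
theorem Z0M : zpowers F.f ≤ F.M := zpowers_le.2 H.fM
theorem P2Z0 {g : X} (h : g ∈ zpowers F.f) : P2 g := P2.of_mem H.P2f.zpowers h
theorem zZ0 : F.z ∈ zpowers F.f := H.cM _ fun _ hm => (Dy.Dz (H.MD hm)).symm
theorem Z0c {g m : X} (h : g ∈ zpowers F.f) (hm : m ∈ F.M) : m * g = g * m :=
  let ⟨k, e⟩ := h; e ▸ (Commute.zpow_right (H.fc m hm) k).eq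
theorem mem_Z0 {g : X} (h : g ∈ zpowers F.f) : g = 1 ∨ g = F.z ∨ (F.f * F.f = F.z ∧ (g = F.f ∨ g = F.f⁻¹)) := by
  rcases H.mode with m | m
  · rw [m.1] at h; exact ((mem_zp H.z2).1 h).imp id Or.inl
  · obtain ⟨k, rfl⟩ := h
    have e2 : F.f ^ (2 : ℤ) = F.z := by rw [zpow_two, m.1]
    have e4 : F.f ^ (4 : ℤ) = 1 := by rw [show (4 : ℤ) = 2 + 2 by norm_num, zpow_add, e2, H.z2]
    have e : F.f ^ k = F.f ^ (k % 4) := by
      conv_lhs => rw [← Int.mul_ediv_add_emod k 4, zpow_add, zpow_mul, e4, one_zpow, one_mul]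
    simp only [e]
    have : k % 4 = 0 ∨ k % 4 = 1 ∨ k % 4 = 2 ∨ k % 4 = 3 := by omega
    rcases this with h | h | h | h <;> rw [h]
    · exact Or.inl (zpow_zero _)
    · exact Or.inr (Or.inr ⟨m.1, Or.inl (zpow_one _)⟩)
    · exact Or.inr (Or.inl e2)
    · refine Or.inr (Or.inr ⟨m.1, Or.inr (eq_inv_of_mul_eq_one_left ?_)⟩)
      rw [← e4, show (4 : ℤ) = 3 + 1 by norm_num, zpow_add, zpow_one]
theorem Z0_sq {g : X} (h : g ∈ zpowers F.f) (g2 : g * g = 1) : g = 1 ∨ g = F.z := by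
  rcases H.mem_Z0 h with e | e | ⟨e, rfl | rfl⟩
  exacts [Or.inl e, Or.inr e, absurd (e ▸ g2) H.z1,
    absurd (by rw [← e, ← inv_inv (F.f * F.f), mul_inv_rev, g2, inv_one]) H.z1]

/-- `C_X(D) = ⟨z⟩` -/
theorem cD {g : X} (h : ∀ d ∈ F.D, g * d = d * g) : g = 1 ∨ g = F.z := by
  have hg := H.cM g fun m hm => h m (H.MD hm)
  rcases H.mode with m | ⟨-, -, -, -, -, -, ⟨y, hy, -, e, -⟩, -⟩
  · rw [m.1] at hg; exact (mem_zp H.z2).1 hg
  · refine H.Z0_sq hg ?_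
    obtain ⟨k, rfl⟩ := hg
    have : y * F.f ^ k * y⁻¹ = (F.f ^ k)⁻¹ := by rw [← conj_zpow, e, inv_zpow]
    rw [← h y hy, mul_inv_cancel_right] at this
    exact mul_eq_one_iff_eq_inv.2 this

theorem cJ {g : X} (h : ∀ j ∈ F.J, g * j = j * g) : g = 1 := by
  refine (H.cD fun d hd => h d (Dy.DJ hd)).elim id fun e => ?_
  obtain ⟨σ, hσ, e1, e2⟩ := H.sg
  rw [← e, ← h σ hσ, mul_inv_cancel_right] at e1
  rw [← e1, e, H.z2] at e2
  exact absurd e2 (cjne H.z1 σ)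

theorem cjD {x d : X} (hx : x * F.z = F.z * x) (hd : d ∈ F.D) : x * d * x⁻¹ ∈ F.D :=
  Dy.mem_D.2 ⟨H.cjJ (Dy.DJ hd) x, by have := cjc (j := x) (Dy.Dz hd); rwa [cj_fix.2 hx] at this⟩

theorem cjM {x m : X} (hx : x * F.z = F.z * x) (hm : m ∈ F.M) : x * m * x⁻¹ ∈ F.M := by
  have : F.M ^ᶜ x ≤ F.M := (cj_mono x H.pfM.1).trans (by
    rw [cj_commutator]
    have : F.M ^ᶜ x ≤ F.D := fun _ ⟨m, hm, e⟩ => e ▸ H.cjD hx (H.MD hm)
    exact (commutator_mono this this).trans H.DD)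
  exact this (cj_mem x hm)

variable [Finite X]

theorem sylT : IsSylowIn 2 F.T F.J := H.syl.inf_normal le_top (normal_iff_top_le_normalizer.1 H.nJ)

theorem cardTs : Nat.card F.Ts = Nat.card F.T * 2 := by
  have i2 : (F.J.subgroupOf F.Ts).index = 2 := by
    refine index_eq_two_iff.2 ⟨⟨F.φ, H.φT⟩, fun b => ?_⟩
    by_cases hb : (b : X) ∈ F.J
    · exact Or.inr ⟨hb, fun h => H.φJ ((F.J.mul_mem_cancel_left hb).1 h)⟩
    · exact Or.inl ⟨H.sq _ hb _ H.φJ, hb⟩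
  rw [← (F.J.subgroupOf F.Ts).card_mul_index, i2, Dy.T, inf_comm, ← subgroupOf_map_subtype,
    card_map_of_injective F.Ts.subtype_injective]

/-- a `2`-subgroup is `J`-conjugate into `Ts` -/
theorem cjTs {P : Subgroup X} (h : IsPGroup 2 P) : ∃ j ∈ F.J, P ^ᶜ j ≤ F.Ts := by
  obtain ⟨g, -, e⟩ := H.syl.exists_cj_le h le_top
  by_cases hg : g ∈ F.J
  · exact ⟨g, hg, e⟩
  · exact ⟨F.φ * g, H.sq _ H.φJ _ hg, by
      rw [← cj_cj]; exact (cj_mono _ e).trans (cj_eq_of_mem_normalizer (le_normalizer H.φT)).le⟩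

theorem cjTs' {x : X} (h : P2 x) : ∃ j ∈ F.J, j * x * j⁻¹ ∈ F.Ts :=
  let ⟨j, hj, e⟩ := H.cjTs h.zpowers; ⟨j, hj, e (cj_mem j (mem_zpowers x))⟩

theorem card_le {P : Subgroup X} (h : IsPGroup 2 P) : Nat.card P ≤ Nat.card F.Ts := H.syl.card_le h le_top

theorem inv {a : X} (ha : a ∈ F.J) (a2 : a * a = 1) : a = 1 ∨ F.Zc a ∨ F.Bc a := by
  obtain ⟨j, hj, e⟩ := H.cjTs' (P2.of_sq a2)
  rcases H.invT _ ⟨e, H.cjJ ha j⟩ (cjsq a2 j) with e | e | ⟨e, -⟩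
  exacts [Or.inl (by simpa using e), Or.inr (Or.inl (e.of_cj hj)), Or.inr (Or.inr (e.of_cj hj))]

/-- an element centralising a `2`-subgroup of `J` of full order -/
theorem zc_of_card {P : Subgroup X} (hP : IsPGroup 2 P) (PJ : P ≤ F.J) (c : Nat.card F.T ≤ Nat.card P) {a : X}
    (a2 : P2 a) (ca : ∀ x ∈ P, a * x = x * a) : a = 1 ∨ F.Zc a := by
  obtain ⟨j, hj, e⟩ := H.cjTs (P := P ⊔ zpowers a) (IsPGroup.to_sup_of_normal_left' hP a2.zpowers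
    (zpowers_le.2 (centralizer_le_normalizer _ fun x hx => (ca x hx).symm)))
  have e1 : P ^ᶜ j = F.T := eq_of_le_of_card_ge (le_inf ((cj_mono j le_sup_left).trans e) (cj_le_of_mem PJ hj))
    (by rwa [card_cj])
  rcases H.ctr _ (e (cj_mem j (mem_sup_right (mem_zpowers a)))) (by
    rw [← e1]; rintro _ ⟨x, hx, rfl⟩; exact cjc (ca x hx)) with e | e
  exacts [Or.inl (by simpa using e), Or.inr (Dy.Zc.of_cj hj (e ▸ Dy.Zz))]

theorem out {x : X} (hx : x ∉ F.J) (x2 : x * x = 1) : (∃ j ∈ F.J, j * F.φ * j⁻¹ = x) ∨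
    ((∃ j ∈ F.J, j * F.ψ * j⁻¹ = x) ∧ ¬ IsConj F.φ F.ψ) := by
  obtain ⟨j, hj, e⟩ := H.cjTs' (P2.of_sq x2)
  have key : ∀ {y : X}, (∃ k ∈ F.J, k * y * k⁻¹ = j * x * j⁻¹) → ∃ k ∈ F.J, k * y * k⁻¹ = x :=
    fun {y} ⟨k, hk, e⟩ => ⟨j⁻¹ * k, mul_mem (inv_mem hj) hk, by
      calc _ = j⁻¹ * (k * y * k⁻¹) * j := by group
        _ = x := by rw [e]; group⟩
  exact (H.outT _ e (by rwa [H.cjJ']) (cjsq x2 j)).imp (fun h => key h.1) fun h => ⟨key h.1, h.2⟩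

omit [Finite X] in
theorem Out_cj {x : X} (h : F.Out x) (g : X) : F.Out (g * x * g⁻¹) := by
  obtain ⟨⟨u, hu, v, hv, e1, e2, n, j, hj, e⟩, P, PJ, p, c, k⟩ := h
  refine ⟨⟨_, H.cjJ hu g, _, H.cjJ hv g, cjc e1, cjc e2, ?_, _, H.cjJ hj g, ?_⟩, P ^ᶜ g,
    fun _ ⟨a, ha, e⟩ => e ▸ H.cjJ (PJ ha) g, isPGroup_cj p g, fun _ ⟨a, ha, e⟩ => e ▸ cjc (c a ha),
    by rwa [card_cj]⟩ <;> rw [← conjugate_commutatorElement]
  · exact cjne n g
  · rw [← show g * (x * ⁅u, v⁆) * g⁻¹ = _ from conj_mul.symm, ← e]; group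

theorem outAll {x : X} (hx : x ∉ F.J) (x2 : x * x = 1) : F.Out x :=
  (H.out hx x2).elim (fun ⟨j, _, e⟩ => e ▸ H.Out_cj H.oφ j) fun ⟨⟨j, _, e⟩, _⟩ => e ▸ H.Out_cj H.oψ j

/-- `2`-subgroups centralising a conjugate of `φ` -/
theorem ext3 {P : Subgroup X} (hP : IsPGroup 2 P) {x : X} (hx : IsConj F.φ x) (c : ∀ a ∈ P, a * x = x * a) :
    Nat.card P ≤ F.n3 := by
  obtain ⟨g, rfl⟩ := isConj_iff.1 hx
  have x2 := cjsq H.φ2 g
  obtain ⟨j, hj, e⟩ := H.cjTs (P := P ⊔ zpowers (g * F.φ * g⁻¹)) (IsPGroup.to_sup_of_normal_left' hP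
    (P2.of_sq x2).zpowers (zpowers_le.2 (centralizer_le_normalizer _ c)))
  rcases H.outT _ (e (cj_mem j (mem_sup_right (mem_zpowers _)))) (by rw [H.cjJ', H.cjJ']; exact H.φJ)
    (cjsq x2 j) with ⟨-, h⟩ | ⟨⟨k, -, h⟩, n⟩
  · refine le_trans ?_ h
    rw [← card_cj P j]
    exact card_le_of_le (le_inf ((cj_mono j le_sup_left).trans e)
      fun _ ⟨a, ha, e⟩ => e ▸ mem_centralizer_singleton_iff.2 (cjc (c a ha)))
  · exact absurd (isConj_iff.2 ⟨k⁻¹ * j * g, by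
      calc _ = k⁻¹ * (j * (g * F.φ * g⁻¹) * j⁻¹) * k := by group
        _ = _ := by rw [← h]; group⟩) n

theorem zTT : F.z ∈ ⁅F.T, F.T⁆ := by
  have le : ⁅F.T, F.T⁆ ≤ F.T := commutator_le_of_le le_rfl le_rfl
  obtain ⟨⟨x, hx⟩, x1⟩ := ne_bot_iff_exists_ne_one.1 (inf_centralizer_ne_bot (H.pT.to_le le) H.pT
    (le_normalizer_commutator le_normalizer le_normalizer)
    fun e => H.b1 (mem_bot.1 (e ▸ commutator_mono H.RT H.RT H.bR)))
  rcases H.ctr x (le hx.1).1 fun τ hτ => (hx.2 τ hτ).symm with e | e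
  · exact absurd (Subtype.ext e) x1
  · exact e ▸ hx.1

theorem cRT : Nat.card F.R ≤ Nat.card F.T := card_le_of_le H.RT

/-- every involution of `J` is central in, and in the derived group of, a large `2`-group -/
theorem inv_comm {a : X} (ha : a ∈ F.J) (a2 : a * a = 1) : ∃ P ≤ F.J, IsPGroup 2 P ∧
    (∀ x ∈ P, x * a = a * x) ∧ a ∈ ⁅P, P⁆ ∧ Nat.card F.R ≤ Nat.card P := by
  rcases H.inv ha a2 with rfl | ⟨j, hj, rfl⟩ | ⟨j, hj, rfl⟩
  · exact ⟨F.R, H.RJ, H.pR, by simp, one_mem _, le_rfl⟩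
  · exact ⟨F.T ^ᶜ j, cj_le_of_mem Dy.TJ hj, isPGroup_cj H.pT j, fun _ ⟨x, hx, e⟩ => e ▸ cjc (H.cT x hx.1),
      by rw [← cj_commutator]; exact cj_mem j H.zTT, by rw [card_cj]; exact H.cRT⟩
  · exact ⟨F.R ^ᶜ j, cj_le_of_mem H.RJ hj, isPGroup_cj H.pR j, fun _ ⟨x, hx, e⟩ => e ▸ cjc (H.Rb x hx),
      by rw [← cj_commutator]; exact cj_mem j H.bR, by rw [card_cj]⟩

end Fx

namespace Iso
variable {J : Subgroup X} {L : Subgroup G} {α : G → X} {h : X → G} (c : Iso J L α h)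
include c

theorem hN {j : X} (hj : j ∈ J) : h j ∈ 𝐍(L) := le_normalizer (c.hL j hj)
theorem ext {a b : G} (ha : a ∈ L) (hb : b ∈ L) (e : α a = α b) : a = b :=
  inv_mul_eq_one.1 (c.inj _ (mul_mem (inv_mem ha) hb)
    (c.cov.cen (c.cov.inv_mul_mem (le_normalizer ha) (le_normalizer hb) e)))
theorem hα {a : G} (ha : a ∈ L) : h (α a) = a := c.ext (c.hL _ (c.cov.mem a ha)) ha (c.αh _ (c.cov.mem a ha))
theorem ex {a : G} (ha : a ∈ L) : ∃ j ∈ J, h j = a := ⟨_, c.cov.mem a ha, c.hα ha⟩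
theorem one : h 1 = 1 := by rw [← c.cov.one, c.hα (one_mem _)]
theorem mul {j k : X} (hj : j ∈ J) (hk : k ∈ J) : h (j * k) = h j * h k :=
  c.ext (c.hL _ (mul_mem hj hk)) (mul_mem (c.hL j hj) (c.hL k hk))
    (by rw [c.cov.mul' (c.hL j hj) (c.hL k hk), c.αh j hj, c.αh k hk, c.αh _ (mul_mem hj hk)])
theorem inv {j : X} (hj : j ∈ J) : h j⁻¹ = (h j)⁻¹ :=
  eq_inv_of_mul_eq_one_left (by rw [← c.mul (inv_mem hj) hj, inv_mul_cancel, c.one])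
theorem pow {j : X} (hj : j ∈ J) (n : ℕ) : h (j ^ n) = h j ^ n := by
  induction n with
  | zero => rw [pow_zero, pow_zero, c.one]
  | succ n ih => rw [pow_succ, pow_succ, c.mul (pow_mem hj n) hj, ih]
theorem cj {j k : X} (hj : j ∈ J) (hk : k ∈ J) : h (j * k * j⁻¹) = h j * h k * (h j)⁻¹ := by
  rw [c.mul (mul_mem hj hk) (inv_mem hj), c.mul hj hk, c.inv hj]
theorem hinj {j k : X} (hj : j ∈ J) (hk : k ∈ J) (e : h j = h k) : j = k := by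
  rw [← c.αh j hj, e, c.αh k hk]
theorem ne {j : X} (hj : j ∈ J) (n : j ≠ 1) : h j ≠ 1 := fun e => n (c.hinj hj (one_mem _) (e.trans c.one.symm))
theorem sq {j : X} (hj : j ∈ J) (e : j * j = 1) : h j * h j = 1 := by rw [← c.mul hj hj, e, c.one]
theorem p2 {j : X} (hj : j ∈ J) (e : P2 j) : P2 (h j) := let ⟨k, hk⟩ := e; ⟨k, by rw [← c.pow hj, hk, c.one]⟩
theorem comm {j k : X} (hj : j ∈ J) (hk : k ∈ J) (e : j * k = k * j) : h j * h k = h k * h j := by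
  rw [← c.mul hj hk, e, c.mul hk hj]
theorem cmt {j k : X} (hj : j ∈ J) (hk : k ∈ J) : h ⁅j, k⁆ = ⁅h j, h k⁆ := by
  rw [commutatorElement_def, commutatorElement_def, c.mul (mul_mem (mul_mem hj hk) (inv_mem hj)) (inv_mem hk),
    c.cj hj hk, c.inv hk]
/-- the action of `N(L)` -/
theorem conj {g : G} (hg : g ∈ 𝐍(L)) {j : X} (hj : j ∈ J) : g * h j * g⁻¹ = h (α g * j * (α g)⁻¹) := by
  have := c.hα (conj_mem_of_mem_normalizer hg (c.hL j hj))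
  rw [c.cov.conj hg (c.hN hj), c.αh j hj] at this
  exact this.symm
theorem comm_of {g : G} (hg : g ∈ 𝐍(L)) {j : X} (hj : j ∈ J) (e : α g * j = j * α g) : g * h j = h j * g :=
  cj_fix.1 (by rw [c.conj hg hj, cj_fix.2 e])
theorem of_comm {g : G} (hg : g ∈ 𝐍(L)) {j : X} (hj : j ∈ J) (e : g * h j = h j * g) : α g * j = j * α g := by
  have := c.cov.comm hg (c.hN hj) e; rwa [c.αh j hj] at this
theorem cen {k : G} (hk : k ∈ 𝐂(L)) {j : X} (hj : j ∈ J) : h j * k = k * h j := hk _ (c.hL j hj)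
/-- `h` as a homomorphism -/
def hom : J →* G := MonoidHom.mk' (fun j => h j) fun j k => c.mul j.2 k.2
/-- the copy in `L` of a subgroup of `J` -/
def hat (Y : Subgroup X) : Subgroup G := (Y.subgroupOf J).map c.hom
theorem mem_hat {Y : Subgroup X} (hY : Y ≤ J) {g : G} : g ∈ c.hat Y ↔ ∃ y ∈ Y, h y = g :=
  ⟨fun ⟨y, hy, e⟩ => ⟨y, hy, e⟩, fun ⟨y, hy, e⟩ => ⟨⟨y, hY hy⟩, hy, e⟩⟩
theorem hat_le (Y : Subgroup X) : c.hat Y ≤ L := fun _ ⟨y, _, e⟩ => e ▸ c.hL _ y.2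
theorem card_hat {Y : Subgroup X} (hY : Y ≤ J) : Nat.card (c.hat Y) = Nat.card Y := by
  rw [hat, card_map_of_injective fun j k e => Subtype.ext (c.hinj j.2 k.2 e)]
  exact Nat.card_congr (subgroupOfEquivOfLe hY).toEquiv
theorem hat_comm {Y : Subgroup X} (hY : Y ≤ J) {y : X} (hy : y ∈ ⁅Y, Y⁆) : h y ∈ ⁅c.hat Y, c.hat Y⁆ := by
  have : ⁅Y, Y⁆ ≤ (⁅c.hat Y, c.hat Y⁆.comap c.hom).map J.subtype := commutator_le.2 fun a ha b hb =>
    ⟨⁅(⟨a, hY ha⟩ : J), ⟨b, hY hb⟩⁆, by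
      rw [SetLike.mem_coe, mem_comap, map_commutatorElement]
      exact commutator_mem_commutator ⟨_, ha, rfl⟩ ⟨_, hb, rfl⟩, rfl⟩
  obtain ⟨k, hk, rfl⟩ := this hy
  exact hk
theorem pf_hat {Y : Subgroup X} (hY : Y ≤ J) (p : Pf Y) : Pf (c.hat Y) := by
  refine ⟨fun _ ⟨y, hy, e⟩ => e ▸ c.hat_comm hY (p.1 hy), fun _ ⟨y, hy, e⟩ => ?_⟩
  have : closure {i | i ∈ Y ∧ i * i = 1} ≤
      ((closure {i | i ∈ c.hat Y ∧ i * i = 1}).comap c.hom).map J.subtype := (closure_le _).2 fun i hi =>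
    ⟨⟨i, hY hi.1⟩, subset_closure ⟨⟨⟨i, hY hi.1⟩, hi.1, rfl⟩, c.sq (hY hi.1) hi.2⟩, rfl⟩
  obtain ⟨k, hk, e'⟩ := this (p.2 hy)
  exact e ▸ (Subtype.ext e' : k = y) ▸ hk
theorem isP_hat {Y : Subgroup X} (p : IsPGroup 2 Y) : IsPGroup 2 (c.hat Y) := p.comap_subtype.map _
theorem card : Nat.card L = Nat.card J := by
  rw [← c.card_hat le_rfl, le_antisymm (c.hat_le J) fun a ha => (c.mem_hat le_rfl).2 (c.ex ha)]

end Iso

/-- a perfect central extension of `J` with centre of odd order is a cover -/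
theorem exists_cov {F : Dy X} (H : Fx F) [Finite X] {A : Subgroup G} (f : A →* X) (hm : ∀ a, f a ∈ F.J)
    (ho : ∀ j ∈ F.J, ∃ a, f a = j) (hk : ∀ a : A, f a = 1 → (a : G) ∈ 𝐂(A) ∧ Odd (orderOf (a : G)))
    (hp : A ≤ ⁅A, A⁆) : ∃ α : G → X, Cov F.J A α ∧ ∀ a : A, α a = f a := by
  classical
  have kz : ∀ a : A, (a : G) ∈ 𝐂(A) → f a = 1 := fun a ha => H.cJ fun j hj => by
    obtain ⟨b, rfl⟩ := ho j hj
    rw [← map_mul, ← map_mul]; congr 1; exact Subtype.ext (ha b b.2).symm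
  let f' : A →* F.J := f.codRestrict _ hm
  have sj : Function.Surjective f' := fun j => let ⟨a, h⟩ := ho j j.2; ⟨a, Subtype.ext h⟩
  have key : ∀ g : 𝐍(A), ∃ x : X, ∀ a : A, f (A.normalizerMonoidHom g a) = x * f a * x⁻¹ := fun g => by
    have nz : ∀ a : A, f (A.normalizerMonoidHom g a) = 1 ↔ f a = 1 := fun a =>
      ⟨fun h => kz _ (by
        have := conj_mem_of_mem_normalizer' (normalizer_le_normalizer_centralizer A g.2) (hk _ h).1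
        simpa [mul_assoc] using this),
      fun h => kz _ (conj_mem_of_mem_normalizer (normalizer_le_normalizer_centralizer A g.2) (hk _ h).1)⟩
    let ψ : F.J →* F.J := f'.liftOfSurjective sj ⟨f'.comp (A.normalizerMonoidHom g).toMonoidHom,
      fun a ha => Subtype.ext ((nz a).2 (congrArg Subtype.val ha))⟩
    have e : ∀ a, ψ (f' a) = f' (A.normalizerMonoidHom g a) := fun a =>
      f'.liftOfRightInverse_comp_apply _ _ _ a
    have inj : Function.Injective ψ := (injective_iff_map_eq_one _).2 fun j hj => by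
      obtain ⟨a, rfl⟩ := sj j
      rw [e] at hj
      exact Subtype.ext ((nz a).1 (congrArg Subtype.val hj))
    obtain ⟨x, hx⟩ := H.aut (MulEquiv.ofBijective ψ (Finite.injective_iff_bijective.1 inj))
    exact ⟨x, fun a => (congrArg Subtype.val (e a)).symm.trans (hx (f' a))⟩
  choose β hβ using key
  have un : ∀ (g : 𝐍(A)) (x : X), (∀ a : A, f (A.normalizerMonoidHom g a) = x * f a * x⁻¹) → β g = x :=
    fun g x h => (inv_mul_eq_one.1 (H.cJ (g := x⁻¹ * β g) fun j hj => by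
      obtain ⟨a, rfl⟩ := ho j hj
      calc _ = x⁻¹ * (β g * f a * (β g)⁻¹) * β g := by group
        _ = _ := by rw [← hβ, h]; group)).symm
  have ea : ∀ a : A, β ⟨a, le_normalizer a.2⟩ = f a := fun a => un _ _ fun b => by
    rw [← map_inv, ← map_mul, ← map_mul]; rfl
  have ea' : ∀ a : A, (if h : (a : G) ∈ 𝐍(A) then β ⟨a, h⟩ else 1) = f a := fun a => by
    rw [dif_pos (le_normalizer a.2), ea]
  refine ⟨fun g => if h : g ∈ 𝐍(A) then β ⟨g, h⟩ else 1, ⟨fun g hg k hk => ?_, fun a ha => ?_,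
    fun j hj => ?_, fun g hg => ?_, fun a ha h => ?_, hp⟩, ea'⟩
  · rw [dif_pos hg, dif_pos hk, dif_pos (mul_mem hg hk)]
    refine un (⟨g, hg⟩ * ⟨k, hk⟩) _ fun a => ?_
    rw [map_mul, MulAut.mul_apply, hβ, hβ]; group
  · exact ea' ⟨a, ha⟩ ▸ hm _
  · obtain ⟨a, rfl⟩ := ho j hj
    exact ⟨a, a.2, ea' a⟩
  · rw [dif_pos hg]
    refine ⟨fun h => mem_cent_of_perf hp hg fun a ha => ?_, fun h => un _ _ fun a => ?_⟩
    · refine (hk ((⟨a, ha⟩ : A)⁻¹ * A.normalizerMonoidHom ⟨g, hg⟩ ⟨a, ha⟩) ?_).1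
      rw [map_mul, hβ, h]; simp
    · rw [one_mul, inv_one, mul_one]; congr 1
      exact Subtype.ext (conj_eq_of_mem_centralizer h a.2)
  · exact (hk ⟨a, ha⟩ ((ea' ⟨a, ha⟩).symm.trans h)).2

namespace W0
variable {F : Dy X} {t : G} {L O : Subgroup G} {α : G → X} {h : X → G} (w : W0 F t L O α h)
include w

theorem ti : t⁻¹ = t := inv_eq_of_mul_eq_one_left w.t2
theorem tt (x : G) : t * (t * x) = x := by rw [← mul_assoc, w.t2, one_mul]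
theorem tt' (x : G) : x * t * t = x := by rw [mul_assoc, w.t2, mul_one]
theorem Lt {a : G} (ha : a ∈ L) : a * t = t * a := w.tL a ha
theorem ht {j : X} (hj : j ∈ F.J) : h j * t = t * h j := w.Lt (w.hL j hj)
theorem cjt {l : G} (hl : l ∈ L) : l * t * l⁻¹ = t := cj_fix.2 (w.Lt hl)
theorem tN : t ∈ 𝐍(L) := w.CN t rfl
theorem at1 : α t = 1 := w.cov.cen w.tL
theorem tO : t ∉ O := fun h => w.t1 ((P2.of_sq w.t2).eq_one (w.oddO t h))
theorem LO {a o : G} (ha : a ∈ L) (ho : o ∈ O) : a * o = o * a := w.OL ho a ha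
theorem hO {j : X} (hj : j ∈ F.J) {o : G} (ho : o ∈ O) : h j * o = o * h j := w.LO (w.hL j hj) ho
theorem LO1 {a : G} (ha : a ∈ L) (ho : a ∈ O) : a = 1 := w.inj a ha (w.cov.cen (w.OL ho))

theorem memO {k : G} (hk : k ∈ 𝐂(L)) (c : k * t = t * k) (o : Odd (orderOf k)) : k ∈ O := by
  refine (w.ker2 k hk c).elim id fun h => absurd ?_ w.t1
  exact (P2.of_sq w.t2).eq_one (Odd.of_dvd_nat (o.mul (w.oddO _ h)) (by
    have e : t = k⁻¹ * (k * t) := by group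
    conv_lhs => rw [e]
    rw [← orderOf_inv k]
    exact Commute.orderOf_mul_dvd_mul_orderOf (Commute.inv_left (Commute.mul_right rfl c))))

theorem cjO {g o : G} (c : g * t = t * g) (ho : o ∈ O) : g * o * g⁻¹ ∈ O :=
  w.memO (conj_mem_of_mem_normalizer (normalizer_le_normalizer_centralizer L (w.CN g c)) (w.OL ho))
    (((Commute.mul_left c (w.Ot o ho)).mul_left (Commute.inv_left c) :))
    (by rw [H9.orderOf_conj]; exact w.oddO o ho)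

theorem ker_P2 {k : G} (hk : k ∈ 𝐂(L)) (c : k * t = t * k) (h : P2 k) : k = 1 ∨ k = t :=
  (w.ker2 k hk c).imp (fun e => h.eq_one (w.oddO k e)) fun e => by
    have := (h.mul (P2.of_sq w.t2) c).eq_one (w.oddO _ e)
    rw [eq_inv_of_mul_eq_one_left this, w.ti]

/-- elements of `C(t)` acting as inner automorphisms -/
theorem ovr {g : G} (c : g * t = t * g) (hJ : α g ∈ F.J) :
    ∃ o ∈ O, g = h (α g) * o ∨ g = h (α g) * t * o := by
  have ha := w.hL _ hJ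
  have h1 := w.cov.inv_mul_mem (le_normalizer ha) (w.CN g c) (w.αh _ hJ)
  generalize h (α g) = a at ha h1
  rcases w.ker2 _ h1 ((Commute.inv_left (w.Lt ha)).mul_left c :) with h | h
  · exact ⟨_, h, Or.inl (by group)⟩
  · refine ⟨_, h, Or.inr ?_⟩
    rw [mul_assoc a, ← w.Ot _ h, mul_assoc (a⁻¹ * g), w.t2]; group

theorem over2 {g : G} (c : g * t = t * g) (g2 : P2 g) (hJ : α g ∈ F.J) : g = h (α g) ∨ g = h (α g) * t := by
  have ha := w.hL _ hJ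
  have a2 := w.p2 hJ (w.cov.p2 (w.CN g c) g2)
  obtain ⟨o, ho, e⟩ := w.ovr c hJ
  generalize h (α g) = a at ha a2 e
  rcases e with rfl | rfl
  · rw [a2.odd_eq_one g2 (w.LO ha ho) (w.oddO o ho), mul_one]; exact Or.inl rfl
  · rw [(a2.mul (P2.of_sq w.t2) (w.Lt ha)).odd_eq_one g2
      ((Commute.mul_left (w.LO ha ho) (w.Ot o ho).symm :)) (w.oddO o ho), mul_one]
    exact Or.inr rfl

theorem memLO {x : G} : x ∈ L ⊔ O ↔ ∃ a ∈ L, ∃ o ∈ O, x = a * o := mem_sup_comm fun _ ha _ ho => w.LO ha ho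

theorem t_not : t ∉ L ⊔ O := fun h => by
  obtain ⟨a, ha, o, ho, e⟩ := w.memLO.1 h
  refine w.tO (e ▸ ?_)
  rw [w.inj a ha (by rw [← w.cov.mul_cen (le_normalizer ha) (w.OL ho), ← e, w.at1]), one_mul]
  exact ho

theorem tL' : t ∉ L := fun h => w.t_not (mem_sup_left h)

theorem P2_mem {x : G} (hx : x ∈ L ⊔ O) (p : P2 x) : x ∈ L := by
  obtain ⟨a, ha, o, ho, rfl⟩ := w.memLO.1 hx
  have : P2 a := by
    have := w.p2 (w.cov.mem a ha) (w.cov.mul_cen (le_normalizer ha) (w.OL ho) ▸ w.cov.p2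
      (mul_mem (le_normalizer ha) (centralizer_le_normalizer _ (w.OL ho))) p)
    rwa [w.hα ha] at this
  rwa [this.odd_eq_one p (w.LO ha ho) (w.oddO o ho), mul_one]

variable (H : Fx F)
include H

/-- `C(t)' ≤ L O` -/
theorem comm_le {Y : Subgroup G} (c : ∀ g ∈ Y, g * t = t * g) : ⁅Y, Y⁆ ≤ L ⊔ O := by
  have cC : ∀ {g x}, g * t = t * g → x ∈ L ⊔ O → g * x * g⁻¹ ∈ L ⊔ O := fun {g x} hg hx => by
    obtain ⟨a, ha, o, ho, rfl⟩ := w.memLO.1 hx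
    rw [← conj_mul]
    exact mul_mem_sup (conj_mem_of_mem_normalizer (w.CN g hg) ha) (w.cjO hg ho)
  have inn : ∀ {g k}, g * t = t * g → k * t = t * k → α g ∈ F.J → ⁅g, k⁆ ∈ L ⊔ O := fun {g k} hg hk hJ => by
    have key : ∀ x ∈ L ⊔ O, ⁅x, k⁆ ∈ L ⊔ O := fun x hx => by
      rw [commutatorElement_def, mul_assoc, mul_assoc, ← mul_assoc k]
      exact mul_mem hx (cC hk (inv_mem hx))
    obtain ⟨o, ho, e | e⟩ := w.ovr hg hJ
    · exact e ▸ key _ (mul_mem_sup (w.hL _ hJ) ho)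
    · have := key _ (mul_mem_sup (w.hL _ hJ) ho)
      rw [e, mul_assoc, ← w.Ot o ho, ← mul_assoc]
      convert this using 1
      simp only [commutatorElement_def, mul_inv_rev]
      calc _ = h (α g) * o * (t * k * t⁻¹) * (o⁻¹ * (h (α g))⁻¹) * k⁻¹ := by group
        _ = _ := by rw [← hk, mul_inv_cancel_right]
  refine commutator_le.2 fun g hg k hk => ?_
  by_cases gJ : α g ∈ F.J
  · exact inn (c g hg) (c k hk) gJ
  by_cases kJ : α k ∈ F.J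
  · rw [← commutatorElement_inv]; exact inv_mem (inn (c k hk) (c g hg) kJ)
  have m := mul_mem (inv_mem hk) hg
  have := cC (c k hk) (inn (c _ m) (c k hk) (by
    rw [w.cov.mul _ (inv_mem (w.CN k (c k hk))) _ (w.CN g (c g hg)), w.cov.inv (w.CN k (c k hk))]
    exact H.inv_mul_mem kJ gJ))
  convert this using 1
  simp only [commutatorElement_def]; group

theorem pf_le {Y : Subgroup G} (c : ∀ g ∈ Y, g * t = t * g) (p : Pf Y) : Y ≤ L :=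
  p.2.trans ((closure_le _).2 fun _ hi => w.P2_mem (w.comm_le H c (p.1 hi.1)) (P2.of_sq hi.2))

/-- no conjugate of `t` lies in `L` -/
theorem not_conj [Finite X] (g : G) : g * t * g⁻¹ ∉ L := fun hg => by
  obtain ⟨P, PJ, -, c, m, -⟩ := H.inv_comm (w.cov.mem _ hg) (w.cov.sq (le_normalizer hg) (cjsq w.t2 g))
  have := cj_mem g⁻¹ (w.hat_comm PJ m)
  rw [w.hα hg, cj_commutator, show g⁻¹ * (g * t * g⁻¹) * g⁻¹⁻¹ = t by group] at this
  refine w.t_not (w.comm_le H ?_ this)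
  rintro _ ⟨_, ⟨y, hy, rfl⟩, rfl⟩
  have := cjc (j := g⁻¹) (w.comm y.2 (w.cov.mem _ hg) (c y hy))
  rw [w.hα hg, show g⁻¹ * (g * t * g⁻¹) * g⁻¹⁻¹ = t by group] at this
  exact this

end W0

theorem eqns_Basic : True := by
  have := @Iso.hom.eq_1.{0}
  have := @Iso.hat.eq_1.{0}
  trivial

end H36.SV
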