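import Mathlib
import Cfsg.Agent.Lib.StdV.Basic

/-! Standard subgroups of type `O'N`, `He`, `Suz`: the calculus of relations between the `e a`. -/

set_option autoImplicit false

namespace H36.SV

open Subgroup H69 H36.SW
open scoped commutatorElement

variable {X : Type} [Group X] {G : Type*} [Group G]

namespace Dy
variable (F : Dy X)

/-- `g` centralises `a`, `c` and `C_J(a, c)` -/
def CC (a c g : X) : Prop :=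
  g * a = a * g ∧ g * c = c * g ∧ ∀ d ∈ F.J, d * a = a * d → d * c = c * d → g * d = d * g

/-- what is used of the four-group `⟨a, a'⟩` -/
def Ln (a a' : X) : Prop :=
  (∃ σ ∈ F.J, σ * a * σ⁻¹ = a' ∧ σ * a' * σ⁻¹ = a * a') ∧
  (∀ g, F.CC a a' g → g = 1 ∨ g = a ∨ g = a' ∨ g = a * a') ∧
  ∃ c, F.Zc c ∧ ∃ κ ∈ F.J, κ * a' * κ⁻¹ = a * a' ∧ κ * c * κ⁻¹ = c ∧
    (∃ j ∈ F.J, j * a * j⁻¹ = a ∧ j * a' * j⁻¹ = a' * c) ∧ ∀ g, F.CC a' c g → κ * g * κ⁻¹ ≠ g * c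

/-- `O'N`: `a` inverts `f`; the two subgroups `4 ∘ 2^(1+4) . A5` of `M` -/
def Phi (a : X) : Prop :=
  F.f * F.f = F.z ∧ a ∈ F.D ∧ a * F.f * a⁻¹ = F.f⁻¹ ∧ (∃ x ∈ F.M, x⁻¹ * a * x = a * F.f) ∧
  (∀ g, (∀ m ∈ F.M, m * a = a * m → g * m = m * g) → g * F.f = F.f * g → g ∈ zpowers F.f) ∧
  ∃ x ∈ F.M, ∃ y ∈ F.M, ∃ w ∈ F.M, F.Ty F.z x ∧ F.Ty F.z y ∧ F.Ty F.z w ∧ x * y = w * F.f ∧
    ∃ E ≤ F.M, ∃ N ≤ F.M,
      (∀ c ∈ E, (c * x * c⁻¹ = x ∨ c * x * c⁻¹ = x * F.z) ∧ (c * y * c⁻¹ = y ∨ c * y * c⁻¹ = y * F.z)) ∧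
      (∀ g, (∀ c ∈ E, g * c = c * g) → g ∈ zpowers F.f) ∧ N ≤ ⁅N, N⁆ ∧ N ≤ 𝐍(E) ∧ E ≤ (N ⊔ E) ^ᶜ a ∧
      F.M ≤ (N ⊔ E) ⊔ (N ⊔ E) ^ᶜ a

end Dy

/-- The rules obeyed by `Ad a c m : e a * e c = e (a c) * m̂` and `Rw a c l : ⁅t (e a) t, e c⁆ = l̂`. -/
structure Ru (F : Dy X) (Ad Rw : X → X → X → Prop) : Prop where
  ty : ∀ a c, F.Ty a c → Ad a c 1
  ad_cj : ∀ j ∈ F.J, ∀ a c m, Ad a c m → Ad (j * a * j⁻¹) (j * c * j⁻¹) (j * m * j⁻¹)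
  ad_sym : ∀ a c, Ad a c 1 → Ad c a 1
  ad_rot : ∀ a c, Ad a c 1 → Ad a (a * c) 1
  shape : ∀ w a c, Ad w a 1 → Ad w c 1 → Ad w (a * c) 1 → (∀ g, F.CC a c g → g ∈ F.J ∧ P2 g) →
    ∃ m, F.CC a c m ∧ Ad a c m ∧ (∀ κ ∈ F.J, κ * a * κ⁻¹ = w * a → κ * c * κ⁻¹ = c → κ * m = m * κ) ∧
      ∀ κ ∈ F.J, κ * a * κ⁻¹ = a → κ * c * κ⁻¹ = w * c → κ * m = m * κ
  assoc : ∀ y k k' m1 m2 m3 m4, Ad y k m1 → Ad (y * k) k' m2 → Ad k k' m3 → Ad y (k * k') m4 →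
    m1 * k' = k' * m1 → m2 * m1 = m4 * m3
  rw_z : ∀ a, F.Zc a → Rw a a 1
  ad_rw : ∀ a c, Ad a c 1 → Rw a c 1
  rw_cj : ∀ j ∈ F.J, ∀ a c l, Rw a c l → Rw (j * a * j⁻¹) (j * c * j⁻¹) (j * l * j⁻¹)
  rw_sym : ∀ a c l, Rw a c l → Rw c a l⁻¹
  rw_uniq : ∀ a c l l', Rw a c l → Rw a c l' → l = l'
  add1 : ∀ w y k l1 l2, Ad y k 1 → Rw w y l1 → Rw w k l2 → l2 * y = y * l2 → Rw w (y * k) (l1 * l2)
  add2 : ∀ w y k l1 l2 l3, Ad y k 1 → Rw w y l1 → Rw w k l2 → Rw w (y * k) l3 → l2 * y = y * l2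
  tau : ∀ s a c, Ad s a 1 → Ad s c 1 → c * a * c = a * s →
    (∀ g, F.CC a c g → g ∈ F.J ∧ P2 g ∧ g * g * a ≠ 1) → ∃ l, F.CC a c l ∧ l * l = 1 ∧ Rw c a l
  clo : ∀ a b c, Rw a b 1 → Rw a c 1 → Rw b c 1 → Rw a (b * c * b) 1

/-- the relations between involutions of the class of `z` -/
structure Re (F : Dy X) : Prop where
  ln : F.Ln F.z F.q
  gen : ∃ S : Set X, F.J ≤ closure S ∧ (∀ s ∈ S, F.Zc s) ∧ ∀ Ad Rw : X → X → X → Prop, Ru F Ad Rw →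
    (∀ a, F.Phi a → Ad a F.z 1 → Ad (a * F.f) F.z 1 → Rw a (a * F.f) 1) → ∀ s ∈ S, ∀ s' ∈ S, Rw s s' 1

/-- `e a * e c = e (a c) * m̂` -/
def AdE (F : Dy X) (h e : X → G) (a c m : X) : Prop :=
  F.Zc a ∧ F.Zc c ∧ F.Zc (a * c) ∧ m ∈ F.J ∧ e a * e c = e (a * c) * h m

/-- `(e a · â) (e c) (e a · â) = l̂ (e c)`; here `e a · â = t (e a) t` -/
def RwE (F : Dy X) (h e : X → G) (a c l : X) : Prop :=
  F.Zc a ∧ F.Zc c ∧ l ∈ F.J ∧ e a * h a * e c * (e a * h a) = h l * e c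

variable {F : Dy X}

theorem cj_inj' {g x y : G} : g * x * g⁻¹ = g * y * g⁻¹ ↔ x = y := by simp

theorem cj_cj_inv (g x : G) : g * (g⁻¹ * x * g) * g⁻¹ = x := by group

theorem Fx.CC_cj (H : Fx F) (g : X) {a c m : X} :
    F.CC (g * a * g⁻¹) (g * c * g⁻¹) (g * m * g⁻¹) ↔ F.CC a c m := by
  have key : ∀ (g : X) {a c m : X}, F.CC a c m → F.CC (g * a * g⁻¹) (g * c * g⁻¹) (g * m * g⁻¹) :=
    fun g a c m ⟨h1, h2, h3⟩ => ⟨cjc h1, cjc h2, fun d hd e1 e2 => by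
      rw [← cj_cj_inv g d] at e1 e2 ⊢
      simp only [conj_mul, cj_inj'] at e1 e2
      exact cjc (h3 _ (by simpa using H.cjJ hd g⁻¹) e1 e2)⟩
  exact ⟨fun h => by simpa [mul_assoc] using key g⁻¹ h, key g⟩

theorem Fx.Ln_cj (H : Fx F) {a a' : X} (h : F.Ln a a') (g : X) : F.Ln (g * a * g⁻¹) (g * a' * g⁻¹) := by
  obtain ⟨⟨σ, hσ, e1, e2⟩, h1, c, zc, κ, hκ, e3, e4, ⟨j, hj, e5, e6⟩, h2⟩ := h
  have cc : ∀ {x y z : X}, x * y * x⁻¹ = z → g * x * g⁻¹ * (g * y * g⁻¹) * (g * x * g⁻¹)⁻¹ = g * z * g⁻¹ :=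
    fun e => by rw [← e]; group
  refine ⟨⟨_, H.cjJ hσ g, cc e1, by rw [cc e2, conj_mul]⟩, fun x hx => ?_, _, H.Zc_cj zc g, _, H.cjJ hκ g,
    by rw [cc e3, conj_mul], cc e4, ⟨_, H.cjJ hj g, cc e5, by rw [cc e6, conj_mul]⟩, fun x hx => ?_⟩ <;>
    rw [← cj_cj_inv g x] at hx ⊢ <;> rw [H.CC_cj] at hx
  · rw [conj_mul]
    rcases h1 _ hx with e | e | e | e <;> rw [e] <;> simp
  · rw [cc rfl, conj_mul, Ne, cj_inj']; exact h2 _ hx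

/-- the rules are invariant under conjugation by `X` -/
theorem Ru.cj (H : Fx F) {Ad Rw : X → X → X → Prop} (r : Ru F Ad Rw) (g : X) :
    Ru F (fun a c m => Ad (g * a * g⁻¹) (g * c * g⁻¹) (g * m * g⁻¹))
      fun a c m => Rw (g * a * g⁻¹) (g * c * g⁻¹) (g * m * g⁻¹) := by
  have o : g * 1 * g⁻¹ = 1 := by group
  have cc : ∀ x y : X, g * (x * y * x⁻¹) * g⁻¹ = g * x * g⁻¹ * (g * y * g⁻¹) * (g * x * g⁻¹)⁻¹ :=
    fun x y => by group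
  have p2 : ∀ {x : X}, P2 (g⁻¹ * x * g) → P2 x := fun h => by simpa [mul_assoc] using h.conj g
  have mJ : ∀ {x : X}, g⁻¹ * x * g ∈ F.J → x ∈ F.J := fun h => by simpa [mul_assoc] using H.cjJ h g
  have CC : ∀ {a c x : X}, F.CC (g * a * g⁻¹) (g * c * g⁻¹) x → F.CC a c (g⁻¹ * x * g) := fun h => by
    rwa [← H.CC_cj g, cj_cj_inv]
  have cm : ∀ {x m : X}, g * x * g⁻¹ * m = m * (g * x * g⁻¹) → x * (g⁻¹ * m * g) = g⁻¹ * m * g * x :=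
    fun {x m} h => by
      calc _ = g⁻¹ * (g * x * g⁻¹ * m) * g := by group
        _ = _ := by rw [h]; group
  refine ⟨fun a c h => ?_, fun j hj a c m h => ?_, fun a c h => ?_, fun a c h => ?_, fun w a c h1 h2 h3 h => ?_,
    fun y k k' m1 m2 m3 m4 h1 h2 h3 h4 e => ?_, fun a h => ?_, fun a c h => ?_, fun j hj a c m h => ?_,
    fun a c l h => ?_, fun a c l l' h h' => ?_, fun w y k l1 l2 h1 h2 h3 e => ?_,
    fun w y k l1 l2 l3 h1 h2 h3 h4 => ?_, fun s a c h1 h2 e h => ?_, fun a b c h1 h2 h3 => ?_⟩ <;>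
    simp only [o, ← conj_mul] at *
  · exact r.ty _ _ (h.cj g)
  · simpa only [conj_inv] using r.ad_cj _ (H.cjJ hj g) _ _ _ h
  · exact r.ad_sym _ _ h
  · exact r.ad_rot _ _ h
  · obtain ⟨m, c1, c2, c3, c4⟩ := r.shape _ _ _ h1 h2 h3 fun x hx => ⟨mJ (h _ (CC hx)).1, p2 (h _ (CC hx)).2⟩
    exact ⟨_, CC c1, by rwa [cj_cj_inv], fun κ hκ e1 e2 => cm (c3 _ (H.cjJ hκ g)
        (by rw [conj_inv, conj_mul, conj_mul, conj_mul, e1]) (by rw [conj_inv, conj_mul, conj_mul, e2])),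
      fun κ hκ e1 e2 => cm (c4 _ (H.cjJ hκ g)
        (by rw [conj_inv, conj_mul, conj_mul, e1]) (by rw [conj_inv, conj_mul, conj_mul, conj_mul, e2]))⟩
  · have := r.assoc _ _ _ _ _ _ _ h1 h2 h3 h4 (cjc e)
    rwa [conj_mul, conj_mul, cj_inj'] at this
  · exact r.rw_z _ (H.Zc_cj h g)
  · exact r.ad_rw _ _ h
  · simpa only [conj_inv] using r.rw_cj _ (H.cjJ hj g) _ _ _ h
  · simpa only [conj_inv] using r.rw_sym _ _ _ h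
  · exact cj_inj'.1 (r.rw_uniq _ _ _ _ h h')
  · exact r.add1 _ _ _ _ _ h1 h2 h3 (cjc e)
  · have := r.add2 _ _ _ _ _ _ h1 h2 h3 h4
    rwa [conj_mul, conj_mul, cj_inj'] at this
  · obtain ⟨l, c1, c2, c3⟩ := r.tau _ _ _ h1 h2 (by rw [conj_mul, conj_mul, e, conj_mul])
      fun x hx => ⟨mJ (h _ (CC hx)).1, p2 (h _ (CC hx)).2.1, fun e => (h _ (CC hx)).2.2 (by
        calc _ = g⁻¹ * (x * x * (g * a * g⁻¹)) * g := by group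
          _ = 1 := by rw [e]; group)⟩
    exact ⟨_, CC c1, by simpa using cjsq c2 g⁻¹, by rwa [cj_cj_inv]⟩
  · exact r.clo _ _ _ h1 h2 h3

theorem eqns_Defs2 : True := by
  have := @Dy.CC.eq_1
  have := @Dy.Ln.eq_1
  have := @Dy.Phi.eq_1
  have := @AdE.eq_1.{0}
  have := @RwE.eq_1.{0}
  trivial

end H36.SV
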