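import Mathlib
import Cfsg.Prelude.Def_KGroupFacts
import Cfsg.Agent.Lib.StdV.Defs2
import Cfsg.Agent.Lib.StdW.Mod0
import Cfsg.Agent.Lib.CGT.Pres

/-! `X = Γ.2` from a permutation model of `Γ`: word oracles and local permutation models. -/

set_option autoImplicit false

namespace H36.SV

open Subgroup H54 Function
open H92.SW (cs mem_cs cs_le lw_nil lw_one lw_cons lw_rep base_lt)

section words
variable {X : Type} [Group X] {y : ℕ → X} {K : Subgroup X} {ew nw : List ℕ → List ℕ → Bool}

/-- substitution of words for letters -/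
noncomputable def sb (Y : List (List ℕ)) (w : List ℕ) : List ℕ :=
  List.rec (motive := fun _ => List ℕ) [] (fun l _ ih => nthW Y l ++ ih) w

theorem lw_sb (Y : List (List ℕ)) : ∀ w : List ℕ, lw y (sb Y w) = lw (fun i => lw y (nthW Y i)) w
  | [] => rfl
  | l :: w => by
    show lw y (nthW Y l ++ sb Y w) = _
    rw [lw_append, lw_sb Y w, lw_cons]

theorem map_lw {G : Type} [Group G] (φ : X →* G) (w : List ℕ) : φ (lw y w) = lw (fun i => φ (y i)) w := by
  rw [lw, lw, map_list_prod, List.map_map]; rfl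

theorem lw_congr {y' : ℕ → X} {w : List ℕ} (h : ∀ l ∈ w, y l = y' l) : lw y w = lw y' w := by
  rw [lw, lw, List.map_congr_left h]

theorem lw_mem {H : Subgroup X} {w : List ℕ} (h : ∀ l ∈ w, y l ∈ H) : lw y w ∈ H :=
  Subgroup.list_prod_mem _ fun _ hg => let ⟨l, hl, e⟩ := List.mem_map.1 hg; e ▸ h l hl

/-- all letters of `u` are in `L` -/
noncomputable def sub (u L : List ℕ) : Bool := allL (fun l => anyL (Nat.beq l) L) u

theorem mem_sub {u L : List ℕ} (e : sub u L = true) : lw y u ∈ cs y L := H92.SW.mem_sub e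

/-- with the letter `0` replaced -/
theorem mem_upd {u L : List ℕ} {g : X} (e : sub u L = true) (h : 0 ∉ L := by decide) :
    lw (update y 0 g) u ∈ cs y L := H92.SW.mem_upd e h

theorem lw_upd {u : List ℕ} {g : X} (h : 0 ∉ u) : lw (update y 0 g) u = lw y u :=
  lw_congr fun l hl => update_of_ne (fun e : l = 0 => h (e ▸ hl)) _ _

/-- tests for equality and inequality of words modulo `K` -/
structure Or (y : ℕ → X) (K : Subgroup X) (ew nw : List ℕ → List ℕ → Bool) : Prop where
  eqK : ∀ {v w}, ew v w = true → (lw y v)⁻¹ * lw y w ∈ K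
  neK : ∀ {v w}, nw v w = true → (lw y v)⁻¹ * lw y w ∉ K

theorem Or.ne (o : Or y K ew nw) {v w : List ℕ} (e : nw v w = true) : lw y v ≠ lw y w := fun h =>
  o.neK e (by rw [h, inv_mul_cancel]; exact one_mem _)

theorem Or.eq (o : Or y ⊥ ew nw) {v w : List ℕ} (e : ew v w = true) : lw y v = lw y w :=
  inv_mul_eq_one.1 (mem_bot.1 (o.eqK e))

theorem Or.cm (o : Or y ⊥ ew nw) {u v : List ℕ} (e : ew (u ++ v) (v ++ u) = true) :
    lw y u * lw y v = lw y v * lw y u := by rw [← lw_append, ← lw_append, o.eq e]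

theorem Or.nc (o : Or y K ew nw) {u v : List ℕ} (e : nw (u ++ v) (v ++ u) = true) :
    lw y u * lw y v ≠ lw y v * lw y u := by rw [← lw_append, ← lw_append]; exact o.ne e

theorem Or.cj (o : Or y ⊥ ew nw) {u a v : List ℕ} (e : ew (u ++ a) (v ++ u) = true) :
    lw y u * lw y a * (lw y u)⁻¹ = lw y v := by
  rw [mul_inv_eq_iff_eq_mul, ← lw_append, ← lw_append, o.eq e]

theorem Or.sb (o : Or y K ew nw) (Y : List (List ℕ)) :
    Or (fun i => lw y (nthW Y i)) K (fun v w => ew (sb Y v) (sb Y w)) fun v w => nw (sb Y v) (sb Y w) :=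
  ⟨fun e => by simpa only [lw_sb] using o.eqK e, fun e => by simpa only [lw_sb] using o.neK e⟩

end words

section model
variable {Γ Ω : Type} [Group Γ] [MulAction Γ Ω]

/-- a permutation model with letters `y` and base `bs` -/
structure Gm (y : ℕ → Γ) (n : ℕ) (pt : ℕ → Ω) (act : ℕ → ℕ → ℕ) (bs : List ℕ) : Prop where
  inj : ∀ i j, i < n → j < n → pt i = pt j → i = j
  rep : ∀ l u, u < n → act l u < n ∧ y l • pt u = pt (act l u)
  lt : ∀ b ∈ bs, b < n
  base : ∀ g : Γ, (∀ b ∈ bs, g • pt b = pt b) → g = 1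

noncomputable def ap (act : ℕ → ℕ → ℕ) (w : List ℕ) (u : ℕ) : ℕ :=
  List.rec (motive := fun _ => ℕ) u (fun l _ ih => force ih (act l)) w

noncomputable def ewG (act : ℕ → ℕ → ℕ) (bs v w : List ℕ) : Bool :=
  allL (fun b => Nat.beq (ap act v b) (ap act w b)) bs

noncomputable def nwG (act : ℕ → ℕ → ℕ) (bs v w : List ℕ) : Bool :=
  anyL (fun b => bnot (Nat.beq (ap act v b) (ap act w b))) bs

variable {y : ℕ → Γ} {n : ℕ} {pt : ℕ → Ω} {act : ℕ → ℕ → ℕ} {bs : List ℕ}

theorem Gm.ap (m : Gm y n pt act bs) {u : ℕ} (hu : u < n) :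
    ∀ w : List ℕ, ap act w u < n ∧ lw y w • pt u = pt (ap act w u)
  | [] => ⟨hu, one_smul _ _⟩
  | l :: w => by
    have h := m.ap hu w
    have e : H36.SV.ap act (l :: w) u = act l (H36.SV.ap act w u) := force_eq _ _
    rw [e, lw_cons, mul_smul, h.2]
    exact m.rep l _ h.1

theorem Gm.or (m : Gm y n pt act bs) : Or y ⊥ (ewG act bs) (nwG act bs) := by
  refine ⟨fun {v w} e => m.base _ fun b hb => ?_, fun {v w} e h => ?_⟩
  · rw [mul_smul, inv_smul_eq_iff, (m.ap (m.lt b hb) v).2, (m.ap (m.lt b hb) w).2,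
      Nat.eq_of_beq_eq_true ((allL_iff _ _).1 e b hb)]
  · obtain ⟨b, hb, e⟩ := (anyL_iff _ _).1 e
    rw [bnot_eq_true, Nat.beq_eq] at e
    rw [mem_bot, inv_mul_eq_one] at h
    exact e (m.inj _ _ (m.ap (m.lt b hb) v).1 (m.ap (m.lt b hb) w).1
      (by rw [← (m.ap (m.lt b hb) v).2, ← (m.ap (m.lt b hb) w).2, h]))

/-- the action of `±1` through an automorphism of order two -/
def tw (s : MulAut Γ) (h : s * s = 1) : ℤˣ →* MulAut Γ where
  toFun u := if u = 1 then 1 else s
  map_one' := if_pos rfl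
  map_mul' a b := by
    rcases Int.units_eq_one_or a with rfl | rfl <;> rcases Int.units_eq_one_or b with rfl | rfl <;> simp [h]

/-- `Γ.2` -/
abbrev XX (s : MulAut Γ) (h : s * s = 1) : Type := Γ ⋊[tw s h] ℤˣ

/-- two copies of the points -/
def Ind (Ω : Type) : Type := Ω × ℤˣ

variable {s : MulAut Γ} {hs : s * s = 1}

instance : MulAction (XX s hs) (Ind Ω) where
  smul x p := (tw s hs (x.right * p.2) x.left • p.1, x.right * p.2)
  one_smul p := by
    show (tw s hs ((1 : XX s hs).right * p.2) (1 : XX s hs).left • p.1, (1 : XX s hs).right * p.2) = (p.1, p.2)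
    simp
  mul_smul a b p := by
    show (tw s hs ((a * b).right * p.2) (a * b).left • p.1, (a * b).right * p.2) =
      (tw s hs (a.right * (b.right * p.2)) a.left • tw s hs (b.right * p.2) b.left • p.1, a.right * (b.right * p.2))
    rw [SemidirectProduct.mul_right, SemidirectProduct.mul_left, map_mul (tw s hs _), mul_smul, ← MulAut.mul_apply,
      ← map_mul, mul_assoc, mul_comm _ a.right, ← mul_assoc a.right a.right, Int.units_mul_self, one_mul]

theorem smul_ind (x : XX s hs) (u : Ω) (e : ℤˣ) : x • (show Ind Ω from (u, e)) =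
    (show Ind Ω from (tw s hs (x.right * e) x.left • u, x.right * e)) := rfl

def sg (e : ℕ) : ℤˣ := if e = 0 then 1 else -1

/-- the point `u / 2` in the copy `u % 2` -/
def pt2 (pt : ℕ → Ω) (u : ℕ) : Ind Ω := (pt (u / 2), sg (u % 2))

def eps (EM l : ℕ) : ℕ := Nat.land (Nat.shiftRight EM l) 1

/-- the letter `l` is the word `E l`, times the automorphism if bit `l` of `EM` is set -/
noncomputable def y2 (s : MulAut Γ) (hs : s * s = 1) (y : ℕ → Γ) (E : List (List ℕ)) (EM l : ℕ) : XX s hs :=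
  ⟨lw y (nthW E l), sg (eps EM l)⟩

noncomputable def act2 (act : ℕ → ℕ → ℕ) (E E' : List (List ℕ)) (EM l u : ℕ) : ℕ :=
  force (Nat.xor (Nat.land u 1) (eps EM l)) fun e =>
    Nat.add e (Nat.mul 2 (ap act (sel (Nat.beq e 0) (nthW E l) (nthW E' l)) (Nat.shiftRight u 1)))

/-- the parity of a word -/
noncomputable def pw (EM : ℕ) (w : List ℕ) : ℕ :=
  List.rec (motive := fun _ => ℕ) 0 (fun l _ ih => Nat.xor (eps EM l) ih) w

theorem eps_le (EM l : ℕ) : eps EM l ≤ 1 := Nat.and_le_right

theorem sg_xor {a b : ℕ} (ha : a ≤ 1) (hb : b ≤ 1) : Nat.xor a b ≤ 1 ∧ sg (Nat.xor a b) = sg a * sg b := by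
  interval_cases a <;> interval_cases b <;> decide

theorem Gm.two (m : Gm y n pt act bs) (h0 : bs ≠ []) {E E' : List (List ℕ)} (EM : ℕ)
    (h : ∀ l, s (lw y (nthW E l)) = lw y (nthW E' l)) :
    Gm (y2 s hs y E EM) (2 * n) (pt2 pt) (act2 act E E' EM) (bs.map (2 * ·)) := by
  refine ⟨fun i j hi hj e => ?_, fun l u hu => ?_, fun b hb => ?_, fun g hg => ?_⟩
  · have e1 := m.inj _ _ (by omega) (by omega) (congrArg Prod.fst e)
    have e2 : sg (i % 2) = sg (j % 2) := congrArg Prod.snd e
    rcases Nat.mod_two_eq_zero_or_one i with a | a <;> rcases Nat.mod_two_eq_zero_or_one j with b | b <;>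
      rw [a, b] at e2 <;> first | omega | exact absurd e2 (by decide)
  · have a : Nat.land u 1 = u % 2 := Nat.and_one_is_mod u
    have b : Nat.shiftRight u 1 = u / 2 := Nat.shiftRight_one u
    obtain ⟨c, d⟩ := sg_xor (show u % 2 ≤ 1 by omega) (eps_le EM l)
    rw [act2, force_eq, a, b]
    generalize Nat.xor (u % 2) (eps EM l) = e at c d
    have k := m.ap (show u / 2 < n by omega) (sel (Nat.beq e 0) (nthW E l) (nthW E' l))
    generalize H36.SV.ap act (sel (Nat.beq e 0) (nthW E l) (nthW E' l)) (u / 2) = v at k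
    have e1 : Nat.add e (Nat.mul 2 v) = e + 2 * v := rfl
    refine ⟨by omega, ?_⟩
    rw [e1, pt2, pt2, smul_ind, show (e + 2 * v) / 2 = v by omega, show (e + 2 * v) % 2 = e by omega, ← k.2]
    show (tw s hs (sg (eps EM l) * sg (u % 2)) (lw y (nthW E l)) • _, sg (eps EM l) * sg (u % 2)) = _
    rw [mul_comm, ← d]
    interval_cases e
    · rfl
    · rw [show sel (Nat.beq 1 0) (nthW E l) (nthW E' l) = nthW E' l from rfl, ← h]; rfl
  · obtain ⟨a, ha, rfl⟩ := List.mem_map.1 hb
    have := m.lt a ha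
    omega
  · have k : ∀ b ∈ bs, tw s hs g.right g.left • pt b = pt b ∧ g.right = 1 := fun b hb => by
      have := hg _ (List.mem_map_of_mem hb)
      rw [pt2, smul_ind, show 2 * b / 2 = b by omega, show 2 * b % 2 = 0 by omega, show sg 0 = 1 from rfl,
        mul_one] at this
      exact Prod.ext_iff.1 this
    obtain ⟨b, hb⟩ := List.exists_mem_of_ne_nil _ h0
    have e := (k b hb).2
    rw [e, map_one] at k
    exact SemidirectProduct.ext (m.base _ fun b hb => (k b hb).1) e

/-- images of the letters under an endomorphism, from the images of the first `k0` letters -/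
theorem Gm.im (m : Gm y n pt act bs) (φ : Γ →* Γ) {Im U : List (List ℕ)} {k0 k : ℕ}
    (h0 : ∀ l, l < k0 → φ (y l) = lw y (nthW Im l))
    (e : allFrom (fun l => band (allL (fun i => Nat.ble (Nat.succ i) l) (nthW U l))
      (band (ewG act bs [l] (nthW U l)) (ewG act bs (sb Im (nthW U l)) (nthW Im l)))) k0 k = true)
    {v w : List ℕ} (e' : band (allL (fun i => Nat.ble (Nat.succ i) (Nat.add k0 k)) v)
      (ewG act bs (sb Im v) w) = true) : φ (lw y v) = lw y w := by
  have key : ∀ {v w : List ℕ}, (∀ i ∈ v, φ (y i) = lw y (nthW Im i)) → ewG act bs (sb Im v) w = true →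
      φ (lw y v) = lw y w := fun h e => by rw [map_lw, lw_congr h, ← lw_sb, m.or.eq e]
  simp only [allFrom_iff, band_eq_true, allL_iff, Nat.ble_eq] at e e'
  have : ∀ l, l < k0 + k → φ (y l) = lw y (nthW Im l) := fun l => by
    induction l using Nat.strong_induction_on with
    | _ l ih =>
      intro hl
      rcases lt_or_ge l k0 with h | h
      · exact h0 l h
      obtain ⟨a, b, c⟩ := e l h hl
      rw [← lw_one (lt := y) l, m.or.eq b]
      exact key (fun i hi => ih i (a i hi) (lt_trans (a i hi) hl)) c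
  exact key (fun i hi => this i (e'.1 i hi)) e'.2

end model

/-- what is known of `X = J.2` and its letters -/
structure Bs {X : Type} [Group X] (J : Subgroup X) (y : ℕ → X) (ew nw : List ℕ → List ℕ → Bool) (EM N : ℕ) :
    Prop where
  or : Or y ⊥ ew nw
  par : ∀ v, lw y v ∈ J ↔ pw EM v = 0
  idx : J.index = 2
  simple : IsSimpleGroup J
  card : Nat.card J = N
  cA : Nat.card (MulAut J) ≤ 2 * N

section
variable {Γ Ω : Type} [Group Γ] [MulAction Γ Ω] {s : MulAut Γ} {hs : s * s = 1}

/-- the subgroup `Γ` of `Γ.2` -/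
def JJ (s : MulAut Γ) (hs : s * s = 1) : Subgroup (XX s hs) := (SemidirectProduct.inl (φ := tw s hs)).range

theorem mem_JJ {x : XX s hs} : x ∈ JJ s hs ↔ x.right = 1 := by
  rw [JJ, SemidirectProduct.range_inl_eq_ker_rightHom]; rfl

noncomputable def eJ (s : MulAut Γ) (hs : s * s = 1) : Γ ≃* JJ s hs :=
  MonoidHom.ofInjective SemidirectProduct.inl_injective

instance [Finite Γ] : Finite (XX s hs) := Finite.of_equiv _ SemidirectProduct.equivProd.symm

theorem bs_two [Finite Γ] [IsSimpleGroup Γ] {y : ℕ → Γ} {E : List (List ℕ)} {EM n N : ℕ} {pt : ℕ → Ind Ω}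
    {act : ℕ → ℕ → ℕ} {bs : List ℕ} (m : Gm (y2 s hs y E EM) n pt act bs) (hN : Nat.card Γ = N)
    (hO : Nat.card (Cfsg.Out Γ) = 2) : Bs (JJ s hs) (y2 s hs y E EM) (ewG act bs) (nwG act bs) EM N := by
  refine ⟨m.or, fun v => ?_, ?_, (eJ s hs).symm.isSimpleGroup, (Nat.card_congr (eJ s hs).symm.toEquiv).trans hN, ?_⟩
  · have : pw EM v ≤ 1 ∧ (lw (y2 s hs y E EM) v).right = sg (pw EM v) := by
      induction v with
      | nil => exact ⟨Nat.zero_le _, rfl⟩
      | cons l v ih =>
        have := sg_xor (eps_le EM l) ih.1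
        exact ⟨this.1, by rw [lw_cons, SemidirectProduct.mul_right, ih.2]; exact this.2.symm⟩
    rw [mem_JJ, this.2]
    obtain ⟨a, -⟩ := this
    interval_cases pw EM v <;> decide
  · rw [JJ, SemidirectProduct.range_inl_eq_ker_rightHom, index_ker,
      MonoidHom.range_eq_top.2 SemidirectProduct.rightHom_surjective, card_top, Nat.card_eq_fintype_card]
    rfl
  · rw [← Nat.card_congr (MulAut.congr (eJ s hs)).toEquiv, card_eq_card_quotient_mul_card_subgroup (Cfsg.Inn Γ),
      ← hN]
    exact Nat.mul_le_mul hO.le (Nat.card_le_card_of_surjective _ (MonoidHom.rangeRestrict_surjective _))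

/-- the centraliser in `J` of an element of `J` -/
theorem card_cent [Finite Γ] (a : Γ) : Nat.card (JJ s hs ⊓ centralizer {(⟨a, 1⟩ : XX s hs)} : Subgroup _) ≤
    Nat.card (centralizer {a}) := by
  refine Nat.card_le_card_of_injective (fun x => ⟨x.1.left, mem_centralizer_singleton_iff.2 ?_⟩) fun x x' e => ?_
  · have := congrArg SemidirectProduct.left (mem_centralizer_singleton_iff.1 x.2.2)
    simpa [mem_JJ.1 x.2.1] using this
  · exact Subtype.ext (SemidirectProduct.ext (congrArg Subtype.val e) ((mem_JJ.1 x.2.1).trans (mem_JJ.1 x'.2.1).symm))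

end

theorem eqns_XM : True := by
  have := @sb.eq_1
  have := @sub.eq_1
  have := @ap.eq_1
  have := @ewG.eq_1
  have := @nwG.eq_1
  have := @tw.eq_1
  have := @Ind.eq_1
  have := @sg.eq_1
  have := @pt2.eq_1
  have := @eps.eq_1
  have := @y2.eq_1
  have := @act2.eq_1
  have := @pw.eq_1
  have := @JJ.eq_1
  have := @eJ.eq_1
  trivial

end H36.SV
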