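import Mathlib
import Cfsg.Agent.Lib.StdV.XM

/-! Local permutation models of subgroups of `X`, faithful modulo `K`. -/

set_option autoImplicit false

namespace H36.SV

open Subgroup H54 Function
open H92.SW (cs mem_cs cs_le lw_nil lw_one lw_cons lw_rep base_lt)

variable {X Ω : Type} [Group X] [MulAction X Ω] {y : ℕ → X} {c : Cfg} {pt : ℕ → Ω} {V : ℕ} {cl : ℕ → ℕ}
  {K P H : Subgroup X} {ch ch' : Chain}

/-- `ch` is a stabiliser chain of `H`, whose kernel on the points is `H ⊓ K` -/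
structure Gd (c : Cfg) (pt : ℕ → Ω) (K H : Subgroup X) (ch : Chain) : Prop where
  x : Ctx c pt
  ker : ∀ g ∈ H, g ∈ Kfix X c pt ↔ g ∈ K
  good : Good c pt ch (⊤ : Subgroup H)

theorem Gd.card (a : Gd c pt K H ch) : Nat.card H = Nat.card (H ⊓ K : Subgroup X) * ch.size c.n := by
  have e : Kfix H c pt = K.subgroupOf H := by ext g; exact a.ker g g.2
  rw [← a.good.relIndex a.x, relIndex_top_right, e, ← (K.subgroupOf H).card_mul_index, ← inf_subgroupOf_left,
    Nat.card_congr (subgroupOfEquivOfLe inf_le_left).toEquiv]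

theorem Gd.card_bot (a : Gd c pt ⊥ H ch) : Nat.card H = ch.size c.n := by
  simpa using a.card

theorem Gd.all (a : Gd c pt K H ch) {Q : ℕ → Bool} (e : allElts c Q ch c.one = true) {g : X} (hg : g ∈ H) :
    ∃ p, Rep c pt g p ∧ Q p = true := a.good.forall_of_allElts a.x e ⟨g, hg⟩ trivial

/-- membership modulo the kernel -/
theorem Gd.memb (a : Gd c pt K H ch) {g : X} {p : ℕ} (r : Rep c pt g p) (e : memb c ch p = true) :
    ∃ h ∈ H, h⁻¹ * g ∈ Kfix X c pt :=
  let ⟨h, _, rh⟩ := a.good.in_of_memb a.x e; ⟨h, h.2, RepF.unique (rep_coe.1 rh) r⟩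

theorem Gd.notMemb (a : Gd c pt K H ch) {g : X} {p : ℕ} (r : Rep c pt g p) (e : notMemb c ch p = true) : g ∉ H :=
  fun h => a.good.not_mem_of_notMemb a.x e (g := ⟨g, h⟩) r trivial

/-- the letters in the set `V` lie in `P` and are coded by `cl` -/
structure Lr (y : ℕ → X) (c : Cfg) (pt : ℕ → Ω) (V : ℕ) (cl : ℕ → ℕ) : Prop where
  x : Ctx c pt
  rep : ∀ l, tb V l = true → Rep c pt (y l) (cl l)

theorem Lr.wl (m : Lr y c pt V cl) : ∀ {w : List ℕ}, allL (tb V) w = true → RepF c pt (lw y w) (wl c cl w)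
  | [], _ => repF_one
  | l :: w, e => by
    rw [allL_iff] at e
    rw [lw_cons]
    exact (RepF.mul (m.rep l (e l List.mem_cons_self))
      (m.wl ((allL_iff _ _).2 fun i hi => e i (List.mem_cons_of_mem _ hi)))).congr fun i _ => force_eq _ _

/-- the code of a word -/
noncomputable def wc (c : Cfg) (cl : ℕ → ℕ) (w : List ℕ) : ℕ :=
  Nat.xor (c.mkArr (wl c cl w)) (Nat.shiftLeft (Nat.shiftRight c.one (Nat.mul c.b c.n)) (Nat.mul c.b c.n))

theorem Lr.wc (m : Lr y c pt V cl) {w : List ℕ} (e : allL (tb V) w = true) : Rep c pt (lw y w) (wc c cl w) :=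
  (m.wl e).congr fun i hi => by
    rw [m.x.ok.get_eq]
    show dig c.b (c.mkArr (H54.wl c cl w) ^^^ ((c.one >>> (c.b * c.n)) <<< (c.b * c.n))) i = _
    rw [dig_xor, dig_shiftLeft, if_neg (by omega), Nat.xor_zero, ← m.x.ok.get_eq, m.x.ok.get_mkArr _ _ hi,
      Nat.mod_eq_of_lt (lt_of_lt_of_le (m.wl e i hi).1 (m.x.ok.n_le.trans m.x.ok.N_le))]

/-- the generators of the chain are the codes of the letters `L` -/
noncomputable def gnL (V : ℕ) (cl : ℕ → ℕ) (ch : Chain) (L : List ℕ) : Bool :=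
  band (allL (tb V) L) (eqL ch.gens (L.map cl))

theorem Lr.gens (m : Lr y c pt V cl) {L : List ℕ} (e : gnL V cl ch L = true) :
    (∀ s ∈ ch.gens, In c pt (⊤ : Subgroup (cs y L)) s) ∧ grp (cs y L) c pt ch.gens = ⊤ := by
  rw [gnL, band_eq_true, allL_iff] at e
  rw [eq_of_eqL _ _ e.2]
  refine ⟨fun s hs => ?_, top_le_iff.1 fun g _ => ?_⟩
  · obtain ⟨l, hl, rfl⟩ := List.mem_map.1 hs
    exact ⟨⟨_, mem_cs y hl⟩, trivial, m.rep l (e.1 l hl)⟩
  · have : cs y L ≤ (grp (cs y L) c pt (L.map cl)).map (cs y L).subtype := cs_le fun l hl =>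
      ⟨⟨_, mem_cs y hl⟩, mem_grp_of_rep (List.mem_map_of_mem hl) (m.rep l (e.1 l hl)), rfl⟩
    obtain ⟨g', h, e⟩ := this g.2
    exact Subtype.ext e ▸ h

/-- a chain from an upper bound for the order -/
theorem Lr.of_low [Finite X] (m : Lr y c pt V cl) {L : List ℕ} (e : gnL V cl ch L = true) (hl : checkLow c ch = true)
    (hP : cs y L ≤ P) (hK : K ≤ cs y L) (hK' : K ≤ Kfix X c pt) {k : ℕ} (hk : k ≤ Nat.card K)
    (hc : Nat.card P ≤ k * ch.size c.n) : cs y L = P ∧ Gd c pt K P ch := by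
  have lo := low_of_check m.x (m.gens e).1 hl
  have h0 : (Kfix (cs y L) c pt).relIndex ⊤ ≠ 0 := by rw [relIndex_top_right]; exact index_ne_zero_of_finite
  have h1 := lo.size_le m.x le_top h0
  have h2 : K.subgroupOf (cs y L) ≤ Kfix (cs y L) c pt := fun g hg => hK' hg
  have h3 := card_le_of_le h2
  rw [Nat.card_congr (subgroupOfEquivOfLe hK).toEquiv] at h3
  have h4 := (Kfix (cs y L) c pt).card_mul_index
  have h5 := card_le_of_le hP
  have p1 : 0 < Nat.card (Kfix (cs y L) c pt) := Nat.card_pos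
  rw [relIndex_top_right] at h1 h0
  have h6 : Nat.card (Kfix (cs y L) c pt) * (Kfix (cs y L) c pt).index ≤ k * ch.size c.n := by omega
  have h7 : (Kfix (cs y L) c pt).index ≤ ch.size c.n :=
    Nat.le_of_mul_le_mul_left (h6.trans (Nat.mul_le_mul_right _ (hk.trans h3))) p1
  have h8 : Nat.card (Kfix (cs y L) c pt) ≤ Nat.card K := (Nat.le_of_mul_le_mul_right
    (h6.trans (Nat.mul_le_mul_left _ h1)) (Nat.pos_of_ne_zero h0)).trans hk
  obtain rfl : cs y L = P := eq_of_le_of_card_ge hP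
    (hc.trans (h4 ▸ Nat.mul_le_mul (hk.trans h3) h1))
  have h9 := eq_of_le_of_card_ge h2 (by rwa [Nat.card_congr (subgroupOfEquivOfLe hK).toEquiv])
  exact ⟨rfl, m.x, fun g hg => (SetLike.ext_iff.1 h9 ⟨g, hg⟩).symm,
    lo.good m.x le_top (by rwa [relIndex_top_right]) (by rwa [relIndex_top_right])⟩

/-- a local model of `P` modulo `K` -/
structure Lv (y : ℕ → X) (c : Cfg) (pt : ℕ → Ω) (V : ℕ) (cl : ℕ → ℕ) (K P : Subgroup X) (ch : Chain) : Prop
    extends Lr y c pt V cl where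
  gd : Gd c pt K P ch
  mem : ∀ l, tb V l = true → y l ∈ P

theorem Lv.memw (m : Lv y c pt V cl K P ch) {w : List ℕ} (e : allL (tb V) w = true) : lw y w ∈ P :=
  lw_mem fun l hl => m.mem l ((allL_iff _ _).1 e l hl)

noncomputable def ewL (c : Cfg) (V : ℕ) (ch : Chain) (cl : ℕ → ℕ) (v w : List ℕ) : Bool :=
  band (allL (fun b => Nat.beq (wl c cl v b) (wl c cl w b)) ch.baseList) (band (allL (tb V) v) (allL (tb V) w))

noncomputable def nwL (c : Cfg) (V : ℕ) (ch : Chain) (cl : ℕ → ℕ) (v w : List ℕ) : Bool :=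
  band (anyL (fun b => bnot (Nat.beq (wl c cl v b) (wl c cl w b))) ch.baseList)
    (band (allL (tb V) v) (allL (tb V) w))

theorem Lv.or (m : Lv y c pt V cl K P ch) : Or y K (ewL c V ch cl) (nwL c V ch cl) := by
  have hb := base_lt m.gd.good
  refine ⟨fun {v w} e => ?_, fun {v w} e h => ?_⟩ <;>
    simp only [ewL, nwL, band_eq_true] at e <;> obtain ⟨e, hv, hw⟩ := e <;>
    have hP := mul_mem (inv_mem (m.memw hv)) (m.memw hw)
  · refine (m.gd.ker _ hP).1 (m.gd.good.mem_K_of_fix ⟨_, hP⟩ trivial fun b h => ?_)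
    show ((lw y v)⁻¹ * lw y w) • pt b = pt b
    rw [mul_smul, inv_smul_eq_iff, (m.wl hv b (hb b h)).2, (m.wl hw b (hb b h)).2,
      Nat.eq_of_beq_eq_true ((allL_iff _ _).1 e b h)]
  · obtain ⟨b, h1, e⟩ := (anyL_iff _ _).1 e
    rw [bnot_eq_true, Nat.beq_eq] at e
    have := (m.gd.ker _ hP).2 h b (hb b h1)
    rw [mul_smul, inv_smul_eq_iff, (m.wl hv b (hb b h1)).2, (m.wl hw b (hb b h1)).2] at this
    exact e (m.x.inj _ _ (m.wl hv b (hb b h1)).1 (m.wl hw b (hb b h1)).1 this.symm)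

theorem Lv.upd (m : Lv y c pt V cl K P ch) {g : X} {p : ℕ} (hg : g ∈ P) (r : Rep c pt g p) :
    Lv (update y 0 g) c pt V (extL cl 0 p) K P ch := by
  have : ∀ l, tb V l = true → update y 0 g l ∈ P ∧ Rep c pt (update y 0 g l) (extL cl 0 p l) := fun l hl => by
    rw [extL, sel_eq]
    split_ifs with h <;> rw [Nat.beq_eq] at h
    · rw [h, update_self]; exact ⟨hg, r⟩
    · rw [update_of_ne h]; exact ⟨m.mem l hl, m.rep l hl⟩
  exact ⟨⟨m.x, fun l h => (this l h).2⟩, m.gd, fun l h => (this l h).1⟩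

/-- a test for all elements of the group of `ch'`; the element is the letter `0` -/
noncomputable def allW (c : Cfg) (cl : ℕ → ℕ) (ch' : Chain) (Q : (ℕ → ℕ) → Bool) : Bool :=
  allElts c (fun p => Q (extL cl 0 p)) ch' c.one

theorem Lv.all (m : Lv y c pt V cl K P ch) (a : Gd c pt K H ch') (hH : H ≤ P) {Q : (ℕ → ℕ) → Bool}
    (e : allW c cl ch' Q = true) {g : X} (hg : g ∈ H) :
    ∃ cl', Q cl' = true ∧ Lv (update y 0 g) c pt V cl' K P ch :=
  let ⟨_, r, h⟩ := a.all e hg; ⟨_, h, m.upd (hH hg) r⟩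

noncomputable def gdL (c : Cfg) (V : ℕ) (cl : ℕ → ℕ) (ch : Chain) (L : List ℕ) : Bool :=
  band (gnL V cl ch L) (band (checkLow c ch) (checkUp c ch))

/-- a chain for the group generated by the letters `L` -/
theorem Lv.gdL (m : Lv y c pt V cl K P ch) {L : List ℕ} (e : gdL c V cl ch' L = true) :
    cs y L ≤ P ∧ Gd c pt K (cs y L) ch' := by
  simp only [H36.SV.gdL, band_eq_true] at e
  have h := m.toLr.gens e.1
  have hP : cs y L ≤ P := cs_le fun l hl => m.mem l ((allL_iff _ _).1 ((band_eq_true _ _).1 e.1).1 l hl)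
  exact ⟨hP, m.x, fun g hg => m.gd.ker g (hP hg), h.2 ▸ good_of_check m.x (valid_of_in h.1) e.2.1 e.2.2⟩

/-- membership of a word, modulo `K` -/
theorem Lv.mb (m : Lv y c pt V cl K P ch) (a : Gd c pt K H ch') (hH : H ≤ P) (hK : K ≤ H) {w : List ℕ}
    (e : band (allL (tb V) w) (memb c ch' (wc c cl w)) = true) : lw y w ∈ H := by
  rw [band_eq_true] at e
  obtain ⟨h, hh, k⟩ := a.memb (m.wc e.1) e.2
  simpa using mul_mem hh (hK ((m.gd.ker _ (mul_mem (inv_mem (hH hh)) (m.memw e.1))).1 k))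

theorem Lv.nmb (m : Lv y c pt V cl K P ch) (a : Gd c pt K H ch') {w : List ℕ}
    (e : band (allL (tb V) w) (notMemb c ch' (wc c cl w)) = true) : lw y w ∉ H :=
  a.notMemb (m.wc ((band_eq_true _ _).1 e).1) ((band_eq_true _ _).1 e).2

/-- `f` applied to the evaluated list of the codes of the pairs of words -/
noncomputable def pcs (c : Cfg) (cl : ℕ → ℕ) (L : List (List ℕ × List ℕ)) (f : List (ℕ × ℕ) → Bool) : Bool :=
  List.rec (motive := fun _ => (List (ℕ × ℕ) → Bool) → Bool) (fun f => f [])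
    (fun q _ ih f => force (wc c cl q.1) fun a => force (wc c cl q.2) fun b => ih fun l => f ((a, b) :: l)) L f

theorem pcs_eq : ∀ (L : List (List ℕ × List ℕ)) (f : List (ℕ × ℕ) → Bool),
    pcs c cl L f = f (L.map fun q => (wc c cl q.1, wc c cl q.2))
  | [], _ => rfl
  | q :: L, f => by
    show force (wc c cl q.1) (fun a => force (wc c cl q.2) fun b => pcs c cl L fun l => f ((a, b) :: l)) = _
    rw [force_eq, force_eq, pcs_eq L]; rfl

noncomputable def vld (V : ℕ) (L : List (List ℕ × List ℕ)) : Bool :=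
  allL (fun q => band (allL (tb V) q.1) (allL (tb V) q.2)) L

theorem Lr.pairs (m : Lr y c pt V cl) {L : List (List ℕ × List ℕ)} (e : vld V L = true) {Φ : H → Prop}
    (hΦ : ∀ g, Φ g → ∀ q ∈ L, g.1 * lw y q.1 = lw y q.2 * g.1) :
    Prune c pt Φ (necConj c (L.map fun q => (H36.SV.wc c cl q.1, H36.SV.wc c cl q.2)))
      (fltConj c (L.map fun q => (H36.SV.wc c cl q.1, H36.SV.wc c cl q.2))) ∧ ∀ (g : H) p, Rep c pt g p →
      leafConj c (L.map fun q => (H36.SV.wc c cl q.1, H36.SV.wc c cl q.2)) p = true → ¬ Φ g := by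
  simp only [vld, allL_iff (fun q : List ℕ × List ℕ => _), band_eq_true] at e
  have hL : PairsRep c pt (L.map fun q => (H36.SV.wc c cl q.1, H36.SV.wc c cl q.2))
      fun g : X => ∀ q ∈ L, g * lw y q.1 = lw y q.2 * g := fun q hq => by
    obtain ⟨q, h, rfl⟩ := List.mem_map.1 hq
    exact ⟨_, _, m.wc (e q h).1, m.wc (e q h).2, fun g hg => hg q h⟩
  have p := prune_conj m.x hL
  exact ⟨⟨fun B x b g f r h => p.nec_ok B x b g f r (hΦ g h), fun B x b g f r h => p.flt_ok B x b g f r (hΦ g h)⟩,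
    fun g p r e h => leafConj_ok m.x hL g p r e (hΦ g h)⟩

/-- every element of the group of `ch'` conjugating the first words of `L` to the second ones passes `Q` -/
noncomputable def srch (c : Cfg) (V : ℕ) (cl : ℕ → ℕ) (ch' : Chain) (L : List (List ℕ × List ℕ))
    (Q : (ℕ → ℕ) → Bool) : Bool :=
  band (vld V L) (pcs c cl L fun l =>
    noSol c (necConj c l) (fltConj c l) (fun p => bor (leafConj c l p) (Q (extL cl 0 p))) ch' 0 c.one)

theorem Lv.srch (m : Lv y c pt V cl K P ch) (a : Gd c pt K H ch') (hH : H ≤ P) {L : List (List ℕ × List ℕ)}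
    {Q : (ℕ → ℕ) → Bool} (e : srch c V cl ch' L Q = true) {g : X} (hg : g ∈ H)
    (h : ∀ q ∈ L, g * lw y q.1 = lw y q.2 * g) : ∃ cl', Q cl' = true ∧ Lv (update y 0 g) c pt V cl' K P ch := by
  rw [H36.SV.srch, band_eq_true, pcs_eq] at e
  by_contra hn
  obtain ⟨p1, p2⟩ := m.toLr.pairs e.1 (Φ := fun g' : H => g' = ⟨g, hg⟩) (by rintro _ rfl; exact h)
  refine a.good.not_of_noSol m.x p1 (fun g' p r e k => ?_) e.2 ⟨g, hg⟩ trivial rfl
  rcases (bor_eq_true _ _).1 e with e | e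
  · exact p2 g' p r e k
  · subst k
    exact hn ⟨_, e, m.upd (hH hg) r⟩

/-- such an element is, modulo `K`, one of the words `U` -/
theorem Lv.srchU (m : Lv y c pt V cl K P ch) (a : Gd c pt K H ch') (hH : H ≤ P) {L : List (List ℕ × List ℕ)}
    {U : List (List ℕ)} (e : H36.SV.srch c V cl ch' L (fun cl' => anyL (fun u => ewL c V ch cl' u [0]) U) = true)
    (hU : ∀ u ∈ U, 0 ∉ u) {g : X} (hg : g ∈ H) (h : ∀ q ∈ L, g * lw y q.1 = lw y q.2 * g) :
    ∃ u ∈ U, (lw y u)⁻¹ * g ∈ K := by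
  obtain ⟨cl', e, m'⟩ := m.srch a hH e hg h
  obtain ⟨u, hu, e⟩ := (anyL_iff _ _).1 e
  have := m'.or.eqK e
  rw [lw_upd (hU u hu), lw_one, update_self] at this
  exact ⟨u, hu, this⟩

/-- at most `k` elements of the group of `ch'` commute with the word `w` -/
noncomputable def cntC (c : Cfg) (V : ℕ) (cl : ℕ → ℕ) (ch' : Chain) (w : List ℕ) (k : ℕ) : Bool :=
  band (vld V [(w, w)]) (pcs c cl [(w, w)] fun l =>
    Nat.ble (cntSol c (necConj c l) (fltConj c l) (fun p => sel (leafConj c l p) 0 1) ch' 0 c.one) k)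

theorem Lr.cnt (m : Lr y c pt V cl) (a : Gd c pt ⊥ H ch') {w : List ℕ} {k : ℕ} (e : cntC c V cl ch' w k = true) :
    Nat.card (H ⊓ centralizer {lw y w} : Subgroup X) ≤ k := by
  rw [cntC, band_eq_true, pcs_eq, Nat.ble_eq] at e
  obtain ⟨p1, p2⟩ := m.pairs e.1 (Φ := fun g : H => g.1 * lw y w = lw y w * g.1)
    (fun g h q hq => by rw [List.mem_singleton.1 hq]; exact h)
  have hK : Kfix H c pt = ⊥ := eq_bot_iff.2 fun g h => Subtype.ext (mem_bot.1 ((a.ker g g.2).1 h))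
  refine le_trans (le_of_eq ?_) ((a.good.ncard_le_cntSol m.x hK p1 fun g p r h => ?_).trans e.2)
  · rw [← Set.ncard_image_of_injective _ Subtype.val_injective, ← Nat.card_coe_set_eq]
    refine Nat.card_congr (Equiv.setCongr (Set.ext fun g => ⟨fun h => ⟨⟨g, h.1⟩, ⟨trivial,
      mem_centralizer_singleton_iff.1 h.2⟩, rfl⟩, ?_⟩))
    rintro ⟨g, h, rfl⟩
    exact ⟨g.2, mem_centralizer_singleton_iff.2 h.2⟩
  · rw [sel_eq, if_neg fun e => p2 g p r e h]

/-- new letters `Y` (words in the old ones) with codes `cl'` -/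
theorem Lv.sb (m : Lv y c pt V cl K P ch) {Y : List (List ℕ)} {V' : ℕ} {cl' : ℕ → ℕ}
    (e : allBits (fun l => band (allL (tb V) (nthW Y l)) (Nat.beq (cl' l) (H36.SV.wc c cl (nthW Y l)))) 200 V' = true) :
    Lv (fun i => lw y (nthW Y i)) c pt V' cl' K P ch := by
  have := fun l hl => (band_eq_true _ _).1 (allBits_spec _ _ _ e l hl)
  exact ⟨⟨m.x, fun l hl => Nat.eq_of_beq_eq_true (this l hl).2 ▸ m.wc (this l hl).1⟩, m.gd,
    fun l hl => m.memw (this l hl).1⟩

theorem nthW_ge : ∀ (E : List (List ℕ)) (l : ℕ), E.length ≤ l → nthW E l = []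
  | [], _, _ => rfl
  | _ :: _, 0, h => absurd h (Nat.not_succ_le_zero _)
  | _ :: E, l + 1, h => nthW_ge E l (Nat.le_of_succ_le_succ h)

noncomputable def imC (act : ℕ → ℕ → ℕ) (bs : List ℕ) (Im : List (List ℕ)) (k : ℕ) (v w : List ℕ) : Bool :=
  band (allL (fun i => Nat.ble (Nat.succ i) k) v) (ewG act bs (H36.SV.sb Im v) w)

noncomputable def autC (act : ℕ → ℕ → ℕ) (bs : List ℕ) (R Im U : List (List ℕ)) (r k : ℕ) : Bool :=
  band (allLt (fun i => band (ewG act bs (nthW Im (Nat.mul 2 i) ++ nthW Im (Nat.succ (Nat.mul 2 i))) [])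
      (imC act bs Im (Nat.add (Nat.mul 2 r) k) (nthW Im (Nat.mul 2 i)) [Nat.mul 2 i])) r)
    (band (allL (fun w => imC act bs Im (Nat.mul 2 r) w []) R)
      (allFrom (fun l => band (allL (fun i => Nat.ble (Nat.succ i) l) (nthW U l))
        (band (ewG act bs [l] (nthW U l)) (ewG act bs (H36.SV.sb Im (nthW U l)) (nthW Im l)))) (Nat.mul 2 r) k))

noncomputable def eeC (act : ℕ → ℕ → ℕ) (bs : List ℕ) (Im : List (List ℕ)) (k : ℕ) (E E' : List (List ℕ)) : Bool :=
  band (Nat.beq (len E) (len E')) (allLt (fun l => imC act bs Im k (nthW E l) (nthW E' l)) (len E))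

/-- an automorphism of order two of a presented group -/
theorem Gm.exists_aut {n : ℕ} {act : ℕ → ℕ → ℕ} {bs : List ℕ} (m : Gm y n pt act bs) {R Im U : List (List ℕ)}
    {r k : ℕ} {x : ℕ → X} (pr : Pres R r X x) (hx : ∀ l, l < 2 * r → y l = xl x l)
    (e : autC act bs R Im U r k = true) {E E' : List (List ℕ)}
    (e' : eeC act bs Im (Nat.add (Nat.mul 2 r) k) E E' = true) :
    ∃ s : MulAut X, s * s = 1 ∧ ∀ l, s (lw y (nthW E l)) = lw y (nthW E' l) := by
  rw [autC, band_eq_true, band_eq_true, allLt_iff, allL_iff] at e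
  obtain ⟨e1, e2, e3⟩ := e
  have h1 : ∀ l, l < 2 * r → xl (fun i => lw y (nthW Im (2 * i))) l = lw y (nthW Im l) := fun l hl => by
    obtain ⟨i, rfl | rfl⟩ := Nat.even_or_odd' l
    · exact xl_even _ i
    · have := m.or.eq ((band_eq_true _ _).1 (e1 i (by omega))).1
      rw [lw_append, lw_nil] at this
      rw [xl_odd]; exact inv_eq_of_mul_eq_one_right this
  obtain ⟨φ, hφ⟩ := pr.hom X (fun i => lw y (nthW Im (2 * i))) fun w hw => by
    have := (band_eq_true _ _).1 (e2 w hw)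
    simp only [allL_iff, Nat.ble_eq] at this
    exact (lw_congr (y := xl _) fun l hl => h1 l (this.1 l hl)).trans ((lw_sb Im w).symm.trans (m.or.eq this.2))
  have h2 : ∀ l, l < 2 * r → φ (y l) = lw y (nthW Im l) := fun l hl => by
    rw [hx l hl, map_xl, ← h1 l hl, xl, xl, hφ _ (by omega)]
  have h3 : φ.comp φ = MonoidHom.id X := MonoidHom.eq_of_eqOn_dense pr.top (by
    rintro _ ⟨i, hi, rfl⟩
    have := m.im φ h2 e3 ((band_eq_true _ _).1 (e1 i hi)).2
    have hy : y (2 * i) = x i := (hx _ (by omega)).trans (xl_even x i)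
    rw [lw_one] at this
    show φ (φ (x i)) = x i
    rw [hφ i hi, ← hy]; exact this)
  have h4 : ∀ g, φ (φ g) = g := DFunLike.congr_fun h3
  rw [eeC, band_eq_true, allLt_iff, Nat.beq_eq, len_eq, len_eq] at e'
  refine ⟨⟨⟨φ, φ, h4, h4⟩, map_mul φ⟩, MulEquiv.ext h4, fun l => ?_⟩
  rcases lt_or_ge l E.length with h | h
  · exact m.im φ h2 e3 (e'.2 l h)
  · rw [nthW_ge E l h, nthW_ge E' l (e'.1 ▸ h)]; exact map_one φ

/-- entry `i` of a packed list of points -/
def gt (L i : ℕ) : ℕ := Nat.land (Nat.shiftRight L (Nat.mul 20 i)) 1048575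

/-- the restriction of a model to the points `L` -/
noncomputable def resL (n : ℕ) (act : ℕ → ℕ → ℕ) (c : Cfg) (L V : ℕ) (cl : ℕ → ℕ) : Bool :=
  band (band c.check (allLt (fun i => band (Nat.ble (Nat.succ (gt L i)) n)
    (bor (Nat.ble c.n (Nat.succ i)) (Nat.ble (Nat.succ (gt L i)) (gt L (Nat.succ i))))) c.n))
    (allBits (fun l => force (cl l) fun p => allLt (fun i => force (c.get p i) fun j =>
      band (Nat.ble (Nat.succ j) c.n) (Nat.beq (act l (gt L i)) (gt L j))) c.n) 200 V)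

theorem Gm.res {n : ℕ} {act : ℕ → ℕ → ℕ} {bs : List ℕ} (m : Gm y n pt act bs) {L : ℕ}
    (e : resL n act c L V cl = true) : Lr y c (fun i => pt (gt L i)) V cl := by
  rw [resL, band_eq_true, band_eq_true] at e
  obtain ⟨⟨e1, e2⟩, e3⟩ := e
  simp only [allLt_iff, band_eq_true, bor_eq_true, Nat.ble_eq] at e2
  have mono : ∀ j, j < c.n → ∀ i, i < j → gt L i < gt L j := fun j => by
    induction j with
    | zero => exact fun _ i h => absurd h (Nat.not_lt_zero i)
    | succ j ih =>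
      intro hj i hi
      have := (e2 j (by omega)).2.resolve_left (by omega)
      rcases Nat.lt_succ_iff_lt_or_eq.1 hi with h | rfl
      exacts [(ih (by omega) i h).trans this, this]
  refine ⟨⟨c.ok_of_check e1, fun i j hi hj h => ?_⟩, fun l hl i hi => ?_⟩
  · have := m.inj _ _ (e2 i hi).1 (e2 j hj).1 h
    rcases lt_trichotomy i j with k | k | k
    exacts [absurd this (mono j hj i k).ne, k, absurd this (mono i hi j k).ne']
  · have := allBits_spec _ _ _ e3 l hl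
    simp only [force_eq, allLt_iff, band_eq_true, Nat.ble_eq, Nat.beq_eq] at this
    exact ⟨(this i hi).1, by rw [(m.rep l _ (e2 i hi).1).2, (this i hi).2]⟩

/-- the data of the proof from a table of letters -/
def mkF (J : Subgroup X) (y : ℕ → X) (LT LM LR : List ℕ) (n2 n3 : ℕ) : Dy X :=
  ⟨J, cs y (5 :: LT), cs y LM, cs y LR, y 1, y 2, y 3, y 4, y 5, y 6, n2, n3⟩

/-- the tables of a model -/
structure Dt where
  EM : ℕ
  N : ℕ
  k : ℕ
  n2 : ℕ
  n3 : ℕ
  LT : List ℕ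
  LM : List ℕ
  LR : List ℕ
  LD : List ℕ
  wf : List ℕ
  wf' : List ℕ
  cP : Cfg
  pP : ℕ
  VP : ℕ
  tP : Tr
  chP : Chain
  chD : Chain
  chM : Chain
  chS' : Chain
  cT : Cfg
  pT : ℕ
  VT : ℕ
  tT : Tr
  chS : Chain
  chT : Chain

namespace Dt
variable (D : Dt)

def F (J : Subgroup X) (y : ℕ → X) : Dy X := mkF J y D.LT D.LM D.LR D.n2 D.n3

/-- equality and inequality modulo `⟨f⟩` in `C_X(z)` -/
noncomputable def eP (cl : ℕ → ℕ) : List ℕ → List ℕ → Bool := ewL D.cP D.VP D.chP cl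
noncomputable def nP (cl : ℕ → ℕ) : List ℕ → List ℕ → Bool := nwL D.cP D.VP D.chP cl
/-- equality and inequality in `Ts` -/
noncomputable def eT (cl : ℕ → ℕ) : List ℕ → List ℕ → Bool := ewL D.cT D.VT D.chS cl
noncomputable def nT (cl : ℕ → ℕ) : List ℕ → List ℕ → Bool := nwL D.cT D.VT D.chS cl

noncomputable def ck1 (ew nw : List ℕ → List ℕ → Bool) : Bool :=
  band (allBits (fun l => ew [l, 1] [1, l]) 200 D.VP)
    (band (band (allL (fun l => Nat.beq (pw D.EM [l]) 0) (D.LD ++ D.LT)) (Nat.beq (pw D.EM [5]) 1))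
      (band (band (band (sub D.wf D.LD) (ew [4] D.wf)) (band (sub D.wf' D.LT) (ew [4] D.wf')))
        (band (allFrom (fun i => nw (List.replicate i 4) []) 1 (Nat.pred D.k))
          (band (ew (List.replicate D.k 4) []) (band (tb D.VP 4) (Nat.beq (D.tP.get 4) D.cP.one))))))

noncomputable def ck2 : Bool :=
  band (band (gnL D.VP D.tP.get D.chP (5 :: D.LD)) (checkLow D.cP D.chP))
    (band (band (gnL D.VP D.tP.get D.chD D.LD) (checkLow D.cP D.chD))
      (band (bor (eqL D.LM D.LD) (gdL D.cP D.VP D.tP.get D.chM D.LM))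
        (band (gdL D.cP D.VP D.tP.get D.chS' (5 :: D.LT))
          (Nat.ble (Nat.mul 2 (D.chD.size D.cP.n)) (D.chP.size D.cP.n)))))

noncomputable def ck3 : Bool :=
  band (band (gnL D.VT D.tT.get D.chS (5 :: D.LT)) (checkLow D.cT D.chS))
    (band (band (gnL D.VT D.tT.get D.chT D.LT) (checkLow D.cT D.chT))
      (band (allBits (fun l => band (allL (tb D.VP) [l]) (memb D.cP D.chS' (wc D.cP D.tP.get [l]))) 200 D.VT)
        (band (Nat.ble (Nat.mul D.k (D.chS'.size D.cP.n)) (D.chS.size D.cT.n))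
          (Nat.ble (D.chS.size D.cT.n) (Nat.mul 2 (D.chT.size D.cT.n))))))

/-- the chain of `M` -/
noncomputable def cM : Chain := sel (eqL D.LM D.LD) D.chD D.chM

end Dt

/-- The base of a model: the global oracle, the model of `C_X(z)` modulo `⟨f⟩`, the faithful model of `Ts`. -/
structure Mo (D : Dt) (J : Subgroup X) (y : ℕ → X) (ew nw : List ℕ → List ℕ → Bool) (pt : ℕ → Ω) : Prop
    extends Bs J y ew nw D.EM D.N where
  eT : (D.F J y).T = cs y D.LT
  eD : (D.F J y).D = cs y D.LD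
  eP : centralizer {y 1} = cs y (5 :: D.LD)
  of : orderOf (y 4) = D.k
  fT : y 4 ∈ cs y D.LT
  lP : Lv y D.cP (fun i => pt (gt D.pP i)) D.VP D.tP.get (zpowers (y 4)) (centralizer {y 1}) D.chP
  gD : Gd D.cP (fun i => pt (gt D.pP i)) (zpowers (y 4)) (cs y D.LD) D.chD
  gM : Gd D.cP (fun i => pt (gt D.pP i)) (zpowers (y 4)) (cs y D.LM) D.cM
  gS : Gd D.cP (fun i => pt (gt D.pP i)) (zpowers (y 4)) (cs y (5 :: D.LT)) D.chS'
  lT : Lv y D.cT (fun i => pt (gt D.pT i)) D.VT D.tT.get ⊥ (cs y (5 :: D.LT)) D.chS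
  gT : Gd D.cT (fun i => pt (gt D.pT i)) ⊥ (cs y D.LT) D.chT

theorem card_inf_two [Finite X] {J : Subgroup X} (h : J.index = 2) (H : Subgroup X) :
    Nat.card H ≤ 2 * Nat.card (J ⊓ H : Subgroup X) ∧ (¬ H ≤ J → 2 * Nat.card (J ⊓ H : Subgroup X) ≤ Nat.card H) := by
  have e := (J.subgroupOf H).card_mul_index
  rw [← inf_subgroupOf_right, Nat.card_congr (subgroupOfEquivOfLe inf_le_right).toEquiv, inf_subgroupOf_right] at e
  have : J.Normal := normal_of_index_eq_two h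
  have h1 : (J.subgroupOf H).index ∣ 2 := h ▸ relIndex_dvd_index_of_normal J H
  rw [← e, mul_comm]
  refine ⟨Nat.mul_le_mul_right _ (Nat.le_of_dvd two_pos h1), fun k => Nat.mul_le_mul_right _ ?_⟩
  rcases (Nat.dvd_prime Nat.prime_two).1 h1 with a | a
  · exact absurd (subgroupOf_eq_top.1 (index_eq_one.1 a)) k
  · exact a.ge

theorem Mo.mk' [Finite X] {D : Dt} {J : Subgroup X} {ew nw : List ℕ → List ℕ → Bool} {n : ℕ} {act : ℕ → ℕ → ℕ}
    {bs : List ℕ} (b : Bs J y ew nw D.EM D.N) (m : Gm y n pt act bs)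
    (r1 : resL n act D.cP D.pP D.VP D.tP.get = true) (r2 : resL n act D.cT D.pT D.VT D.tT.get = true)
    (e1 : D.ck1 ew nw = true) (e2 : D.ck2 = true) (e3 : D.ck3 = true)
    (hc : Nat.card (J ⊓ centralizer {y 1} : Subgroup X) ≤ D.k * D.chD.size D.cP.n) : Mo D J y ew nw pt := by
  have lp := m.res r1
  have lt := m.res r2
  simp only [Dt.ck1, Dt.ck2, Dt.ck3, band_eq_true, Nat.ble_eq, Nat.beq_eq, allFrom_iff, bor_eq_true,
    allL_iff (fun l => Nat.beq (pw D.EM [l]) 0)] at e1 e2 e3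
  obtain ⟨a1, ⟨a2, a3⟩, ⟨⟨a4, a5⟩, a6, a7⟩, a8, a9, a10, a11⟩ := e1
  obtain ⟨⟨b1, b2⟩, ⟨b3, b4⟩, b5, b6, b7⟩ := e2
  obtain ⟨⟨c1, c2⟩, ⟨c3, c4⟩, c5, c6, c7⟩ := e3
  have mP : ∀ l, tb D.VP l = true → y l ∈ centralizer {y 1} := fun l hl => by
    simpa only [lw_one, mem_centralizer_singleton_iff] using
      b.or.cm (u := [l]) (v := [1]) (allBits_spec _ _ _ a1 l hl)
  have vl : ∀ {V cl ch L}, gnL V cl ch L = true → ∀ l ∈ L, tb V l = true := fun e =>
    (allL_iff _ _).1 ((band_eq_true _ _).1 e).1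
  have mJ : ∀ l ∈ D.LD ++ D.LT, y l ∈ J := fun l hl => lw_one (lt := y) l ▸ (b.par [l]).2 (a2 l hl)
  have nJ : y 5 ∉ J := fun h => by have := (b.par [5]).1 (by rwa [lw_one]); omega
  have fD : y 4 ∈ cs y D.LD := lw_one (lt := y) 4 ▸ b.or.eq a5 ▸ mem_sub a4
  have fT : y 4 ∈ cs y D.LT := lw_one (lt := y) 4 ▸ b.or.eq a7 ▸ mem_sub a6
  have tl : ∀ L, cs y L ≤ cs y (5 :: L) := fun L => cs_le fun l hl => mem_cs y (List.mem_cons_of_mem _ hl)
  have hs := card_inf_two b.idx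
  have k0 : 0 < D.k := by
    rcases Nat.eq_zero_or_pos D.k with h | h
    · rw [h, zero_mul] at hc; exact absurd hc (Nat.not_le.2 Nat.card_pos)
    · exact h
  have of : orderOf (y 4) = D.k := (orderOf_eq_iff k0).2 ⟨lw_rep (lt := y) 4 _ ▸ b.or.eq a9,
    fun i h1 h2 => lw_rep (lt := y) 4 _ ▸ b.or.ne (a8 i h2 (by rw [Nat.pred_eq_sub_one]; omega))⟩
  have kk : D.k ≤ Nat.card (zpowers (y 4)) := by rw [Nat.card_zpowers, of]
  have fK : zpowers (y 4) ≤ Kfix X D.cP fun i => pt (gt D.pP i) :=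
    zpowers_le.2 (Rep.mem_K_of_one lp.x (a11 ▸ lp.rep 4 a10))
  obtain ⟨eD, gD⟩ := lp.of_low b3 b4 (P := J ⊓ centralizer {y 1}) (cs_le fun l hl =>
    ⟨mJ l (List.mem_append_left _ hl), mP l (vl b3 l hl)⟩) (zpowers_le.2 fD) fK kk hc
  obtain ⟨eP, gP⟩ := lp.of_low b1 b2 (P := centralizer {y 1}) (cs_le fun l hl => mP l (vl b1 l hl))
    (zpowers_le.2 (tl _ fD)) fK kk ((hs _).1.trans ((Nat.mul_le_mul_left 2 hc).trans (by
      rw [mul_left_comm]; exact Nat.mul_le_mul_left _ b7)))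
  have lP : Lv y D.cP _ D.VP D.tP.get _ _ D.chP := ⟨lp, gP, mP⟩
  obtain ⟨sP, gS⟩ := lP.gdL b6
  have cS : Nat.card (cs y (5 :: D.LT)) ≤ 1 * D.chS.size D.cT.n := by
    rw [gS.card, one_mul]
    exact (Nat.mul_le_mul_right _ ((card_le_of_le inf_le_right).trans (by rw [Nat.card_zpowers, of]))).trans c6
  obtain ⟨-, gS'⟩ := lt.of_low c1 c2 le_rfl bot_le bot_le (by simp) cS
  obtain ⟨eT, gT⟩ := lt.of_low c3 c4 (P := cs y (5 :: D.LT) ⊓ J) (K := ⊥) (k := 1) (le_inf (tl _) (cs_le fun l hl =>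
    mJ l (List.mem_append_right _ hl))) bot_le bot_le (by simp) (by
      have := (hs _).2 fun h : cs y (5 :: D.LT) ≤ J => nJ (h (mem_cs y List.mem_cons_self))
      have c8 : D.chS.size D.cT.n ≤ 2 * D.chT.size D.cT.n := c7
      rw [inf_comm]; omega)
  refine ⟨b, eT.symm, eD.symm, eP.symm, of, fT, lP, eD ▸ gD, ?_, gS, ⟨lt, gS', fun l hl => ?_⟩, eT ▸ gT⟩
  · rw [Dt.cM, sel_eq]
    split_ifs with h
    · rw [eq_of_eqL _ _ h]; exact eD ▸ gD
    · exact (lP.gdL (b5.resolve_left h)).2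
  · exact lw_one (lt := y) l ▸ lP.mb gS sP (zpowers_le.2 (tl _ fT)) (allBits_spec _ _ _ c5 l hl)

theorem eqns_XL : True := by
  have := @wc.eq_1
  have := @gnL.eq_1
  have := @ewL.eq_1
  have := @nwL.eq_1
  have := @allW.eq_1
  have := @gdL.eq_1
  have := @pcs.eq_1
  have := @vld.eq_1
  have := @srch.eq_1
  have := @cntC.eq_1
  have := @gt.eq_1
  have := @resL.eq_1
  have := @mkF.eq_1
  have := @imC.eq_1
  have := @autC.eq_1
  have := @eeC.eq_1
  have := @Dt.F.eq_1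
  have := @Dt.eP.eq_1
  have := @Dt.nP.eq_1
  have := @Dt.eT.eq_1
  have := @Dt.nT.eq_1
  have := @Dt.ck1.eq_1
  have := @Dt.ck2.eq_1
  have := @Dt.ck3.eq_1
  have := @Dt.cM.eq_1
  trivial

end H36.SV
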