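import Mathlib
import Cfsg.Agent.Lib.StdV.XL

/-! Facts that hold in every model. -/

set_option autoImplicit false

namespace H36.SV

open Subgroup H54 H69 Function
open H92.SW (cs mem_cs cs_le lw_nil lw_one lw_cons lw_rep)

/-- the field `autM` of `Ce` -/
def Dy.AutM {X : Type} [Group X] (F : Dy X) : Prop :=
  ∀ θ : X → X, (∀ a ∈ F.M, θ a ∈ F.M) → (∀ a ∈ F.M, ∀ a' ∈ F.M, θ (a * a') = θ a * θ a') →
    (∀ a ∈ F.M, θ a = 1 → a = 1) → θ F.z = F.z → ∃ x, x * F.z = F.z * x ∧ ∀ m ∈ F.M, θ m = x * m * x⁻¹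

/-- the field `cM` of `Ce` -/
def Dy.CM {X : Type} [Group X] (F : Dy X) : Prop := ∀ g, (∀ m ∈ F.M, g * m = m * g) → g ∈ zpowers F.f

section
variable {X : Type} [Group X] {J : Subgroup X} {y : ℕ → X} {ew nw : List ℕ → List ℕ → Bool} {EM N : ℕ}
  (b : Bs J y ew nw EM N)
include b

theorem Bs.nJ : J.Normal := normal_of_index_eq_two b.idx

theorem Bs.sq : ∀ a, a ∉ J → ∀ c, c ∉ J → a * c ∈ J := fun _ ha _ hc =>
  (mul_mem_iff_of_index_two b.idx).2 (iff_of_false ha hc)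

theorem Bs.mem {v : List ℕ} (e : Nat.beq (pw EM v) 0 = true) : lw y v ∈ J := (b.par v).2 (Nat.eq_of_beq_eq_true e)

theorem Bs.nmem {v : List ℕ} (e : Nat.beq (pw EM v) 1 = true) : lw y v ∉ J := fun h => by
  have := (b.par v).1 h
  have := Nat.eq_of_beq_eq_true e
  omega

theorem Bs.cardX : Nat.card X = 2 * N := by rw [← J.card_mul_index, b.idx, b.card, mul_comm]

theorem Bs.aut [Finite X] (h : ∀ g, (∀ j ∈ J, g * j = j * g) → g = 1) (θ : J ≃* J) :
    ∃ x : X, ∀ j : J, (θ j : X) = x * j * x⁻¹ := by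
  have := b.nJ
  have hi : Injective (MulAut.conjNormal : X →* MulAut J) := (injective_iff_map_eq_one _).2 fun g hg =>
    h g fun x hx => mul_inv_eq_iff_eq_mul.1 (congrArg Subtype.val (DFunLike.congr_fun hg ⟨x, hx⟩) :)
  obtain ⟨x, hx⟩ := ((Nat.bijective_iff_injective_and_card _).2 ⟨hi, le_antisymm
    (Nat.card_le_card_of_injective _ hi) (b.cardX ▸ b.cA)⟩).2 θ
  exact ⟨x, fun k => by rw [← hx]; rfl⟩

theorem Bs.syl [Finite X] {S : Subgroup X} {a : ℕ} (h : Nat.card S = 2 ^ a) (hN : ¬ 2 ^ a ∣ N) :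
    IsSylowIn 2 S ⊤ := by
  refine isSylowIn_of_not_dvd_relIndex (IsPGroup.of_card h) le_top fun ⟨k, hk⟩ => hN ⟨k, ?_⟩
  have := S.card_mul_index
  rw [relIndex_top_right] at hk
  rw [b.cardX, h, hk, mul_left_comm] at this
  omega

end

theorem JJ_le {Γ : Type} [Group Γ] {s : MulAut Γ} {hs : s * s = 1} {R E : List (List ℕ)} {x y : ℕ → Γ} {EM : ℕ}
    (pr : Pres R 7 Γ x) (hx : ∀ l, l < 2 * 7 → y l = xl x l)
    (h : ∀ i, i < 7 → nthW E (64 + 2 * i) = [2 * i] ∧ eps EM (64 + 2 * i) = 0) :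
    JJ s hs ≤ cs (y2 s hs y E EM) [64, 66, 68, 70, 72, 74, 76] := by
  rw [JJ, MonoidHom.range_eq_map, ← pr.top, map_le_iff_le_comap]
  refine gen_le fun i hi => ?_
  have : y2 s hs y E EM (64 + 2 * i) = SemidirectProduct.inl (x i) := by
    rw [y2, (h i hi).1, (h i hi).2, lw_one, hx _ (by omega), xl_even]; rfl
  exact mem_comap.2 (this ▸ mem_cs _ (by interval_cases i <;> decide))

theorem eqns_XG : True := by
  have := @Dy.AutM.eq_1
  have := @Dy.CM.eq_1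
  trivial

end H36.SV
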