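import Mathlib
import Cfsg.Agent.Lib.StdV.XG

/-! Automorphisms of `C_J(z) = 2^(1+6).L`: they are determined on the extraspecial group. -/

set_option autoImplicit false

namespace H36.SV.AG

open Subgroup H54 H69 Function
open H92.SW (cs mem_cs cs_le lw_nil lw_one lw_cons lw_rep)

variable {X : Type} [Group X] {M : Subgroup X} {z : X} {θ : X → X} {e : ℕ → X} {U : List (List ℕ)}

/-- an automorphism of `M` fixing `z` -/
structure Au (M : Subgroup X) (z : X) (θ : X → X) : Prop where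
  mem : ∀ a ∈ M, θ a ∈ M
  mul : ∀ a ∈ M, ∀ a' ∈ M, θ (a * a') = θ a * θ a'
  inj : ∀ a ∈ M, θ a = 1 → a = 1
  fz : θ z = z

namespace Au
variable (h : Au M z θ)
include h

def hom : M →* X := MonoidHom.mk' (fun a => θ a) fun a b => h.mul _ a.2 _ b.2

theorem one : θ 1 = 1 := h.hom.map_one
theorem inv {a : X} (ha : a ∈ M) : θ a⁻¹ = (θ a)⁻¹ := h.hom.map_inv ⟨a, ha⟩
theorem conj {m a : X} (hm : m ∈ M) (ha : a ∈ M) : θ (m * a * m⁻¹) = θ m * θ a * (θ m)⁻¹ := by
  rw [h.mul _ (mul_mem hm ha) _ (inv_mem hm), h.mul _ hm _ ha, h.inv hm]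

theorem surj [Finite X] {m : X} (hm : m ∈ M) : ∃ a ∈ M, θ a = m := by
  have : Injective fun a : M => (⟨θ a, h.mem a a.2⟩ : M) := fun a b k =>
    (injective_iff_map_eq_one h.hom).2 (fun a ha => Subtype.ext (h.inj a a.2 ha)) (congrArg Subtype.val k)
  obtain ⟨a, ha⟩ := Finite.injective_iff_surjective.1 this ⟨m, hm⟩
  exact ⟨a, a.2, congrArg Subtype.val ha⟩

theorem cj {w : X} (hw : w * z = z * w) (hn : ∀ m ∈ M, w⁻¹ * m * w ∈ M) : Au M z fun a => w⁻¹ * θ a * w :=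
  ⟨fun a ha => hn _ (h.mem a ha), fun a ha b hb => by rw [h.mul a ha b hb]; group,
    fun a ha k => h.inj a ha (by simpa [mul_assoc, inv_mul_eq_one] using congrArg (fun x => w * x * w⁻¹) k),
    by rw [h.fz, mul_assoc, ← hw, inv_mul_cancel_left]⟩

/-- the fixed points -/
def fx : Subgroup X where
  carrier := {a | a ∈ M ∧ θ a = a}
  one_mem' := ⟨one_mem _, h.one⟩
  mul_mem' a b := ⟨mul_mem a.1 b.1, by rw [h.mul _ a.1 _ b.1, a.2, b.2]⟩
  inv_mem' a := ⟨inv_mem a.1, by rw [h.inv a.1, a.2]⟩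

end Au

theorem cjz {g c : X} (hg : g * z = z * g) (hc : c ∈ zpowers z) : g * c * g⁻¹ ∈ zpowers z := by
  obtain ⟨n, rfl⟩ := hc
  exact ⟨n, by simp only; rw [← conj_zpow, hg, mul_inv_cancel_right]⟩

/-- the elements of `C(z)` that fix `a` modulo `z` -/
def Sz (z a : X) : Subgroup X where
  carrier := {g | g * z = z * g ∧ g * a * g⁻¹ * a⁻¹ ∈ zpowers z}
  one_mem' := ⟨by simp, by simp⟩
  mul_mem' {g k} hg hk := ⟨(Commute.mul_left hg.1 hk.1 :), by
    have := mul_mem (cjz hg.1 hk.2) hg.2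
    convert this using 1
    group⟩
  inv_mem' {g} hg := ⟨(Commute.inv_left hg.1 :), by
    have := cjz (Commute.inv_left hg.1 :) (inv_mem hg.2)
    convert this using 1
    group⟩

theorem Sz_cj {a τ m : X} (h : τ ∈ Sz z a) (hm : m * z = z * m) : m * τ * m⁻¹ ∈ Sz z (m * a * m⁻¹) :=
  ⟨(Commute.mul_left (Commute.mul_left hm h.1) (Commute.inv_left hm) :), by
    have := cjz hm h.2
    convert this using 1
    group⟩

theorem Sz_of {g a : X} (hg : g * z = z * g) (h : g * a = a * g ∨ g * a = z * (a * g)) : g ∈ Sz z a :=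
  ⟨hg, by rcases h with h | h <;> rw [h] <;> simp [mul_assoc]⟩

theorem Sz_or {g a : X} (z2 : z * z = 1) (h : g ∈ Sz z a) : g * a = a * g ∨ g * a = z * a * g :=
  ((H36.SW.mem_zp z2).1 h.2).imp (fun k => by rw [← one_mul (a * g), ← k]; group) fun k => by rw [← k]; group

def L6 : List ℕ := [1, 2, 3, 4, 5, 6]

/-- `e 0 = z`, and `e 1, .., e 6` generate the extraspecial group -/
structure Ba (M : Subgroup X) (e : ℕ → X) (U : List (List ℕ)) : Prop where
  z2 : e 0 * e 0 = 1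
  cz : ∀ m ∈ M, m * e 0 = e 0 * m
  nM : ∀ g, g * e 0 = e 0 * g → ∀ m ∈ M, g⁻¹ * m * g ∈ M
  nQ : M ≤ 𝐍(cs e (0 :: L6))
  syl : ∃ T, IsSylowIn 2 T M ∧ (∀ i, e i ∈ T) ∧ ∀ i ∈ L6, ∃ m ∈ M, ∀ τ ∈ T, m * τ * m⁻¹ ∈ Sz (e 0) (e i)
  lst : ∀ g ∈ M, (∀ i ∈ L6, g ∈ Sz (e 0) (e i)) → ∃ u ∈ U, g = lw e u ∨ g = lw e (u ++ [0])
  cen : ∀ u ∈ U, (∀ i ∈ L6, lw e u * e i = e i * lw e u) → lw e u = 1
  sq : M ≤ closure {x | ∃ m ∈ M, x = m * m}

/-- the image of `e k` can be moved back -/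
def Step (M : Subgroup X) (e : ℕ → X) (k : ℕ) : Prop :=
  ∀ θ, Au M (e 0) θ → (∀ j, j < k → θ (e j) = e j) →
    ∃ w, (∀ j, j < k → w * e j = e j * w) ∧ w * e k * w⁻¹ = θ (e k)

namespace Ba
variable (b : Ba M e U)
include b

theorem eM (i : ℕ) : e i ∈ M := let ⟨_, h, k, _⟩ := b.syl; h.le (k i)

theorem mem [Finite X] (h : Au M (e 0) θ) (i : ℕ) (hi : i ∈ L6) :
    ∃ u ∈ U, θ (e i) = lw e u ∨ θ (e i) = lw e (u ++ [0]) := by
  obtain ⟨T, hT, eT, k⟩ := b.syl
  let N := ((cs e (0 :: L6)).subgroupOf M).map h.hom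
  have n1 : N ≤ M := by rintro _ ⟨a, -, rfl⟩; exact h.mem a a.2
  have n2 : M ≤ 𝐍(N) := fun m hm => mem_normalizer_of_cj_le (by
    obtain ⟨m, h0, rfl⟩ := h.surj hm
    rintro _ ⟨_, ⟨a, ha, rfl⟩, rfl⟩
    exact ⟨⟨_, mul_mem (mul_mem h0 a.2) (inv_mem h0)⟩, conj_mem_of_mem_normalizer (b.nQ h0) ha,
      h.conj h0 a.2⟩)
  have n3 : N ≤ T := hT.le_of_le_normalizer
    ((hT.isP.to_le (cs_le fun l _ => eT l)).comap_subtype.map _) n1 (hT.le.trans n2)
  refine b.lst _ (h.mem _ (b.eM i)) fun j hj => ?_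
  obtain ⟨m, hm, k⟩ := k j hj
  have := k _ (n3 (conj_mem_of_mem_normalizer' (n2 hm)
    (a := θ (e i)) ⟨⟨_, b.eM i⟩, mem_cs e (List.mem_cons_of_mem _ hi), rfl⟩))
  simpa [mul_assoc] using this

theorem fin (h : Au M (e 0) θ) (k : ∀ i, i < 7 → θ (e i) = e i) : ∀ m ∈ M, θ m = m := by
  have q : cs e (0 :: L6) ≤ h.fx := cs_le fun l hl => ⟨b.eM l, k l (by revert l; decide)⟩
  refine fun m hm => (b.sq.trans ((closure_le (K := h.fx)).2 ?_) hm).2
  rintro _ ⟨m, hm, rfl⟩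
  have c : ∀ i ∈ L6, m⁻¹ * θ m * e i = e i * (m⁻¹ * θ m) := fun i hi => by
    have := (q (conj_mem_of_mem_normalizer (b.nQ hm) (mem_cs e (List.mem_cons_of_mem _ hi)))).2
    rw [h.conj hm (b.eM i), (q (mem_cs e (List.mem_cons_of_mem _ hi))).2] at this
    calc _ = m⁻¹ * (θ m * e i * (θ m)⁻¹) * θ m := by group
      _ = _ := by rw [this]; group
  have cM := mul_mem (inv_mem hm) (h.mem m hm)
  obtain ⟨u, hu, k | k⟩ := b.lst _ cM fun i hi => Sz_of (b.cz _ cM) (Or.inl (c i hi))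
  · rw [b.cen u hu (k ▸ c), inv_mul_eq_one] at k
    exact ⟨mul_mem hm hm, by rw [h.mul m hm m hm, ← k]⟩
  · rw [lw_append, lw_one] at k
    rw [b.cen u hu fun i hi => mul_right_cancel (b := e 0) (by
      rw [mul_assoc, b.cz _ (b.eM i), ← mul_assoc, ← k, c i hi, k, mul_assoc]), one_mul, inv_mul_eq_iff_eq_mul] at k
    refine ⟨mul_mem hm hm, ?_⟩
    rw [h.mul m hm m hm, k, mul_assoc, ← mul_assoc (e 0), ← b.cz m hm, mul_assoc m, b.z2, mul_one]

theorem aut (s : ∀ k, k < 6 → Step M e (k + 1)) (h : Au M (e 0) θ) :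
    ∃ x, x * e 0 = e 0 * x ∧ ∀ m ∈ M, θ m = x * m * x⁻¹ := by
  have : ∀ k, k ≤ 6 → ∃ x, x * e 0 = e 0 * x ∧ ∀ j, j < k + 1 → x⁻¹ * θ (e j) * x = e j := fun k => by
    induction k with
    | zero => exact fun _ => ⟨1, by simp, fun j hj => by rw [Nat.lt_one_iff.1 hj, h.fz]; simp⟩
    | succ k ih =>
      intro hk
      obtain ⟨x, hx, f⟩ := ih (by omega)
      obtain ⟨w, c, d⟩ := s k hk _ (h.cj hx (b.nM x hx)) f
      refine ⟨x * w, (Commute.mul_left hx (c 0 k.succ_pos) :), fun j hj => ?_⟩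
      rw [show (x * w)⁻¹ * θ (e j) * (x * w) = w⁻¹ * (x⁻¹ * θ (e j) * x) * w by group]
      rcases Nat.lt_succ_iff_lt_or_eq.1 hj with hj | rfl
      · rw [f j hj, mul_assoc, ← c j hj, inv_mul_cancel_left]
      · rw [← d]; group
  obtain ⟨x, hx, f⟩ := this 6 le_rfl
  refine ⟨x, hx, fun m hm => ?_⟩
  conv_rhs => rw [← b.fin (h.cj hx (b.nM x hx)) f m hm]
  group

end Ba

/-- the letter `k` replaced by the word `u` -/
noncomputable def rp (k : ℕ) (u v : List ℕ) : List ℕ :=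
  List.rec (motive := fun _ => List ℕ) [] (fun l _ ih => sel (Nat.beq l k) u [l] ++ ih) v

theorem lw_rp (h : Au M z θ) (eM : ∀ i, e i ∈ M) {k : ℕ} {u : List ℕ} (f : ∀ j, j < k → θ (e j) = e j)
    (g : θ (e k) = lw e u) : ∀ {v : List ℕ}, (∀ l ∈ v, l ≤ k) → lw e (rp k u v) = θ (lw e v)
  | [], _ => h.one.symm
  | l :: v, hv => by
    show lw e (sel (Nat.beq l k) u [l] ++ rp k u v) = _
    rw [lw_append, lw_rp h eM f g fun i hi => hv i (List.mem_cons_of_mem _ hi), lw_cons,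
      h.mul _ (eM l) _ (lw_mem fun i _ => eM i), sel_eq]
    split_ifs with a <;> rw [Nat.beq_eq] at a
    · rw [a, g]
    · rw [lw_one, f l (lt_of_le_of_ne (hv l List.mem_cons_self) a)]

section check
variable (ew nw et nt : List ℕ → List ℕ → Bool) (B : List (List ℕ))

noncomputable def oneC (K : List (List ℕ)) (R : List (List ℕ × List ℕ × List ℕ)) (Mv : List (List ℕ × List ℕ))
    (k : ℕ) (u : List ℕ) : Bool :=
  bor (anyL (fun v => bor (band (et (sb B v) []) (nt (sb B (rp k u v)) []))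
      (band (nt (sb B v) []) (et (sb B (rp k u v)) []))) K)
    (bor (anyL (fun p => band (eqL p.1 u) (band (allLt (fun j => ew (p.2 ++ nthW B j) (nthW B j ++ p.2)) k)
        (ew (p.2 ++ nthW B k) (sb B u ++ p.2)))) Mv)
      (anyL (fun r => nw (sb B (rp k u r.1) ++ (r.2.1 ++ sb B (rp k u r.1) ++ r.2.2))
        ((r.2.1 ++ sb B (rp k u r.1) ++ r.2.2) ++ sb B (rp k u r.1))) R))

/-- the check of one level -/
noncomputable def lvC (U AA : List (List ℕ)) (LM : List ℕ) (K : List (List ℕ)) (R : List (List ℕ × List ℕ × List ℕ))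
    (Mv : List (List ℕ × List ℕ)) (k : ℕ) : Bool :=
  band (allL (allL fun l => Nat.ble l k) K)
    (band (allL (fun r => band (allL (fun l => Nat.ble l k) r.1) (band (anyL (sub r.1) AA)
        (band (sub r.2.1 LM) (ew (r.2.1 ++ r.2.2) [])))) R)
      (allL (fun u => band (oneC ew nw et nt B K R Mv k u) (oneC ew nw et nt B K R Mv k (u ++ [0]))) U))

noncomputable def nrmC (LM : List ℕ) (CT : List (List ℕ)) (LA : List ℕ) : Bool :=
  allL (fun l => allL (fun a => band (sub (nthW CT (Nat.add (Nat.mul 7 (Nat.sub l 30)) a)) LA)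
    (ew ([l] ++ nthW B a) (sb B (nthW CT (Nat.add (Nat.mul 7 (Nat.sub l 30)) a)) ++ [l]))) LA) LM

noncomputable def abC (LA : List ℕ) : Bool :=
  allL (fun a => allL (fun b => et (nthW B a ++ nthW B b) (nthW B b ++ nthW B a)) LA) LA

noncomputable def dbl (V : List (List ℕ)) : List ℕ :=
  List.rec (motive := fun _ => List ℕ) [] (fun v _ ih => (v ++ v) ++ ih) V

noncomputable def inM (D : Dt) (w : List ℕ) : Bool := band (allL (tb D.VP) w) (Nat.beq (pw D.EM w) 0)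

noncomputable def baC (D : Dt) (U AA CT Mm Mt : List (List ℕ)) (SQ : List (List (List ℕ))) (a : ℕ) : Bool :=
  band (band (band (eqL (nthW B 0) [1]) (eqL D.LM D.LD)) (band (ew [1, 1] []) (ew [4] [1])))
   (band (band (allL (fun b => band (allL (tb D.VT) b) (Nat.beq (pw D.EM b) 0)) B) (allL (tb D.VP) D.LT))
    (band (band (Nat.beq D.k 2) (band (Nat.beq (D.chT.size D.cT.n) (Nat.pow 2 a))
        (bnot (Nat.beq (Nat.mod (D.chD.size D.cP.n) (Nat.pow 2 a)) 0))))
     (band (band (nrmC ew B D.LM CT (0 :: L6)) (allL (fun A => band (nrmC ew B D.LM CT A) (abC et B A)) AA))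
      (band (allL (fun i => band (inM D (nthW Mm i)) (band (ew (nthW Mm i ++ nthW Mt i) (nthW B i ++ nthW Mm i))
          (allL (fun l => bor (et ([l] ++ nthW Mt i) (nthW Mt i ++ [l]))
            (et ([l] ++ nthW Mt i) ([1] ++ (nthW Mt i ++ [l])))) D.LT))) L6)
       (band (allL (fun u => bor (eqL u []) (anyL (fun i => nt (sb B u ++ nthW B i) (nthW B i ++ sb B u)) L6)) U)
        (band (allL (fun l => anyL (fun V => band (allL (inM D) V) (ew [l] (dbl V))) SQ) D.LM)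
         (band (allL (fun i => band (allL (tb D.VP) (1 :: nthW B i))
            (Nat.beq (wc D.cP D.tP.get (1 :: nthW B i)) (wc D.cP D.tP.get (nthW B i)))) L6)
          (allL (fun u => allL (fun l => Nat.ble 1 l) (sb B u)) U))))))))

noncomputable def seC (D : Dt) (U : List (List ℕ)) : Bool :=
  srch D.cP D.VP D.tP.get D.chD (L6.map fun i => (nthW B i, nthW B i))
    fun cl' => anyL (fun u => ewL D.cP D.VP D.chP cl' u [0]) (U.map (sb B))

end check

variable {y : ℕ → X} {ew nw et nt : List ℕ → List ℕ → Bool} {B AA : List (List ℕ)} {LM : List ℕ}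

theorem step_of [Finite X] (o : Or y ⊥ ew nw) (ot : Or y ⊥ et nt)
    (b : Ba (cs y LM) (fun i => lw y (nthW B i)) U)
    (hA : ∀ A ∈ AA, ∀ g ∈ cs (fun i => lw y (nthW B i)) A, ∀ m ∈ cs y LM,
      g * (m * g * m⁻¹) = m * g * m⁻¹ * g)
    {K : List (List ℕ)} {R : List (List ℕ × List ℕ × List ℕ)} {Mv : List (List ℕ × List ℕ)} {k : ℕ}
    (hk : k ∈ L6) (c : lvC ew nw et nt B U AA LM K R Mv k = true) :
    Step (cs y LM) (fun i => lw y (nthW B i)) k := fun θ h f => by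
  simp only [lvC, band_eq_true, allL_iff, Nat.ble_eq, anyL_iff] at c
  obtain ⟨c1, c2, c3⟩ := c
  obtain ⟨u, c, hu⟩ : ∃ u, oneC ew nw et nt B K R Mv k u = true ∧
      θ (lw y (nthW B k)) = lw (fun i => lw y (nthW B i)) u := by
    obtain ⟨u, hu, a | a⟩ := b.mem h k hk
    exacts [⟨_, (c3 u hu).1, a⟩, ⟨_, (c3 u hu).2, a⟩]
  have m : ∀ v, lw (fun i => lw y (nthW B i)) v ∈ cs y LM := fun v => lw_mem fun i _ => b.eM i
  simp only [oneC, band_eq_true, bor_eq_true, anyL_iff, allLt_iff] at c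
  rcases c with ⟨v, hv, ⟨a1, a2⟩ | ⟨a1, a2⟩⟩ | ⟨p, -, a1, a2, a3⟩ | ⟨r, hr, a⟩
  · have := ot.ne a2
    rw [lw_sb, lw_rp h b.eM f hu (c1 v hv), ← lw_sb, ot.eq a1] at this
    exact absurd h.one this
  · have := ot.eq a2
    rw [lw_sb, lw_rp h b.eM f hu (c1 v hv)] at this
    exact absurd ((lw_sb B v).trans (h.inj _ (m v) this)) (ot.ne a1)
  · exact ⟨lw y p.2, fun j hj => o.cm (a2 j hj), by rw [o.cj a3, lw_sb, hu]⟩
  · obtain ⟨d1, ⟨A, hA', d2⟩, d3, d4⟩ := c2 r hr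
    have d5 := o.eq d4
    rw [lw_append, lw_nil] at d5
    obtain ⟨n, hn, en⟩ := h.surj (mem_sub (y := y) d3)
    have := o.nc a
    rw [lw_append, lw_append, lw_sb, lw_rp h b.eM f hu d1, ← inv_eq_of_mul_eq_one_right d5, ← en,
      ← h.conj hn (m _), ← h.mul _ (m _) _ (mul_mem (mul_mem hn (m _)) (inv_mem hn)),
      ← h.mul _ (mul_mem (mul_mem hn (m _)) (inv_mem hn)) _ (m _), hA A hA' _ (mem_sub d2) n hn] at this
    exact absurd rfl this

theorem nrm_of [Finite X] (o : Or y ⊥ ew nw) {CT : List (List ℕ)} {A : List ℕ} (c : nrmC ew B LM CT A = true) :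
    cs y LM ≤ 𝐍(cs (fun i => lw y (nthW B i)) A) := cs_le fun l hl => mem_normalizer_of_cj_le (by
  simp only [nrmC, allL_iff, band_eq_true] at c
  rw [map_le_iff_le_comap]
  refine cs_le fun a ha => ?_
  have := o.cj (c l hl a ha).2
  rw [lw_one, lw_sb] at this
  exact mem_comap.2 (this ▸ mem_sub (c l hl a ha).1 :))

theorem ab_of (ot : Or y ⊥ et nt) {A : List ℕ} (c : abC et B A = true) {g k : X}
    (hg : g ∈ cs (fun i => lw y (nthW B i)) A) (hk : k ∈ cs (fun i => lw y (nthW B i)) A) : g * k = k * g := by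
  simp only [abC, allL_iff] at c
  have : cs (fun i => lw y (nthW B i)) A ≤ centralizer {k} := cs_le fun a ha => by
    have : cs (fun i => lw y (nthW B i)) A ≤ centralizer {lw y (nthW B a)} := cs_le fun b hb =>
      mem_centralizer_singleton_iff.2 (ot.cm (c b hb a ha))
    exact mem_centralizer_singleton_iff.2 (mem_centralizer_singleton_iff.1 (this hk)).symm
  exact mem_centralizer_singleton_iff.1 (this hg)

theorem dbl_mem : ∀ {V : List (List ℕ)}, (∀ v ∈ V, lw y v ∈ M) → lw y (dbl V) ∈ closure {x | ∃ m ∈ M, x = m * m}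
  | [], _ => one_mem _
  | v :: V, h => by
    show lw y ((v ++ v) ++ dbl V) ∈ _
    rw [lw_append, lw_append]
    exact mul_mem (subset_closure ⟨_, h v List.mem_cons_self, rfl⟩)
      (dbl_mem fun u hu => h u (List.mem_cons_of_mem _ hu))

theorem autM [Finite X] {Ω : Type} [MulAction X Ω] {D : Dt} {J : Subgroup X} {pt : ℕ → Ω} (mo : Mo D J y ew nw pt)
    {CT Mm Mt : List (List ℕ)} {SQ : List (List (List ℕ))} {a : ℕ}
    (c : baC ew (D.eT D.tT.get) (D.nT D.tT.get) B D U AA CT Mm Mt SQ a = true) (s : seC B D U = true)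
    (lv : ∀ k, k < 6 → ∃ K R Mv, lvC ew nw (D.eT D.tT.get) (D.nT D.tT.get) B U AA D.LM K R Mv (k + 1) = true) :
    (D.F J y).AutM := by
  have o := mo.or
  have ot : Or y ⊥ (D.eT D.tT.get) (D.nT D.tT.get) := mo.lT.or
  simp only [baC, band_eq_true, bor_eq_true, allL_iff, anyL_iff, bnot_eq_true, Nat.beq_eq, Nat.ble_eq, inM] at c
  obtain ⟨⟨⟨a1, a2⟩, a3, a4⟩, ⟨a5, a6⟩, ⟨a7, a8, a9⟩, ⟨a10, a11⟩, a12, a13, a14, a15, a16⟩ := c
  have e0 : lw y (nthW B 0) = y 1 := by rw [eq_of_eqL _ _ a1, lw_one]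
  have eD : cs y D.LM = cs y D.LD := by rw [eq_of_eqL _ _ a2]
  have eM : cs y D.LM = J ⊓ centralizer {y 1} := eD.trans mo.eD.symm
  have eT : cs y D.LT = cs y (5 :: D.LT) ⊓ J := mo.eT.symm
  have z2 : y 1 * y 1 = 1 := by simpa only [lw_cons, lw_nil, mul_one] using o.eq a3
  have f1 : y 4 = y 1 := by simpa only [lw_one] using o.eq a4
  have iM : ∀ {w : List ℕ}, (∀ l ∈ w, tb D.VP l = true) → pw D.EM w = 0 → lw y w ∈ cs y D.LM := fun h k =>
    eM ▸ ⟨(mo.par _).2 k, mo.lP.memw ((allL_iff _ _).2 h)⟩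
  have cz : ∀ m ∈ cs y D.LM, m * y 1 = y 1 * m := fun m hm => mem_centralizer_singleton_iff.1 (eM ▸ hm :).2
  have TM : cs y D.LT ≤ cs y D.LM := eM ▸ le_inf (eT ▸ inf_le_right) (cs_le fun l hl => mo.lP.mem l (a6 l hl))
  have b : Ba (cs y D.LM) (fun i => lw y (nthW B i)) U := by
    refine ⟨?_, ?_, ?_, nrm_of o a10, ⟨cs y D.LT, ?_, fun i => ?_, fun i hi => ?_⟩, fun g hg h => ?_,
      fun u hu h => ?_, cs_le fun l hl => ?_⟩ <;> try simp only [e0]
    · exact z2
    · exact cz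
    · intro g hg m hm
      refine eM ▸ ⟨by simpa using mo.toBs.nJ.conj_mem m (eM ▸ hm :).1 g⁻¹, mem_centralizer_singleton_iff.2 ?_⟩
      exact (Commute.mul_left (Commute.mul_left (Commute.inv_left hg) (cz m hm)) hg :)
    · have k1 : Nat.card (cs y D.LT) = 2 ^ a := mo.gT.card_bot.trans a8
      refine isSylowIn_of_not_dvd_relIndex (IsPGroup.of_card k1) TM fun ⟨k, hk⟩ => a9 (Nat.mod_eq_zero_of_dvd ?_)
      have k2 := ((cs y D.LT).subgroupOf (cs y D.LM)).card_mul_index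
      rw [Nat.card_congr (subgroupOfEquivOfLe TM).toEquiv, k1, show ((cs y D.LT).subgroupOf _).index = _ from hk,
        eD, mo.gD.card] at k2
      have k3 := card_dvd_of_le (inf_le_right : cs y D.LD ⊓ zpowers (y 4) ≤ _)
      rw [Nat.card_zpowers, mo.of, a7] at k3
      rcases (Nat.dvd_prime Nat.prime_two).1 k3 with k3 | k3 <;> rw [k3] at k2
      · exact ⟨2 * k, by rw [← one_mul (D.chD.size _), ← k2]; rfl⟩
      · exact ⟨k, Nat.eq_of_mul_eq_mul_left two_pos (by rw [← k2, mul_left_comm]; rfl)⟩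
    · rcases nthW_mem B i with h | h
      · rw [h]; exact one_mem _
      · exact eT ▸ ⟨mo.lT.memw ((allL_iff _ _).2 (a5 _ h).1), (mo.par _).2 (a5 _ h).2⟩
    · obtain ⟨⟨d1, d2⟩, d3, d4⟩ := a12 i hi
      refine ⟨_, iM d1 d2, fun τ hτ => o.cj d3 ▸ Sz_cj ?_ (cz _ (iM d1 d2))⟩
      refine cs_le (H := Sz (y 1) _) (fun l hl => Sz_of (cz _ (TM (mem_cs y hl))) ?_) hτ
      exact (d4 l hl).imp (fun k => by simpa only [lw_append, lw_one] using ot.eq k)
        fun k => by simpa only [lw_append, lw_one] using ot.eq k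
    · classical
      simp only [e0] at h
      have s' : srch D.cP D.VP D.tP.get D.chD (L6.map fun i => (nthW B i,
          if g * lw y (nthW B i) = lw y (nthW B i) * g then nthW B i else 1 :: nthW B i))
          (fun cl' => anyL (fun u => ewL D.cP D.VP D.chP cl' u [0]) (U.map (sb B))) = true := by
        rw [seC, srch, band_eq_true, pcs_eq, List.map_map] at s
        rw [srch, band_eq_true, pcs_eq, List.map_map, List.map_congr_left (l := L6)
          (g := (fun q => (wc D.cP D.tP.get q.1, wc D.cP D.tP.get q.2)) ∘ fun i => (nthW B i, nthW B i)) fun i hi => ?_]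
        refine ⟨(allL_iff _ _).2 fun q hq => ?_, s.2⟩
        · obtain ⟨i, hi, rfl⟩ := List.mem_map.1 hq
          have k := (a15 i hi).1
          have k' := (allL_iff _ _).2 fun l hl => k l (List.mem_cons_of_mem _ hl)
          rw [band_eq_true]
          refine ⟨k', ?_⟩
          simp only
          split_ifs
          exacts [k', (allL_iff _ _).2 k]
        · simp only [comp]
          split_ifs
          · rfl
          · rw [(a15 i hi).2]
      obtain ⟨u, hu, k⟩ := mo.lP.srchU mo.gD (mo.eD ▸ inf_le_right) s' (fun u hu h0 => by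
        obtain ⟨v, hv, rfl⟩ := List.mem_map.1 hu
        exact absurd (a16 v hv 0 h0) (by omega)) (eD ▸ hg) fun q hq => by
          obtain ⟨i, hi, rfl⟩ := List.mem_map.1 hq
          simp only
          split_ifs with k
          · exact k
          · rw [lw_cons]; exact (Sz_or z2 (h i hi)).resolve_left k
      obtain ⟨v, hv, rfl⟩ := List.mem_map.1 hu
      rw [f1, H36.SW.mem_zp z2, lw_sb, inv_mul_eq_one, inv_mul_eq_iff_eq_mul] at k
      exact ⟨v, hv, k.imp Eq.symm fun k => by rw [lw_append, lw_one, e0, k]⟩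
    · rcases a13 u hu with k | ⟨i, hi, k⟩
      · rw [eq_of_eqL _ _ k, lw_nil]
      · exact absurd (h i hi) (lw_sb (y := y) B u ▸ ot.nc k)
    · obtain ⟨V, -, k1, k2⟩ := a14 l hl
      exact lw_one (lt := y) l ▸ o.eq k2 ▸ dbl_mem fun v hv => iM (k1 v hv).1 (k1 v hv).2
  intro θ h1 h2 h3 h4
  have := b.aut (θ := θ) (fun k hk => let ⟨_, _, _, c⟩ := lv k hk; step_of o ot b (fun A hA g hg m hm =>
    ab_of ot (a11 A hA).2 hg (conj_mem_of_mem_normalizer (nrm_of o (a11 A hA).1 hm) hg))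
      (by interval_cases k <;> decide) c) ⟨h1, h2, h3, e0 ▸ h4⟩
  simp only [e0] at this
  exact this

theorem eqns_AG : True := by
  have := @Au.hom.eq_1
  have := @Au.fx.eq_1
  have := @Sz.eq_1
  have := @L6.eq_1
  have := @Step.eq_1
  have := @rp.eq_1
  have := @oneC.eq_1
  have := @lvC.eq_1
  have := @nrmC.eq_1
  have := @abC.eq_1
  have := @dbl.eq_1
  have := @inM.eq_1
  have := @baC.eq_1
  have := @seC.eq_1
  trivial

end H36.SV.AG
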