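import Mathlib
import Cfsg.Agent.Lib.StdV.AG
import Cfsg.Agent.Lib.StdV.HeB

/-! Automorphisms of the centraliser of `z` in `He`. -/

set_option autoImplicit false
set_option maxRecDepth 100000

namespace H36.SV.He.A

open H54 H36.SV.AG

def B : List (List ℕ) := [[1], [48], [49], [50], [51], [52], [53]]
def U : List (List ℕ) := [[], [6], [5], [5, 6], [4], [4, 6], [4, 5], [4, 5, 6], [3], [3, 6], [3, 5], [3, 5, 6], [3,
  4], [3, 4, 6], [3, 4, 5], [3, 4, 5, 6], [2], [2, 6], [2, 5], [2, 5, 6], [2, 4], [2, 4, 6], [2, 4, 5], [2, 4, 5,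
  6], [2, 3], [2, 3, 6], [2, 3, 5], [2, 3, 5, 6], [2, 3, 4], [2, 3, 4, 6], [2, 3, 4, 5], [2, 3, 4, 5, 6], [1], [1,
  6], [1, 5], [1, 5, 6], [1, 4], [1, 4, 6], [1, 4, 5], [1, 4, 5, 6], [1, 3], [1, 3, 6], [1, 3, 5], [1, 3, 5, 6], [1,
  3, 4], [1, 3, 4, 6], [1, 3, 4, 5], [1, 3, 4, 5, 6], [1, 2], [1, 2, 6], [1, 2, 5], [1, 2, 5, 6], [1, 2, 4], [1, 2,
  4, 6], [1, 2, 4, 5], [1, 2, 4, 5, 6], [1, 2, 3], [1, 2, 3, 6], [1, 2, 3, 5], [1, 2, 3, 5, 6], [1, 2, 3, 4], [1, 2,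
  3, 4, 6], [1, 2, 3, 4, 5], [1, 2, 3, 4, 5, 6]]
def AA : List (List ℕ) := [[0, 1, 2, 3], [0, 4, 5, 6]]
def CT : List (List ℕ) := [[0], [1], [2], [1, 3, 0], [4, 6, 0], [5], [6], [0], [1, 2], [2], [2, 3], [4, 0], [4, 5,
  6], [6, 0], [0], [1, 0], [1, 3], [1, 2, 0], [4, 5, 6, 0], [6, 0], [5, 0]]
def Mm : List (List ℕ) := [[], [], [122], [119], [43], [113], [91]]
def Mt : List (List ℕ) := [[], [48], [48], [48], [52, 53], [52, 53], [52, 53]]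
def SQ : List (List (List ℕ)) := [[[115, 66], [91, 118]], [[66, 114], [114], [48, 51]], [[112], [118, 91], [64, 66],
  [48, 51]]]

theorem ba : baC ew (D.eT D.tT.get) (D.nT D.tT.get) B D U AA CT Mm Mt SQ 10 = true := by decide +kernel

theorem se : seC B D U = true := by decide +kernel

theorem l1 : lvC ew nw (D.eT D.tT.get) (D.nT D.tT.get) B U AA D.LM [[1, 1], [1], [0, 1]] [([1], [30, 31, 32], [32,
  31, 30]), ([1], [30, 31, 32, 30, 31, 32], [32, 31, 30, 32, 31, 30])] [([6], [91, 37]), ([5], [113, 37]), ([5, 6],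
  [37]), ([4], [112, 5]), ([4, 6], [122, 5]), ([4, 5], [31, 5]), ([4, 5, 6], [114, 5]), ([3], [119]), ([2], [122]),
  ([2, 3], [43]), ([1], []), ([1, 3], [113]), ([1, 2], [31]), ([1, 2, 3], [116]), ([6, 0], [91, 5]), ([5, 0], [113,
  5]), ([5, 6, 0], [5]), ([4, 0], [43, 5]), ([4, 6, 0], [123, 5]), ([4, 5, 0], [116, 5]), ([4, 5, 6, 0], [117, 5]),
  ([3, 0], [112]), ([2, 0], [122, 11]), ([2, 3, 0], [66]), ([1, 0], [11]), ([1, 3, 0], [113, 11]), ([1, 2, 0],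
  [117]), ([1, 2, 3, 0], [123])] 1 = true := by
  decide +kernel

theorem l2 : lvC ew nw (D.eT D.tT.get) (D.nT D.tT.get) B U AA D.LM [[2, 2], [1, 2, 1, 2], [2], [1, 2], [0, 2], [0,
  1, 2]] [([2], [30, 31, 32], [32, 31, 30]), ([1, 2], [31, 32], [32, 31]), ([2], [31, 30, 32, 31], [31, 32, 30,
  31]), ([1, 2], [31, 30, 32, 31], [31, 32, 30, 31])] [([3], [42]), ([2], []), ([2, 3], [120]), ([1, 3], [12]), ([1,
  2], [28]), ([1, 2, 3], [91, 13]), ([3, 0], [97]), ([2, 0], [2]), ([2, 3, 0], [91]), ([1, 3, 0], [18]), ([1, 2, 0],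
  [13]), ([1, 2, 3, 0], [120, 13])] 2 = true := by
  decide +kernel

theorem l3 : lvC ew nw (D.eT D.tT.get) (D.nT D.tT.get) B U AA D.LM [[3, 3], [1, 3, 1, 3], [2, 3, 2, 3], [3], [2, 3],
  [1, 3], [0, 3], [1, 2, 3], [0, 2, 3], [0, 1, 3], [0, 1, 2, 3]] [([3], [31, 32], [32, 31]), ([1, 3], [31, 32], [32,
  31])] [([3], []), ([2, 3], [66, 114, 2]), ([1, 3], [10]), ([1, 2, 3], [120, 12]), ([3, 0], [53]), ([2, 3, 0],
  [118, 118]), ([1, 3, 0], [30]), ([1, 2, 3, 0], [120, 105, 2])] 3 = true := by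
  decide +kernel

theorem l4 : lvC ew nw (D.eT D.tT.get) (D.nT D.tT.get) B U AA D.LM [[1, 4, 1, 4], [4, 4], [2, 4, 2, 4], [3, 4, 3,
  4]] [([4], [30, 32], [32, 30]), ([4], [31, 32], [32, 31])] [([4], []), ([4, 0], [26])] 4 = true := by
  decide +kernel

theorem l5 : lvC ew nw (D.eT D.tT.get) (D.nT D.tT.get) B U AA D.LM [[2, 5, 2, 5], [5, 5], [1, 5, 1, 5], [3, 5, 3,
  5], [4, 5, 4, 5]] [([5], [30, 31], [31, 30])] [([5], []), ([5, 0], [49])] 5 = true := by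
  decide +kernel

theorem l6 : lvC ew nw (D.eT D.tT.get) (D.nT D.tT.get) B U AA D.LM [[3, 6, 3, 6], [6, 6], [1, 6, 1, 6], [2, 6, 2,
  6], [4, 6, 4, 6], [5, 6, 5, 6]] [] [([6], []), ([6, 0], [50])] 6 = true := by
  decide +kernel

theorem eqns_A : True := by
  have := @B.eq_1
  have := @U.eq_1
  have := @AA.eq_1
  have := @CT.eq_1
  have := @Mm.eq_1
  have := @Mt.eq_1
  have := @SQ.eq_1
  trivial

end H36.SV.He.A

namespace H36.SV

theorem He.autM : He.F.AutM :=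
  AG.autM He.mo He.A.ba He.A.se fun k hk => by
    interval_cases k
    exacts [⟨_, _, _, He.A.l1⟩, ⟨_, _, _, He.A.l2⟩, ⟨_, _, _, He.A.l3⟩, ⟨_, _, _, He.A.l4⟩, ⟨_, _, _, He.A.l5⟩,
      ⟨_, _, _, He.A.l6⟩]

end H36.SV
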