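import Mathlib
import Cfsg.Agent.Lib.StdV.XG

/-! Tools for the facts on the centraliser of `z`. -/

set_option autoImplicit false
set_option linter.unusedSectionVars false

namespace H36.SV.CG

open Subgroup H54 H69 Function
open H92.SW (cs mem_cs cs_le lw_nil lw_one lw_cons lw_rep)
open H48.SM (Pf)
open scoped commutatorElement

variable {X Ω : Type} [Group X] {y : ℕ → X} {ew nw : List ℕ → List ℕ → Bool} {L : List ℕ}

theorem nth_mem {H : Subgroup X} {W : List (List ℕ)} (h : ∀ w ∈ W, lw y w ∈ H) (j : ℕ) : lw y (nthW W j) ∈ H :=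
  (nthW_mem W j).elim (fun e => e ▸ one_mem H) (h _)

/-- the letters are involutions and products of two commutators -/
noncomputable def pfB (ew : List ℕ → List ℕ → Bool) (L : List ℕ) (W : List (List (List ℕ))) : Bool :=
  allL (fun l => band (ew [l, l] []) (anyL (fun w => band (allL (fun u => sub u L) w)
    (band (ew (nthW w 0 ++ nthW w 1) (l :: (nthW w 2 ++ (nthW w 1 ++ nthW w 0))))
      (ew (nthW w 3 ++ nthW w 4) (nthW w 2 ++ (nthW w 4 ++ nthW w 3))))) W)) L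

theorem pf (o : Or y ⊥ ew nw) {W : List (List (List ℕ))} (e : pfB ew L W = true) : Pf (cs y L) := by
  simp only [pfB, allL_iff, band_eq_true, anyL_iff] at e
  refine ⟨cs_le fun l hl => ?_, cs_le fun l hl => subset_closure ⟨mem_cs y hl, ?_⟩⟩
  · obtain ⟨w, -, h, e1, e2⟩ := (e l hl).2
    have k := nth_mem (y := y) fun u hu => mem_sub (h u hu)
    have e1 := o.eq e1
    have e2 := o.eq e2
    simp only [lw_append, lw_cons] at e1 e2
    rw [show y l = ⁅lw y (nthW w 0), lw y (nthW w 1)⁆ * ⁅lw y (nthW w 3), lw y (nthW w 4)⁆⁻¹ by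
      rw [commutatorElement_def, commutatorElement_def, e1, e2]; group]
    exact mul_mem (commutator_mem_commutator (k 0) (k 1)) (inv_mem (commutator_mem_commutator (k 3) (k 4)))
  · simpa only [lw_cons, lw_nil, mul_one] using o.eq (e l hl).1

/-- the word `g` conjugates the letters `L` to words of the list `W` -/
noncomputable def nmB (ew : List ℕ → List ℕ → Bool) (L : List ℕ) (W : List (List ℕ)) (g : List ℕ) : Bool :=
  allL (fun l => anyL (fun w => band (ew (g ++ [l]) (w ++ g)) (sub w L)) W) L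

theorem norm [Finite X] (o : Or y ⊥ ew nw) {W : List (List ℕ)} {g : List ℕ} (e : nmB ew L W g = true) :
    lw y g ∈ 𝐍(cs y L) := by
  simp only [nmB, allL_iff, band_eq_true, anyL_iff] at e
  refine mem_normalizer_of_cj_le (map_le_iff_le_comap.2 (cs_le fun l hl => ?_))
  obtain ⟨w, -, e1, e2⟩ := e l hl
  have := o.cj e1
  rw [lw_one] at this
  show lw y g * y l * (lw y g)⁻¹ ∈ cs y L
  exact this ▸ mem_sub e2

theorem cm_cs {g : X} (h : ∀ l ∈ L, g * y l = y l * g) : ∀ a ∈ cs y L, g * a = a * g := fun _ ha =>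
  (mem_centralizer_singleton_iff.1 (cs_le (H := centralizer {g}) (fun l hl =>
    mem_centralizer_singleton_iff.2 (h l hl).symm) ha)).symm

variable [MulAction X Ω] [Finite X] {D : Dt} {J : Subgroup X} {pt : ℕ → Ω} (m : Mo D J y ew nw pt)
include m

theorem TS : cs y D.LT ≤ cs y (5 :: D.LT) := cs_le fun _ hl => mem_cs y (List.mem_cons_of_mem _ hl)

theorem DP : cs y D.LD ≤ centralizer {y 1} := m.eD ▸ inf_le_right

theorem DJ : cs y D.LD ≤ J := m.eD ▸ inf_le_left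

/-- the letters `G` are words in elements of `D` and of `C_J(q)` -/
noncomputable def gqB (D : Dt) (ew : List ℕ → List ℕ → Bool) (G : List ℕ) (Y W : List (List ℕ)) : Bool :=
  band (allL (fun w => bor (sub w D.LD) (band (Nat.beq (pw D.EM w) 0) (ew (w ++ [3]) ([3] ++ w)))) Y)
    (allL (fun l => anyL (fun w => ew [l] (sb Y w)) W) G)

theorem gq {G : List ℕ} {Y W : List (List ℕ)} (hJ : J ≤ cs y G) (e : gqB D ew G Y W = true) :
    J ≤ (D.F J y).D ⊔ (J ⊓ centralizer {y 3}) := by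
  simp only [gqB, allL_iff, band_eq_true, anyL_iff, bor_eq_true] at e
  refine hJ.trans (cs_le fun l hl => ?_)
  obtain ⟨w, -, h⟩ := e.2 l hl
  rw [← lw_one (lt := y) l, m.or.eq h, lw_sb]
  refine lw_mem fun i _ => nth_mem (fun u hu => (e.1 u hu).elim (fun k => mem_sup_left (m.eD ▸ mem_sub k))
    fun k => mem_sup_right (mem_inf.2 ⟨(m.par _).2 (Nat.eq_of_beq_eq_true k.1), ?_⟩)) i
  simpa only [lw_one, mem_centralizer_singleton_iff] using m.or.cm k.2

/-- an element centralising `z` and the words `W` lies in `⟨f⟩` -/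
theorem cM {W : List (List ℕ)} (hz : y 1 ∈ cs y L) (h : allL (fun w => sub w L) W = true)
    (e : srch D.cP D.VP D.tP.get D.chP (W.map fun w => (w, w))
      (fun cl => anyL (fun u => D.eP cl u [0]) [[]]) = true) {g : X} (hg : ∀ a ∈ cs y L, g * a = a * g) :
    g ∈ zpowers (y 4) := by
  obtain ⟨u, hu, k⟩ := m.lP.srchU m.lP.gd le_rfl e (by simp) (mem_centralizer_singleton_iff.2 (hg _ hz))
    fun q hq => by
      obtain ⟨w, hw, rfl⟩ := List.mem_map.1 hq
      exact hg _ (mem_sub ((allL_iff _ _).1 h w hw))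
  rwa [List.mem_singleton.1 hu, lw_nil, inv_one, one_mul] at k

/-- the centraliser of a normal subgroup of `Ts` lies in `J` if its part in `Ts` does -/
theorem cenJ {a : ℕ} (hs : D.chS.size D.cT.n = 2 ^ a) (hN : ¬ 2 ^ a ∣ D.N) (hn : cs y (5 :: D.LT) ≤ 𝐍(cs y L))
    (e : band (band (ew [5, 5] []) (Nat.beq (pw D.EM [5]) 1))
      (srch D.cT D.VT D.tT.get D.chT (L.map fun l => ([5, l, 5], [l])) fun _ => false) = true) :
    𝐂(cs y L) ≤ J := by
  simp only [band_eq_true] at e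
  have s := (m.toBs.syl (m.lT.gd.card_bot.trans hs) hN).inf_of_le_normalizer le_top (le_normalizer_centralizer hn)
  have e5 := m.or.eq e.1.1
  have p5 := m.toBs.nmem e.1.2
  simp only [lw_cons, lw_nil, mul_one] at e5 p5
  have := m.toBs.nJ
  have k : cs y (5 :: D.LT) ⊓ 𝐂(cs y L) ≤ J := fun g hg => by
    by_contra hJ
    obtain ⟨_, h, -⟩ := m.lT.srch m.gT (TS m) e.2 (g := g * y 5) (m.eT ▸
      ⟨mul_mem hg.1 (mem_cs y List.mem_cons_self), m.toBs.sq _ hJ _ p5⟩) fun q hq => by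
        obtain ⟨l, hl, rfl⟩ := List.mem_map.1 hq
        simp only [lw_cons, lw_nil, mul_one]
        rw [mul_assoc, ← mul_assoc (y 5), e5, one_mul, ← mul_assoc, ← hg.2 _ (mem_cs y hl), mul_assoc]
    exact Bool.noConfusion h
  have h2 := s.not_dvd_relIndex_of_le (le_inf k inf_le_right) inf_le_right
  rw [inf_relIndex_right] at h2
  exact relIndex_eq_one.1 (((Nat.dvd_prime Nat.prime_two).1
    (m.idx ▸ relIndex_dvd_index_of_normal J _)).resolve_right fun e => h2 (e ▸ dvd_rfl))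

/-- the second centre of `T` -/
noncomputable def m1B (D : Dt) (ew : List ℕ → List ℕ → Bool) (U : List (List (List ℕ))) : Bool :=
  band (allL (fun w => band (band (sub (nthW w 1) D.LD) (ew (nthW w 2 ++ [1]) ([1] ++ nthW w 2)))
      (band (ew (nthW w 2 ++ [3]) (nthW w 3 ++ nthW w 2))
        (ew (nthW w 0 ++ nthW w 1) (nthW w 3 ++ (nthW w 1 ++ nthW w 0))))) U)
    (allW D.cT D.tT.get D.chT fun cl =>
      bor (anyL (fun t => band (D.nT cl [t, 0] [0, t]) (D.nT cl [t, 0] [0, 1, t])) D.LT)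
        (bor (D.eT cl [0] []) (bor (D.eT cl [0] [1]) (anyL (fun w => D.eT cl [0] (nthW w 0)) U))))

theorem mode1 {U : List (List (List ℕ))} (e : m1B D ew U = true) (h0 : 0 ∉ D.LT) (hU : ∀ w ∈ U, 0 ∉ nthW w 0) :
    ∀ x ∈ (D.F J y).T, (∀ τ ∈ (D.F J y).T, τ * x * τ⁻¹ = x ∨ τ * x * τ⁻¹ = x * y 1) →
      x = 1 ∨ x = y 1 ∨ ∃ d ∈ (D.F J y).D, (D.F J y).Ty (y 1) ⁅x, d⁆ := fun x hx h => by
  rw [m1B, band_eq_true] at e
  rw [m.eT] at hx h
  obtain ⟨cl, k, m'⟩ := m.lT.all m.gT (TS m) e.2 hx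
  simp only [allL_iff, band_eq_true, anyL_iff, bor_eq_true] at e k
  rcases k with ⟨t, ht, k1, k2⟩ | k | k | ⟨w, hw, k⟩
  · have k1 := m'.or.ne k1
    have k2 := m'.or.ne k2
    simp only [lw_cons, lw_nil, mul_one, update_self, update_of_ne (fun e : t = 0 => h0 (e ▸ ht)),
      update_of_ne one_ne_zero] at k1 k2
    rcases h _ (mem_cs y ht) with a | a <;> rw [mul_inv_eq_iff_eq_mul] at a
    exacts [(k1 a).elim, (k2 (a.trans (mul_assoc _ _ _))).elim]
  · exact .inl (by simpa only [lw_one, lw_nil, update_self] using m'.or.eq k)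
  · exact .inr (.inl (by simpa only [lw_one, update_self, update_of_ne one_ne_zero] using m'.or.eq k))
  · obtain ⟨⟨a1, a2⟩, a3, a4⟩ := e.1 w hw
    have k := m'.or.eq k
    rw [lw_one, update_self, lw_upd (hU w hw)] at k
    have a2 := m.or.cj a2
    have a3 := m.or.cj a3
    have a4 := m.or.eq a4
    simp only [lw_one, lw_append] at a2 a3 a4
    refine .inr (.inr ⟨_, m.eD ▸ mem_sub a1, _, a2, a3.trans ?_⟩)
    rw [k, commutatorElement_def, a4]; group

/-- the word tests for `He` and `Suz` -/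
noncomputable def ceB (D : Dt) (ew : List ℕ → List ℕ → Bool) (W : List (List ℕ)) (u v w : List ℕ) : Bool :=
  band (band (band (ew [4] [1]) (band (sub D.wf D.LD) (ew [4] D.wf)))
      (allL (fun l => band (allL (tb D.VP) [l]) (memb D.cP D.chD (wc D.cP D.tP.get [l]))) [3, 26, 27, 28, 29]))
    (band (band (allL (fun l => Nat.beq (pw D.EM [l]) 0) [40, 46, 47])
        (band (ew ([40] ++ [1]) ([3] ++ [40])) (ew ([40] ++ [3]) ([1, 3] ++ [40]))))
      (band (allL (fun l => nmB ew [26, 27, 28, 29] W [l]) (46 :: 47 :: 5 :: D.LT))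
        (band (band (sub u [26, 27, 28, 29]) (ew [1] u)) (band (ew ([47] ++ [1]) (v ++ [47]))
          (band (ew ([5] ++ v) (w ++ [5])) (ew ([46] ++ 1 :: w) ([1] ++ [46])))))))

theorem ce (hM : D.LM = D.LD) (au : (D.F J y).AutM) {W : List (List ℕ)} {u v w : List ℕ}
    (e : ceB D ew W u v w = true) (pM : Pf (cs y D.LD))
    (hc : y 1 ∈ cs y D.LD → ∀ g, (∀ a ∈ cs y D.LD, g * a = a * g) → g ∈ zpowers (y 4))
    (hq : J ≤ (D.F J y).D ⊔ (J ⊓ centralizer {y 3}))
    (hA : cs y (5 :: D.LT) ≤ 𝐍(cs y [26, 27, 28, 29]) → 𝐂(cs y [26, 27, 28, 29]) ≤ J)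
    (h1 : ∀ x ∈ (D.F J y).T, (∀ τ ∈ (D.F J y).T, τ * x * τ⁻¹ = x ∨ τ * x * τ⁻¹ = x * y 1) →
      x = 1 ∨ x = y 1 ∨ ∃ d ∈ (D.F J y).D, (D.F J y).Ty (y 1) ⁅x, d⁆) : Ce (D.F J y) := by
  simp only [ceB, band_eq_true] at e
  obtain ⟨⟨⟨a1, a2, a3⟩, a4⟩, ⟨b1, b2, b3⟩, c1, ⟨c2, c3⟩, c4, c5, c6⟩ := e
  have eM : (D.F J y).M = cs y D.LD := hM ▸ rfl
  have fz : y 4 = y 1 := by simpa only [lw_one] using m.or.eq a1
  have fD : y 4 ∈ cs y D.LD := lw_one (lt := y) 4 ▸ m.or.eq a3 ▸ mem_sub a2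
  have mD : ∀ l ∈ [3, 26, 27, 28, 29], y l ∈ cs y D.LD := fun l hl =>
    lw_one (lt := y) l ▸ m.lP.mb m.gD (DP m) (zpowers_le.2 fD) ((allL_iff _ _).1 a4 l hl)
  have mJ : ∀ l ∈ [40, 46, 47], y l ∈ J := fun l hl => lw_one (lt := y) l ▸ m.toBs.mem ((allL_iff _ _).1 b1 l hl)
  have nA : ∀ l ∈ 46 :: 47 :: 5 :: D.LT, y l ∈ 𝐍(cs y [26, 27, 28, 29]) := fun l hl =>
    lw_one (lt := y) l ▸ norm m.or ((allL_iff _ _).1 c1 l hl)
  have b2 := m.or.cj b2
  have b3 := m.or.cj b3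
  have c4 := m.or.cj c4
  have c5 := m.or.cj c5
  have c6 := m.or.cj c6
  simp only [lw_cons, lw_nil, mul_one] at b2 b3 c4 c5 c6
  have zD : y 1 ∈ cs y D.LD := fz ▸ fD
  exact ⟨(eM.trans m.eD.symm).le, eM ▸ pM, eM ▸ zD, eM ▸ mD 3 (by decide), eM ▸ fD,
    fun a ha => (show a * y 4 = y 4 * a from fz ▸ mem_centralizer_singleton_iff.1 (DP m (eM ▸ ha))),
    (commutator_le.2 fun a ha b hb => mul_mem (mul_mem (mul_mem ha hb) (inv_mem ha)) (inv_mem hb)).trans
      (m.eD.trans eM.symm).le, eM ▸ hc zD, au, ⟨y 40, mJ 40 (by decide), b2, b3⟩, hq,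
    ⟨cs y [26, 27, 28, 29], eM ▸ cs_le fun l hl => mD l (List.mem_cons_of_mem _ hl),
      (show y 1 ∈ _ from lw_one (lt := y) 1 ▸ m.or.eq c3 ▸ mem_sub c2), nA 5 (by simp),
      fun g hg => hA (cs_le fun l hl => nA l (List.mem_cons_of_mem _ (List.mem_cons_of_mem _ hl)))
        fun a ha => (hg a ha).symm, y 46, mJ 46 (by decide), y 47, mJ 47 (by decide), nA 46 (by simp),
      nA 47 (by simp), (show y 46 * (y 1 * (y 5 * (y 47 * y 1 * (y 47)⁻¹) * (y 5)⁻¹)) * (y 46)⁻¹ = y 1 by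
        rw [c4, c5, c6])⟩, .inl ⟨fz, (m.eD.trans eM.symm).le, h1⟩⟩

end H36.SV.CG
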