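import Mathlib
import Cfsg.Agent.Lib.StdV.AG
import Cfsg.Agent.Lib.StdV.SuzB

/-! Automorphisms of the centraliser of `z` in `Suz`. -/

set_option autoImplicit false
set_option maxRecDepth 100000

namespace H36.SV.Suz.A

open H54 H36.SV.AG

def B : List (List ℕ) := [[1], [48], [49], [50], [51], [48, 49, 52], [48, 49, 53]]
def U : List (List ℕ) := [[], [6], [5], [5, 6], [4], [4, 6], [4, 5], [4, 5, 6], [3], [3, 6], [3, 5], [3, 5, 6], [3,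
  4], [3, 4, 6], [3, 4, 5], [3, 4, 5, 6], [2], [2, 6], [2, 5], [2, 5, 6], [2, 4], [2, 4, 6], [2, 4, 5], [2, 4, 5,
  6], [2, 3], [2, 3, 6], [2, 3, 5], [2, 3, 5, 6], [2, 3, 4], [2, 3, 4, 6], [2, 3, 4, 5], [2, 3, 4, 5, 6], [1], [1,
  6], [1, 5], [1, 5, 6], [1, 4], [1, 4, 6], [1, 4, 5], [1, 4, 5, 6], [1, 3], [1, 3, 6], [1, 3, 5], [1, 3, 5, 6], [1,
  3, 4], [1, 3, 4, 6], [1, 3, 4, 5], [1, 3, 4, 5, 6], [1, 2], [1, 2, 6], [1, 2, 5], [1, 2, 5, 6], [1, 2, 4], [1, 2,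
  4, 6], [1, 2, 4, 5], [1, 2, 4, 5, 6], [1, 2, 3], [1, 2, 3, 6], [1, 2, 3, 5], [1, 2, 3, 5, 6], [1, 2, 3, 4], [1, 2,
  3, 4, 6], [1, 2, 3, 4, 5], [1, 2, 3, 4, 5, 6]]
def AA : List (List ℕ) := []
def CT : List (List ℕ) := [[0], [1, 3, 4, 6], [3], [2], [3, 6, 0], [3, 4, 5, 6], [2, 4, 0], [0], [4, 6], [2], [1, 3,
  4, 6, 0], [1, 2, 3, 4, 5], [5], [2, 3, 4, 5], [0], [1, 2, 3, 5, 6], [3, 6, 0], [3, 0], [4, 5], [5], [2, 3]]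
def Mm : List (List ℕ) := [[], [], [10, 32], [117, 11], [10, 43], [88], [116]]
def Mt : List (List ℕ) := [[], [48], [48], [48], [48], [48], [48]]
def SQ : List (List (List ℕ)) := [[[95, 86], [95], [78, 97], [78], [48, 49]], [[86], [30, 95], [28, 80], [95, 30],
  [97, 95], [48, 49]], [[97, 70], [26, 95], [28, 80], [28, 95]]]

theorem ba : baC ew (D.eT D.tT.get) (D.nT D.tT.get) B D U AA CT Mm Mt SQ 13 = true := by decide +kernel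

theorem se : seC B D U = true := by decide +kernel

theorem l1 : lvC ew nw (D.eT D.tT.get) (D.nT D.tT.get) B U AA D.LM [[1, 1], [1], [0, 1]] [] [([6], [116]), ([5],
  [88]), ([4], [10, 43]), ([4, 6], [31]), ([4, 5], [10, 30]), ([3], [117, 11]), ([3, 6], [70, 30]), ([3, 5], [115]),
  ([3, 4, 5, 6], [43, 31]), ([2], [10, 32]), ([2, 4], [78]), ([2, 3], [120, 11]), ([2, 3, 4, 6], [114, 30]), ([2, 3,
  4, 5], [32, 31]), ([2, 3, 4, 5, 6], [21, 30]), ([1], []), ([1, 4], [43]), ([1, 3], [43, 78]), ([1, 3, 4, 6],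
  [30]), ([1, 3, 4, 5], [123, 11]), ([1, 3, 4, 5, 6], [112, 32]), ([1, 2, 5, 6], [118, 11]), ([1, 2, 4, 5, 6], [102,
  30]), ([1, 2, 3, 5, 6], [32]), ([1, 2, 3, 4], [100, 32]), ([1, 2, 3, 4, 6], [88, 30]), ([1, 2, 3, 4, 5], [114]),
  ([6, 0], [116, 11]), ([5, 0], [72]), ([4, 0], [18, 43]), ([4, 6, 0], [112]), ([4, 5, 0], [97, 31]), ([3, 0],
  [117]), ([3, 6, 0], [11, 30]), ([3, 5, 0], [115, 11]), ([3, 4, 5, 6, 0], [78, 30]), ([2, 0], [116, 30]), ([2, 4,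
  0], [78, 11]), ([2, 3, 0], [120]), ([2, 3, 4, 6, 0], [30, 31]), ([2, 3, 4, 5, 0], [95, 31]), ([2, 3, 4, 5, 6, 0],
  [102, 31]), ([1, 0], [11]), ([1, 4, 0], [121]), ([1, 3, 0], [115, 32]), ([1, 3, 4, 6, 0], [30, 11]), ([1, 3, 4, 5,
  0], [123]), ([1, 3, 4, 5, 6, 0], [115, 30]), ([1, 2, 5, 6, 0], [118]), ([1, 2, 4, 5, 6, 0], [123, 30]), ([1, 2, 3,
  5, 6, 0], [32, 11]), ([1, 2, 3, 4, 0], [98, 30]), ([1, 2, 3, 4, 6, 0], [72, 30]), ([1, 2, 3, 4, 5, 0], [114, 11])]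
  1 = true := by
  decide +kernel

theorem l2 : lvC ew nw (D.eT D.tT.get) (D.nT D.tT.get) B U AA D.LM [[2, 2], [1, 2, 1, 2]] [] [([6], [70, 2]), ([5],
  [21]), ([4, 6], [100]), ([4, 5], [70, 3]), ([3, 6], [21, 18]), ([3, 5], [101, 3]), ([2], []), ([2, 4], [105, 2]),
  ([2, 3], [2, 10]), ([2, 3, 4, 5, 6], [5, 18]), ([1, 3, 4, 6], [96, 37]), ([1, 3, 4, 5], [103, 96]), ([1, 2, 5, 6],
  [2]), ([1, 2, 4, 5, 6], [105]), ([1, 2, 3, 5, 6], [10]), ([1, 2, 3, 4], [100, 10]), ([6, 0], [21, 2]), ([5, 0],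
  [100, 2]), ([4, 6, 0], [100, 3]), ([4, 5, 0], [70]), ([3, 6, 0], [21, 10]), ([3, 5, 0], [101]), ([2, 0], [3]),
  ([2, 4, 0], [28]), ([2, 3, 0], [10, 2]), ([2, 3, 4, 5, 6, 0], [5, 10]), ([1, 3, 4, 6, 0], [101, 2]), ([1, 3, 4, 5,
  0], [101, 28]), ([1, 2, 5, 6, 0], [3, 2]), ([1, 2, 4, 5, 6, 0], [28, 2]), ([1, 2, 3, 5, 6, 0], [18]), ([1, 2, 3,
  4, 0], [6, 10])] 2 = true := by
  decide +kernel

theorem l3 : lvC ew nw (D.eT D.tT.get) (D.nT D.tT.get) B U AA D.LM [[3, 3], [1, 3, 1, 3], [2, 3, 2, 3], [3], [0, 3]]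
  [] [([4], [119, 105, 122]), ([3], []), ([3, 4, 5, 6], [44, 6]), ([1, 2, 3, 4, 6], [103, 11, 2]), ([1, 2, 3, 4, 5],
  [38, 11]), ([4, 0], [112, 78, 18, 2]), ([3, 0], [26]), ([3, 4, 5, 6, 0], [13]), ([1, 2, 3, 4, 6, 0], [101, 10]),
  ([1, 2, 3, 4, 5, 0], [107, 49])] 3 = true := by
  decide +kernel

theorem l4 : lvC ew nw (D.eT D.tT.get) (D.nT D.tT.get) B U AA D.LM [[4, 4], [1, 4, 1, 4], [2, 4, 2, 4], [3, 4, 3,
  4]] [] [([4], []), ([3, 4, 5, 6], [72, 95, 49]), ([1, 2, 3, 4, 6], [95, 95, 88]), ([1, 2, 3, 4, 5], [43, 31,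
  114]), ([4, 0], [50]), ([3, 4, 5, 6, 0], [88, 95]), ([1, 2, 3, 4, 6, 0], [30, 96, 112, 12]), ([1, 2, 3, 4, 5, 0],
  [117, 121, 97, 21])] 4 = true := by
  decide +kernel

theorem l5 : lvC ew nw (D.eT D.tT.get) (D.nT D.tT.get) B U AA D.LM [[5, 5], [3, 5, 3, 5], [4, 5, 4, 5], [1, 5, 1,
  5], [2, 5, 2, 5]] [] [([6], [104, 5]), ([5], []), ([1, 2, 5, 6], [2, 115, 96, 32]), ([6, 0], [5, 104]), ([5, 0],
  [53]), ([1, 2, 5, 6, 0], [30, 100, 123, 96, 3])] 5 = true := by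
  decide +kernel

theorem l6 : lvC ew nw (D.eT D.tT.get) (D.nT D.tT.get) B U AA D.LM [[6, 6], [3, 6, 3, 6], [4, 6, 4, 6], [1, 6, 1,
  6], [2, 6, 2, 6], [5, 6, 5, 6]] [] [([6], []), ([1, 2, 5, 6], [5, 107, 118, 21, 112]), ([6, 0], [52]), ([1, 2, 5,
  6, 0], [2, 120, 6, 119, 86])] 6 = true := by
  decide +kernel

theorem eqns_A : True := by
  have := @B.eq_1
  have := @U.eq_1
  have := @AA.eq_1
  have := @CT.eq_1
  have := @Mm.eq_1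
  have := @Mt.eq_1
  have := @SQ.eq_1
  trivial

end H36.SV.Suz.A

namespace H36.SV

theorem Suz.autM : Suz.F.AutM :=
  AG.autM Suz.mo Suz.A.ba Suz.A.se fun k hk => by
    interval_cases k
    exacts [⟨_, _, _, Suz.A.l1⟩, ⟨_, _, _, Suz.A.l2⟩, ⟨_, _, _, Suz.A.l3⟩, ⟨_, _, _, Suz.A.l4⟩, ⟨_, _, _, Suz.A.l5⟩,
      ⟨_, _, _, Suz.A.l6⟩]

end H36.SV
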