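import Mathlib
import Cfsg.Agent.Lib.StdV.Basic
import Cfsg.Agent.Lib.StdW.F

/-! End game: the lifts of `z`, `b`, `R` to one factor. -/

set_option autoImplicit false
set_option linter.unusedSectionVars false

namespace H36.SV

open Subgroup H69 H36.SW
open H43.SW (E2 sup_cm)
open scoped commutatorElement

variable {X : Type} [Group X] [Finite X] {G : Type*} [Group G] [Finite G] {F : Dy X}

namespace F0

/-- the lifts to the first factor -/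
structure Sd (e : E2 F.J F.T G) (z b : G) (R : Subgroup G) : Prop where
  zT : z ∈ e.T1
  βz : e.β1 z = F.z
  bT : b ∈ e.T1
  βb : e.β1 b = F.b
  z1 : z ≠ 1
  z2 : z * z = 1
  b1 : b ≠ 1
  b2 : b * b = 1
  zc : ∀ a ∈ e.T1, a * z = z * a
  cen : ∀ a ∈ e.T1, (∀ c ∈ e.T1, c * a = a * c) → a = 1 ∨ a = z
  zTT : z ∈ ⁅e.T1, e.T1⁆
  RT : R ≤ e.T1
  Rb : ∀ a ∈ R, a * b = b * a
  bR : b ∈ ⁅R, R⁆
  R4 : 4 < Nat.card R
  genR : R ≤ closure {a | a ∈ R ∧ a * a = 1}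
  inv : ∀ i ∈ e.A, i * i = 1 → i = 1 ∨ (∃ a ∈ e.A, a * z * a⁻¹ = i) ∨ ∃ a ∈ e.A, a * b * a⁻¹ = i
  invT : ∀ i ∈ e.T1, i * i = 1 → i = 1 ∨ (∃ a ∈ e.A, a * z * a⁻¹ = i) ∨
    Nat.card (e.T1 ⊓ centralizer {i} : Subgroup G) ≤ Nat.card R

section
variable {J T : Subgroup X} (e : E2 J T G)

theorem P1 {a : G} (h : a ∈ e.T1) : P2 a := e.PS (e.T1S h)

theorem N1 {a : G} (h : a ∈ e.T1) : a ∈ 𝐍(e.A) := le_normalizer (e.T1A h)

theorem eq1 {a b : G} (ha : a ∈ e.T1) (hb : b ∈ e.T1) (h : e.β1 a = e.β1 b) : a = b :=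
  e.c1.uniq (e.T1A ha) (e.T1A hb) (P1 e ha) (P1 e hb) h

theorem pT0 : IsPGroup 2 (e.T1 ⊔ e.T2 : Subgroup G) := e.sS.isP.to_le e.TS

theorem pT1 : IsPGroup 2 e.T1 := e.sS.isP.to_le e.T1S

theorem pT2 : IsPGroup 2 e.T2 := e.sS.isP.to_le e.T2S

theorem T12 {a : G} (h1 : a ∈ e.T1) (h2 : a ∈ e.T2) : a = 1 := e.AB1 (e.T1A h1) (e.T2B h2) (P1 e h1)

theorem nG (g : G) : g ∈ 𝐍(e.G0) := normal_iff_top_le_normalizer.1 e.n0 (mem_top g)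

theorem card_inj {U : Subgroup G} (hU : U ≤ e.T1 ⊔ e.T2) (h : ∀ u ∈ U, u ∈ e.T2 → u = 1) :
    Nat.card U = Nat.card (e.c1.im U) := by
  rw [e.c1.card_im fun x hx => e.N1 (e.T0 (hU hx)),
    (eq_bot_iff_forall _).2 fun x (hx : x ∈ U ⊓ 𝐂(e.A)) => ?_, card_bot, mul_one]
  obtain ⟨a, ha, b, hb, rfl⟩ := e.dec.1 (hU hx.1)
  have := e.c1.cen hx.2
  rw [e.b1 (e.T1A ha) (e.T2B hb)] at this
  exact h _ hx.1 (mul_mem (e.c1.eq_one (e.T1A ha) (P1 e ha) this ▸ one_mem _) hb)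

theorem im_le {U : Subgroup G} (hU : U ≤ e.T1 ⊔ e.T2) : e.c1.im U ≤ T := fun x hx => by
  obtain ⟨u, hu, -, rfl⟩ := e.c1.mem_im.1 hx
  obtain ⟨a, ha, b, hb, rfl⟩ := e.dec.1 (hU hu)
  rw [e.b1 (e.T1A ha) (e.T2B hb)]; exact ((e.m1 a).1 ha).2.2

theorem card1 : Nat.card e.T1 = Nat.card T := by
  rw [card_inj e le_sup_left fun u => T12 e, le_antisymm (im_le e le_sup_left) fun x hx =>
    let ⟨a, ha, h⟩ := e.lift1 hx; e.c1.mem_im.2 ⟨a, ha, N1 e ha, h⟩]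

theorem proj {U : Subgroup G} (hU : U ≤ e.T1 ⊔ e.T2) (hc : Nat.card T ≤ Nat.card U)
    (h : ∀ u ∈ U, u ∈ e.T2 → u = 1) {a : G} (ha : a ∈ e.T1) : ∃ b ∈ e.T2, a * b ∈ U := by
  have := eq_of_le_of_card_ge (im_le e hU) (card_inj e hU h ▸ hc)
  obtain ⟨u, hu, -, k⟩ := e.c1.mem_im.1 (this.ge ((e.m1 a).1 ha).2.2)
  obtain ⟨c, hc, b, hb, rfl⟩ := e.dec.1 (hU hu)
  rw [e.b1 (e.T1A hc) (e.T2B hb)] at k
  exact ⟨b, hb, eq1 e hc ha k ▸ hu⟩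

theorem cm_parts {a b c d : G} (ha : a ∈ e.T1) (hb : b ∈ e.T2) (hc : c ∈ e.T1) (hd : d ∈ e.T2)
    (h : a * b * (c * d) = c * d * (a * b)) : a * c = c * a ∧ b * d = d * b :=
  e.split' (mul_mem ha hc) (mul_mem hb hd) (mul_mem hc ha) (mul_mem hd hb) (by
    calc _ = a * (c * b) * d := by group
      _ = c * (d * a) * b := by rw [e.cT hc hb, ← mul_assoc, mul_assoc _ c, h]; group
      _ = _ := by rw [← e.cT ha hd]; group)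

theorem sq_parts {a b : G} (ha : a ∈ e.T1) (hb : b ∈ e.T2) (h : a * b * (a * b) = 1) :
    a * a = 1 ∧ b * b = 1 :=
  e.split (mul_mem ha ha) (mul_mem hb hb) (by
    rw [← h, mul_assoc, mul_assoc, ← mul_assoc b, ← e.cT ha hb, mul_assoc])

theorem cmt_parts {a b c d : G} (hb : b ∈ e.T2) (hc : c ∈ e.T1) (ha : a ∈ e.T1) (hd : d ∈ e.T2)
    (h : b * d = d * b) : ⁅a * b, c * d⁆ = ⁅a, c⁆ := by
  have k : b * (c * d) = c * d * b := by rw [← mul_assoc, ← e.cT hc hb, mul_assoc, h, mul_assoc]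
  simp only [commutatorElement_def]
  calc _ = a * (b * (c * d)) * b⁻¹ * a⁻¹ * d⁻¹ * c⁻¹ := by group
    _ = a * c * d * (d * a)⁻¹ * c⁻¹ := by rw [k]; group
    _ = _ := by rw [← e.cT ha hd]; group

theorem lift_gen {R : Subgroup G} {Y : Subgroup X} {s : Set X} {D : Subgroup G} (RT : R ≤ e.T1)
    (hD : D ≤ R) (hY : Y ≤ closure s) (h : ∀ x ∈ s, ∃ d ∈ D, e.β1 d = x) {x : G} (hx : x ∈ e.T1)
    (hx' : e.β1 x ∈ Y) : x ∈ D := by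
  obtain ⟨d, hd, k⟩ := e.c1.of_closure (fun a ha => N1 e (RT (hD ha))) h (hY hx')
  exact eq1 e (RT (hD hd)) hx k ▸ hd

theorem lift_cmt {R : Subgroup G} {Y : Subgroup X} (RT : R ≤ e.T1)
    (h : ∀ y ∈ Y, ∃ d ∈ R, e.β1 d = y) {x : G} (hx : x ∈ e.T1) (hx' : e.β1 x ∈ ⁅Y, Y⁆) :
    x ∈ ⁅R, R⁆ := by
  refine lift_gen e RT (commutator_le_of_le le_rfl le_rfl) (commutator_def Y Y).le ?_ hx hx'
  rintro _ ⟨a, ha, b, hb, rfl⟩
  obtain ⟨a, ha', rfl⟩ := h a ha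
  obtain ⟨b, hb', rfl⟩ := h b hb
  exact ⟨_, commutator_mem_commutator ha' hb', map_commutatorElement e.c1.hom ⟨a, N1 e (RT ha')⟩
    ⟨b, N1 e (RT hb')⟩⟩

end

theorem exists_sd (H : Fx F) (e : E2 F.J F.T G) : ∃ z b R, Sd e z b R := by
  obtain ⟨z, zT, βz⟩ := e.lift1 H.zT
  obtain ⟨b, bT, βb⟩ := e.lift1 H.bT
  obtain ⟨R, hR, cR⟩ := e.c1.exists_lift H.RJ H.pR
  have RT : R ≤ e.T1 := fun a ha => let ⟨h1, h2, h3⟩ := (hR a).1 ha; (e.m1 a).2 ⟨h1, h2, H.RT h3⟩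
  have on : ∀ y ∈ F.R, ∃ d ∈ R, e.β1 d = y := fun y hy =>
    let ⟨d, hd, k⟩ := e.lift1 (H.RT hy); ⟨d, (hR d).2 ⟨e.T1A hd, P1 e hd, k ▸ hy⟩, k⟩
  have sq : ∀ a ∈ e.T1, e.β1 a * e.β1 a = 1 → a * a = 1 := fun a ha h => by
    rw [← pow_two]; exact e.c1.pow_eq_one (e.T1A ha) (P1 e ha) (by rw [pow_two, h])
  have cj : ∀ w ∈ e.T1, ∀ i ∈ e.A, i * i = 1 → (∃ j ∈ F.J, j * e.β1 w * j⁻¹ = e.β1 i) →
      ∃ a ∈ e.A, a * w * a⁻¹ = i := fun w hw i hi i2 ⟨j, hj, k⟩ => by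
    obtain ⟨a, ha, rfl⟩ := e.c1.onto j hj
    exact ⟨a, ha, e.c1.conj_eq (le_normalizer ha) (e.T1A hw) hi (P1 e hw) (P2.of_sq i2) k⟩
  refine ⟨z, b, R, zT, βz, bT, βb, fun h => H.z1 (by rw [← βz, h, e.c1.one]),
    sq z zT (βz ▸ H.z2), fun h => H.b1 (by rw [← βb, h, e.c1.one]), sq b bT (βb ▸ H.b2),
    fun a ha => e.c1.comm_lift (N1 e ha) (e.T1A zT) (P1 e zT)
      (βz ▸ H.cT _ (Dy.TTs ((e.m1 a).1 ha).2.2)), fun a ha h => ?_,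
    lift_cmt e le_rfl (fun y hy => e.lift1 hy) zT (βz ▸ H.zTT), RT,
    fun a ha => e.c1.comm_lift (N1 e (RT ha)) (e.T1A bT) (P1 e bT) (βb ▸ H.Rb _ ((hR a).1 ha).2.2),
    lift_cmt e RT on bT (βb ▸ H.bR), cR ▸ H.R4, fun a ha => ?_, fun i hi i2 => ?_, fun i hi i2 => ?_⟩
  · refine (H.ctr _ (Dy.TTs ((e.m1 a).1 ha).2.2) fun τ hτ => ?_).imp
      (e.c1.eq_one (e.T1A ha) (P1 e ha)) fun k => eq1 e ha zT (k.trans βz.symm)
    obtain ⟨c, hc, rfl⟩ := e.lift1 hτ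
    exact e.c1.comm (N1 e ha) (N1 e hc) (h c hc).symm
  · refine lift_gen e RT ((closure_le _).2 fun a ha => ha.1) H.genR (fun y hy => ?_) (RT ha)
      ((hR a).1 ha).2.2
    obtain ⟨d, hd, rfl⟩ := on y hy.1
    exact ⟨d, subset_closure ⟨hd, sq d (RT hd) hy.2⟩, rfl⟩
  · exact (H.inv (e.c1.mem i hi) (e.c1.sq (le_normalizer hi) i2)).imp
      (e.c1.eq_one hi (P2.of_sq i2)) (Or.imp (fun h => cj z zT i hi i2 (βz ▸ h))
        fun h => cj b bT i hi i2 (βb ▸ h))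
  · refine (H.invT _ ((e.m1 i).1 hi).2.2 (e.c1.sq (N1 e hi) i2)).imp
      (e.c1.eq_one (e.T1A hi) (P2.of_sq i2)) (Or.imp (fun h => cj z zT i (e.T1A hi) i2 (βz ▸ h))
        fun h => ?_)
    rw [card_inj e (inf_le_left.trans le_sup_left) fun u hu => T12 e hu.1, cR]
    refine (card_le_of_le fun x hx => ?_).trans h.2
    obtain ⟨u, hu, n, rfl⟩ := e.c1.mem_im.1 hx
    exact ⟨((e.m1 u).1 hu.1).2.2, mem_centralizer_singleton_iff.2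
      (e.c1.comm n (N1 e hi) (mem_centralizer_singleton_iff.1 hu.2))⟩

namespace Sd

variable {e : E2 F.J F.T G} {z b z' b' : G} {R R' : Subgroup G} (d : Sd e z b R)
include d

theorem bR' : b ∈ R := commutator_le_of_le le_rfl le_rfl d.bR

theorem zcT : ∀ a ∈ e.T1 ⊔ e.T2, a * z = z * a := sup_cm d.zc fun _ ha => (e.cT d.zT ha).symm

theorem tz (d' : Sd e.symm z' b' R') : e.t * z * e.t = z' :=
  eq1 e.symm (e.tT1 d.zT) d'.zT ((e.b21 z).symm.trans (d.βz.trans d'.βz.symm))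

theorem tb (d' : Sd e.symm z' b' R') : e.t * b * e.t = b' :=
  eq1 e.symm (e.tT1 d.bT) d'.bT ((e.b21 b).symm.trans (d.βb.trans d'.βb.symm))

/-- the first component of an element centralising a subgroup which projects onto `T1` -/
theorem fst {U : Subgroup G} (h : ∀ a ∈ e.T1, ∃ c ∈ e.T2, a * c ∈ U) {u v : G} (hu : u ∈ e.T1)
    (hv : v ∈ e.T2) (c : ∀ a ∈ U, a * (u * v) = u * v * a) : u = 1 ∨ u = z :=
  d.cen u hu fun a ha => let ⟨_, hw, k⟩ := h a ha; (cm_parts e ha hw hu hv (c _ k)).1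

end Sd

end F0

end H36.SV
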