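import Mathlib
import Cfsg.Agent.Lib.StdV.LnG
import Cfsg.Agent.Lib.StdV.HeB

/-! The property `Ln` in the model of `He.2`. -/

set_option autoImplicit false
set_option maxRecDepth 100000

namespace H36.SV

open H54 H92.SW

theorem LN.he1 : LN.ccS He.D [3] [[118, 119, 107, 4], [115, 31, 117, 30], [113, 117, 113, 4]] [[], [3]] = true := by decide +kernel

theorem LN.he2 : LN.ccC He.D He.ew He.nw [3] [[118, 119, 107, 4], [115, 31, 117, 30], [113, 117, 113, 4]] [[], [3]]
    (fun w => anyL (He.ew w) [[], [1], [3], [1, 3]]) = true := by decide +kernel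

theorem LN.he3 : LN.ccS He.D [32] [[117, 96, 115, 30], [116, 113, 104, 31, 4], [103, 101, 104], [114, 120, 107, 4]]
    [[], [100, 100], [32], [100, 100, 32], [101, 101], [119, 119, 119], [107, 105, 30], [102, 107, 30]] = true := by decide +kernel

theorem LN.he4 : LN.ccC He.D He.ew He.nw [32] [[117, 96, 115, 30], [116, 113, 104, 31, 4], [103, 101, 104], [114, 120, 107, 4]]
    [[], [100, 100], [32], [100, 100, 32], [101, 101], [119, 119, 119], [107, 105, 30], [102, 107, 30]]
    (fun w => He.nw ([76, 88, 82, 80, 72, 92, 79, 88] ++ w) (w ++ ([32] ++ [76, 88, 82, 80, 72, 92, 79, 88]))) = true := by decide +kernel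

theorem LN.he5 : LN.lnC He.D.EM He.ew [40] [41] [66, 85, 76, 79, 88, 70, 74, 72, 64] [42] [43] [40] [32]
    [76, 88, 82, 80, 72, 92, 79, 88] = true := by decide +kernel

theorem He.ln : He.F.Ln He.F.z He.F.q :=
  LN.ln He.mo LN.he5 (fun _ h => LN.cc He.mo LN.he1 LN.he2 (by rwa [lw_one]))
    fun _ h => LN.cc He.mo LN.he3 LN.he4 h

end H36.SV
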