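import Cfsg.Agent.Lib.StdV.A1
import Cfsg.Agent.Lib.StdV.A2
import Cfsg.Agent.Lib.StdV.A3
import Cfsg.Agent.Lib.StdV.C1
import Cfsg.Agent.Lib.StdV.C2
import Cfsg.Agent.Lib.StdV.D1
import Cfsg.Agent.Lib.StdV.D2
import Cfsg.Agent.Lib.StdV.D3
import Cfsg.Agent.Lib.StdV.DP
import Cfsg.Agent.Lib.StdV.E1
import Cfsg.Agent.Lib.StdV.E2
import Cfsg.Agent.Lib.StdV.F1
import Cfsg.Agent.Lib.StdV.F2
import Cfsg.Agent.Lib.StdV.F3

/-! Standard subgroups of type `O'N`, `He`, `Suz`: assembly. -/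

set_option autoImplicit false

namespace H36.SV

open Subgroup H69 H36.SW

theorem no_std {X : Type} [Group X] [Finite X] {G : Type*} [Group G] [Finite G] {F : Dy X} (H : Fx F) (r : Re F)
    (hF : IsSimpleGroup (Cfsg.generalizedFittingSubgroup G))
    (hF' : ¬ IsMulCommutative (Cfsg.generalizedFittingSubgroup G)) {L : Subgroup G}
    (hL : Cfsg.IsStandardSubgroup L) (e : L ≃* F.J) : False := by
  obtain ⟨α, h, c⟩ := exists_iso H e
  have h0 := A.le_fStar hF hF' hL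
  obtain ⟨g, k, b, ez⟩ := exists_bad H hF hL h0 c
  obtain ⟨t, O, w⟩ := exists_W H H.cen4 (A.St.of hL) c b ez
  obtain ⟨g1, w1⟩ := w.exists_w1 H
  obtain ⟨u, w2⟩ := w1.exists_w2 H
  obtain ⟨ε, x, -⟩ := w2.exists_we H
  have ty : ∀ a c, F.Ty a c → AdE F h ε a c 1 := fun a c => x.ty_ad H r.ln
  obtain ⟨S, gen, hS, rel⟩ := r.gen
  obtain ⟨A', β, p⟩ := x.exists_pr H gen hS fun s hs s' hs' => by
    obtain ⟨z', -, -, e1⟩ := rel _ _ (x.ru H ty) (fun a => x.phi H ty) s' hs' s hs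
    have j' := H.Zc_mem z'
    have e2 := x.ecj s' z' s' j'
    rw [mul_inv_cancel_right, eq_mul_inv_iff_mul_eq] at e2
    have e3 : ε s' * h s' * (ε s' * h s') = 1 := by
      rw [mul_assoc, ← mul_assoc (h s'), ← e2, mul_assoc, c.sq j' (H.Zc_sq z'), mul_one, x.e2 s' z']
    rw [c.one, one_mul] at e1
    change ε s * (ε s' * h s') = ε s' * h s' * ε s
    generalize ε s' * h s' = y at e1 e3
    calc ε s * y = y * (y * ε s * y) := by rw [← mul_assoc, ← mul_assoc, e3, one_mul]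
      _ = y * ε s := by rw [e1]
  obtain ⟨d⟩ := p.exists_e2 H (w.toW0.not_norm H) inferInstance hF h0
  have s := H.sylE d
  refine H.e2_false d s (H.fus1 d s) fun i hi i2 g hg m => ?_
  exact H.fus1 d.symm (sup_comm d.T1 d.T2 ▸ s) i hi i2 g hg (sup_comm d.T1 d.T2 ▸ m)

end H36.SV
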