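import Mathlib
import Cfsg.Agent.Lib.StdV.ReG
import Cfsg.Agent.Lib.StdV.HeB

/-! The relations between the involutions of `He` (generated by tools/stdv2/r2he.py). -/

set_option autoImplicit false
set_option maxRecDepth 100000

namespace H36.SV.He

open Subgroup H54 H69 H36.SW

def c4 : Wd := [70, 85, 76, 79, 72, 87, 66]
def c3 : Wd := [68, 74, 66, 79, 70, 87]
def q2 : Wd := [66, 83, 70, 72, 83, 66]
def v : Wd := [78, 86, 87, 89, 70, 80, 64]
def KA0 : List (Wd × Wd) := [([3], []), (q2, [])]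
def KA : List (Wd × Wd) := (c3, []) :: (c4, []) :: KA0
def U4 : List Wd := [[], [1], [64, 72, 70, 76, 89, 76, 88, 83], [80, 74, 70, 88, 76, 66, 83, 64], [83, 72, 85, 79, 91, 70, 66], [66, 83, 72, 85, 79, 91], [70, 85, 76, 79, 72, 87, 66], [85, 76, 79, 72, 87, 66]]
def U22 : List Wd := [[], [72, 74, 79, 91, 76, 64, 66]]
theorem cc4 : ccC D ew nw c4 [[115, 114, 116, 4], [32, 114, 113, 32, 30], [117, 30, 117, 30, 4], [112, 112, 116, 31, 4]]
  [[], [5, 117, 31, 30, 5], [30, 32, 30], [112, 117, 117, 116, 113], [112, 114, 116, 113], [113, 113, 117, 30], [116, 115, 116, 31, 30], [113, 113, 117, 32, 30]] U4 = true := by decide +kernel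
theorem cc22 : ccC D ew nw v [[114, 31, 116, 112, 112, 4], [30, 116, 115, 114, 30], [115, 113, 115, 116, 4]]
  [[], [31, 30, 117]] U22 = true := by decide +kernel
def tw0 : List St := [⟨0, [78, 83, 74, 86, 80, 78, 76, 66], [70, 80, 88, 70, 66, 68, 82, 70, 64], [70, 86, 85, 81, 78, 85, 76, 64], [], [83, 70, 86, 66, 86, 83, 66], [83, 70, 86, 66, 86, 83, 66], (0, false, [72, 85, 64, 81, 79, 68, 82, 76, 64]), (3, false, [91, 78, 82, 86, 91, 82, 86, 64]), (0, false, [66, 64, 91, 74, 72, 79, 76, 66]), (0, false, [])⟩,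
  ⟨0, [76, 83, 81, 74, 64, 66, 82, 64], [74, 79, 68, 66, 86, 76, 64], [81, 85, 88, 87, 83, 79, 66], [83, 64, 86, 72], [], [83, 64, 86, 72], (1, false, [66, 85, 68, 92, 83, 92, 66, 80]), (0, true, [88, 78, 86, 84, 90, 72, 87, 64]), (2, false, [79, 76, 79, 66, 91, 76, 66]), (0, false, [])⟩,
  ⟨0, [72, 78, 74, 70, 83, 92, 80, 89], [66, 85, 72, 78, 74, 92, 81], [87, 85, 92, 79, 80, 66, 82, 76, 64], [64, 76, 70, 78, 79, 86, 83, 86, 64], [91, 81, 87, 70, 72, 64], [72, 86, 78, 87, 83, 66, 84, 66], (3, false, [83, 74, 80, 84, 89, 76, 83]), (7, true, [66, 68, 80, 82, 80, 66, 83, 68, 66]), (6, false, [87, 78, 83, 91, 76, 64]), (0, false, [])⟩,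
  ⟨2, [68, 87, 85, 85, 70, 82], [64, 85, 78, 82, 87, 85, 66, 83], [], [81, 87, 74, 70, 72], [64, 92, 81, 87, 76, 83, 83, 87, 64], [72, 86, 78, 87, 83, 66, 84, 66], (0, false, [83, 66, 79, 84, 78, 88, 82, 66]), (8, false, [64, 76, 91, 83, 86, 83, 91, 76]), (8, false, [66, 79, 74, 76]), (8, false, [])⟩]
theorem tw0_ok : run D.EM ew nw KA (fun _ => false) tw0 ((v, [72, 74, 79, 91, 76, 64, 66]) :: ([1], []) :: KA) = true := by decide +kernel
def S : List Wd := [[1], [72], [74], [76], [70, 76, 70], [66, 87, 64, 66], [70, 87, 74, 87, 70], [76, 72]]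
def RS : List Rf := [(1, false, []), (14, false, [70, 79, 91, 64, 79, 72, 66, 64]), (14, false, [79, 64, 91, 79, 72, 64, 66, 64]), (14, false, [87, 88, 87, 76, 79, 72, 64, 66]), (14, false, [64, 91, 80, 91, 76, 79, 76, 66]), (13, false, [64, 80, 79, 70, 86, 83, 66]), (13, false, [74, 78, 89, 82, 85, 76, 66]), (0, true, [82, 78, 90, 74, 76, 83, 92, 64]), (14, false, [64, 86, 92, 72, 89, 76, 83, 64]), (1, false, [66, 83, 80, 76, 78, 76, 64, 66]), (4, false, [66, 91, 86, 83, 80, 78, 78, 64]), (5, false, [89, 80, 90, 85, 79, 85, 89]), (14, false, [68, 83, 70, 79, 79, 78]), (14, false, [92, 89, 89, 76, 83]), (13, false, [68, 76, 78, 79, 78, 91, 64]), (5, false, [66, 83, 80, 76, 78, 76, 64, 66]), (14, false, [81, 91, 78, 81, 70, 76, 66]), (4, false, [80, 89, 79, 89, 87, 90, 80, 66]), (1, false, [92, 85, 79, 85, 82, 76, 66]), (0, false, [64, 83, 78, 83, 74, 82, 64, 66]), (0, true, [70, 88, 66, 92, 89, 76, 83,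 64]), (14, false, [68, 66, 78, 78, 79, 72, 66, 64]), (13, false, [64, 66, 78, 88, 66, 83, 91, 64]), (0, false, [66, 90, 89, 85, 88, 86, 78, 72, 64]), (14, false, [80, 66, 87, 80, 81, 86, 92]), (5, false, [68, 74, 88, 66, 89, 91, 74, 83, 66]), (0, true, [64, 83, 78, 83, 74, 82, 64, 66]), (1, false, [64, 86, 76, 86, 88, 66, 83, 66]), (14, false, [83, 91, 79, 76, 78, 90, 79, 66]), (14, false, [64, 72, 70, 76, 79, 79, 72, 64]), (14, false, [68, 88, 66, 90, 90, 86, 81, 64]), (5, false, [64, 86, 76, 86, 88, 66, 83, 66]), (14, false, [64, 76, 80, 91, 76, 79, 76, 66]), (14, false, [81, 66, 86, 80, 91, 79, 78, 66]), (0, false, [70, 88, 66, 92, 89, 76, 83, 64]), (14, false, [90, 82, 84, 79, 86, 82, 70, 66]), (1, false, [86, 79, 85, 86, 87, 90]), (13, false, [64, 72, 79, 87, 88, 78, 91, 64, 66]), (0, false, [72, 86, 79, 76, 86, 89]), (0, true, [78, 78, 72, 85, 89, 88, 66, 64]), (13, false, [79, 72, 70, 87, 78,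 83, 91, 64]), (14, false, [66, 68, 80, 76, 79, 76, 70]), (14, false, [76, 83, 88, 84, 76, 83, 70, 64]), (14, false, [70, 83, 70, 76, 79, 79, 72, 64]), (13, false, [79, 87, 78, 74, 72, 86, 91, 64]), (1, false, [78, 90, 79, 76, 78, 72, 85, 66]), (12, false, [66, 68, 66, 91, 80, 74, 76]), (0, true, [66, 78, 92, 84, 90, 76, 83, 66]), (13, false, [66, 78, 87, 66, 83, 91]), (13, false, [64, 78, 86, 70, 76, 72, 86, 91, 64]), (13, false, [64, 76, 88, 66, 86, 91, 78, 78, 66]), (14, false, [90, 76, 86, 88, 83, 70, 64, 66]), (0, true, [72, 86, 79, 76, 86, 89]), (12, false, [70, 82, 80, 76, 78, 91, 76, 66]), (1, false, [64, 90, 76, 86, 88, 83, 66]), (13, false, [68, 66, 76, 79, 66, 91, 74, 66]), (0, false, [82, 78, 90, 74, 76, 83, 92, 64]), (5, false, [68, 78, 70, 79, 76, 79, 78, 78, 64]), (0, true, [66, 90, 89, 85, 88, 86, 78, 72, 64]), (5, false, [86, 90, 80, 81, 74, 79, 82, 64]), (0, false, [78, 78, 72, 85, 89,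 88, 66, 64]), (0, false, [66, 78, 92, 84, 90, 76, 83, 66]), (13, false, [78, 91, 74, 72, 66]), (1, false, [86, 80, 78, 76, 80, 91, 64])]
def fin : List St := [⟨0, [78, 83, 74, 86, 80, 78, 76, 66], [70, 80, 88, 70, 66, 68, 82, 70, 64], [70, 86, 85, 81, 78, 85, 76, 64], [], [], [], (0, false, [72, 85, 64, 81, 79, 68, 82, 76, 64]), (3, false, [91, 78, 82, 86, 91, 82, 86, 64]), (0, false, [66, 64, 91, 74, 72, 79, 76, 66]), (0, false, [])⟩,
  ⟨0, [76, 83, 81, 74, 64, 66, 82, 64], [74, 79, 68, 66, 86, 76, 64], [81, 85, 88, 87, 83, 79, 66], [], [], [], (1, false, [66, 85, 68, 92, 83, 92, 66, 80]), (0, true, [88, 78, 86, 84, 90, 72, 87, 64]), (2, false, [79, 76, 79, 66, 91, 76, 66]), (0, false, [])⟩,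
  ⟨0, [72, 78, 74, 70, 83, 92, 80, 89], [66, 85, 72, 78, 74, 92, 81], [87, 85, 92, 79, 80, 66, 82, 76, 64], [], [], [], (3, false, [83, 74, 80, 84, 89, 76, 83]), (7, true, [66, 68, 80, 82, 80, 66, 83, 68, 66]), (6, false, [87, 78, 83, 91, 76, 64]), (0, false, [])⟩,
  ⟨0, [64, 83, 82, 81, 90, 86], [64, 80, 76, 74, 79, 89, 72, 87], [78, 74, 87, 78, 68, 82, 64], [], [], [], (0, false, [70, 79, 68, 70, 76, 80, 78, 76]), (6, true, [74, 89, 89, 80, 70, 79, 90, 83, 66]), (6, true, [84, 92, 82, 86, 85, 66, 81, 64]), (0, false, [])⟩,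
  ⟨0, [66, 81, 86, 85, 76, 82, 86, 90, 64], [66, 81, 92, 78, 68, 85, 80, 87], [64, 82, 85, 66, 85, 87, 78, 85, 91, 64], [], [], [], (1, false, [66, 89, 64, 85, 80, 82, 76, 72, 66]), (8, true, [64, 85, 86, 66, 68, 79, 87, 78]), (9, false, [64, 74, 78, 89, 82, 85, 76, 64]), (0, false, [])⟩,
  ⟨0, [68, 76, 85, 78, 76, 82, 68, 82], [92, 70, 80, 76, 80, 91, 88, 80, 64], [70, 80, 89, 76, 85, 64, 90, 72, 66], [], [], [], (0, false, [76, 89, 79, 83, 79, 84, 80, 66]), (10, false, [70, 82, 83, 74, 72, 87, 80, 66]), (10, true, [66, 64, 80, 81, 89, 90, 86, 84]), (0, false, [])⟩,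
  ⟨0, [84, 85, 70, 82, 80, 92, 90, 76, 64], [72, 92, 66, 68, 92, 76, 92, 80], [68, 79, 70, 85, 81, 66, 82, 88], [], [], [], (2, false, [74, 88, 92, 78, 82, 76, 92, 91]), (11, false, [83, 90, 80, 70, 86, 79, 88, 64]), (10, false, [64, 83, 86, 79, 87, 66, 81, 82, 64]), (0, false, [])⟩,
  ⟨0, [68, 66, 83, 89, 79, 68, 80, 74], [68, 86, 81, 92, 66, 79, 83, 81], [66, 78, 88, 89, 85, 76, 92, 89], [], [], [], (0, false, [66, 81, 85, 80, 76, 74, 79, 83, 66]), (11, false, [79, 66, 91, 79, 74, 79, 76, 64]), (11, false, [64, 80, 70, 79, 74, 79, 78]), (0, false, [])⟩,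
  ⟨0, [72, 85, 89, 80, 86, 66, 86, 84, 66], [66, 68, 82, 81, 74, 66, 82, 74, 66], [78, 90, 74, 90, 86, 78, 74, 64], [], [], [], (2, false, [66, 82, 66, 85, 70, 85, 83, 76]), (13, false, [81, 87, 85, 92, 88, 85, 66]), (13, false, [64, 70, 87, 90, 87, 88, 79, 91, 64]), (0, false, [])⟩]
theorem fin_ok : run D.EM ew nw KA (fun K' => allL (fun s => allL (fun s' => anyL (fun rf => ok D.EM ew K' rf s s' []) RS) S) S)
    fin ((v, []) :: ([1], []) :: KA) = true := by decide +kernel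

theorem gs : F.J ≤ closure {g | g ∈ S.map (lw y)} ∧ ∀ s ∈ {g | g ∈ S.map (lw y)}, F.Zc s :=
  gen_step mo.toBs rfl rfl (JJ_le H54.He.pres hx0 (by decide +kernel)) (W := [[1, 6, 2, 0, 1, 6, 2, 0, 1, 6, 2, 0], [1, 5, 0, 5, 2, 6, 2, 6, 2, 5, 0, 5, 1, 0], [0, 6, 7, 4, 2, 6, 4, 2, 4, 2, 6, 3, 0], [0], [1], [2], [3]])
    (C := [[], [66, 83, 80, 76, 78, 76, 64, 66], [92, 85, 79, 85, 82, 76, 66], [64, 86, 76, 86, 88, 66, 83, 66], [86, 79, 85, 86, 87, 90], [78, 90, 79, 76, 78, 72, 85, 66], [64, 90, 76, 86, 88, 83, 66], [86, 80, 78, 76, 80, 91, 64]]) (by decide +kernel)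

theorem ka0 {Ad Rw : X → X → X → Prop} (r : Ru F Ad Rw) : Hd y Ad KA0 :=
  Hd.cons (r.ty _ _ (by rw [H92.SW.lw_one]; exact Dy.Ty.base)) (Hd.cons (r.ty _ _ ⟨y 5,
    show y 5 * y 1 * (y 5)⁻¹ = y 1 by simpa only [H92.SW.lw_one] using mo.or.cj (u := [5]) (a := [1]) (v := [1]) (by decide +kernel),
    show y 5 * y 3 * (y 5)⁻¹ = _ by simpa only [H92.SW.lw_one] using mo.or.cj (u := [5]) (a := [3]) (v := q2) (by decide +kernel)⟩) Hd.nil)

theorem ad4 {Ad Rw : X → X → X → Prop} (r : Ru F Ad Rw) : Ad (y 1) (lw y c4) 1 := by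
  obtain ⟨u, hu, h⟩ := sh_step mo.toBs rfl r (ka0 r) (w := [66, 83, 72, 85, 79, 91]) (U' := [[], [66, 83, 72, 85, 79, 91]])
    (κ := [[72, 79, 84, 82, 89, 90, 66, 80, 64]]) (κ' := [[66, 80, 79, 70, 64, 89, 91, 83, 66]])
    (r1 := (0, false, [70, 91, 85, 80, 86, 80, 78, 72])) (r2 := (0, false, [79, 79, 88, 84, 85, 81, 85, 64])) (r3 := (0, false, [81, 89, 72, 78, 72, 80, 68, 66])) (mo.cc cc4) (by decide +kernel)
  rcases List.mem_cons.1 hu with rfl | hu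
  · exact h
  rw [List.mem_singleton.1 hu] at h
  exact (asc_false mo.toBs rfl r (Hd.cons h (ka0 r)) (u := [1]) (k := [70, 85, 76, 79, 72, 87, 66]) (k' := [83, 70, 72, 83])
    (m1 := [66, 83, 72, 85, 79, 91]) (m2 := [72, 83, 64, 83, 76, 83, 64]) (m3 := [64, 76, 83, 84, 66, 81]) (m4 := [83, 72, 85, 79, 91, 70, 66])
    (j1 := []) (j2 := [64, 88, 87, 80, 92, 70, 81, 80, 66]) (j3 := [70, 68, 89, 66, 88, 85, 90, 74, 66]) (j4 := [72, 90, 74, 82, 91, 90, 80, 64])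
    (i1 := 0) (i2 := 0) (i3 := 0) (i4 := 0) (by decide +kernel)).elim

theorem ka (H : Fx F) {Ad Rw : X → X → X → Prop} (r : Ru F Ad Rw) : Hd y Ad KA := by
  refine Hd.cons ?_ (Hd.cons (ad4 r) (ka0 r))
  have := ad4 (r.cj H (lw y [5]))
  rwa [← H92.SW.lw_one (lt := y) 1, mo.or.cj (v := [1]) (by decide +kernel), mo.or.cj (v := c3) (by decide +kernel),
    mul_one, mul_inv_cancel, H92.SW.lw_one] at this

theorem re (H : Fx F) (ln : F.Ln F.z F.q) : Re F := by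
  refine ⟨ln, _, gs.1, gs.2, fun Ad Rw r _ => ?_⟩
  have hA := ka H r
  have h0 := hA.rw r (by decide) rfl
  obtain ⟨u, hu, h⟩ := tau_step mo.toBs rfl r hA (s := [72, 74, 79, 91, 76, 64, 66]) (r1 := (3, false, [90, 83, 82, 86, 66, 87, 88])) (r2 := (2, false, [66, 64, 87, 72, 79, 79, 70, 83]))
    (mo.cc cc22) (by decide +kernel)
  simp only [U22, List.mem_cons, List.not_mem_nil, or_false] at hu
  rcases hu with rfl | rfl
  · exact run_fin mo.toBs rfl r hA (Hd.cons h h0) fin_ok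
  · exact (run_false mo.toBs rfl r hA (Hd.cons h h0) tw0_ok).elim

theorem eqns_Re : True := by
  have := @c4.eq_1
  have := @c3.eq_1
  have := @q2.eq_1
  have := @v.eq_1
  have := @KA0.eq_1
  have := @KA.eq_1
  have := @U4.eq_1
  have := @U22.eq_1
  have := @tw0.eq_1
  have := @S.eq_1
  have := @RS.eq_1
  have := @fin.eq_1
  trivial

end H36.SV.He
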