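import Mathlib
import Cfsg.Agent.Lib.StdV.Main
import Cfsg.Agent.Lib.StdV.GHe
import Cfsg.Agent.Lib.StdV.GON
import Cfsg.Agent.Lib.StdV.SHe
import Cfsg.Agent.Lib.StdV.SON
import Cfsg.Agent.Lib.StdV.CHe
import Cfsg.Agent.Lib.StdV.CeON
import Cfsg.Agent.Lib.StdV.M2
import Cfsg.Agent.Lib.StdV.AHe
import Cfsg.Agent.Lib.StdV.FxSuz
import Cfsg.Agent.Lib.StdV.AON
import Cfsg.Agent.Lib.StdV.LnHe
import Cfsg.Agent.Lib.StdV.LnSuz
import Cfsg.Agent.Lib.StdV.LnON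
import Cfsg.Agent.Lib.StdV.PhiON
import Cfsg.Agent.Lib.StdV.ReHe
import Cfsg.Agent.Lib.StdV.ReSuz
import Cfsg.Agent.Lib.StdV.ReON

/-! No standard subgroup isomorphic to `O'N`, `He` or `Suz` when `F*(G)` is simple. -/

set_option autoImplicit false

namespace H36.SV

theorem He.fx : Fx He.F := ⟨He.gl (He.ce He.autM).cM, He.sy, He.ce He.autM⟩
theorem ON.fx : Fx ON.F := ⟨ON.gl (ON.ce ON.autM ON.mode2).cM, ON.sy, ON.ce ON.autM ON.mode2⟩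

theorem no_std3 {G : Type*} [Group G] [Finite G] (hF : IsSimpleGroup (Cfsg.generalizedFittingSubgroup G))
    (hF' : ¬ IsMulCommutative (Cfsg.generalizedFittingSubgroup G)) {A : Subgroup G}
    (hA : Cfsg.IsStandardSubgroup A) : ¬ (Cfsg.Spor.IsoON A ∨ Cfsg.Spor.IsoHe A ∨ Cfsg.Spor.IsoSuz A) := by
  rintro (⟨⟨e⟩⟩ | ⟨⟨e⟩⟩ | ⟨⟨e⟩⟩)
  · exact no_std ON.fx (ON.re ON.ln ON.phi) hF hF' hA (e.trans ON.iso.some.symm)
  · exact no_std He.fx (He.re He.fx He.ln) hF hF' hA (e.trans He.iso.some.symm)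
  · exact no_std Suz.fx (Suz.re Suz.ln) hF hF' hA (e.trans Suz.iso.some.symm)

end H36.SV
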