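import Mathlib
import Cfsg.Agent.Lib.StdV.XG

/-! The global facts `Gl` from finite tests. -/

set_option autoImplicit false

namespace H36.SV

open Subgroup H54 H69 Function
open H92.SW (cs mem_cs cs_le lw_nil lw_one lw_cons lw_rep)
open H48.SM (Pf)
open scoped commutatorElement

variable {X Ω : Type} [Group X] [MulAction X Ω] {D : Dt} {J : Subgroup X} {y : ℕ → X}
  {ew nw : List ℕ → List ℕ → Bool} {pt : ℕ → Ω}

/-- a group generated by involutions which are commutators -/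
noncomputable def pfC (ew : List ℕ → List ℕ → Bool) (L : List ℕ) (A B : List (List ℕ)) : Bool :=
  allL (fun l => band (ew [l, l] []) (band (band (sub (nthW A l) L) (sub (nthW B l) L))
    (ew ([l] ++ (nthW B l ++ nthW A l)) (nthW A l ++ nthW B l)))) L

theorem Or.cmt (o : Or y ⊥ ew nw) {c u v : List ℕ} (e : ew (c ++ (v ++ u)) (u ++ v) = true) :
    ⁅lw y u, lw y v⁆ = lw y c := by
  have := o.eq e
  rw [lw_append, lw_append, lw_append] at this
  rw [commutatorElement_def, ← this]; group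

theorem Or.sq (o : Or y ⊥ ew nw) {l : ℕ} (e : ew [l, l] [] = true) : y l * y l = 1 := by
  simpa only [lw_cons, lw_nil, mul_one] using o.eq e

theorem Or.pf (o : Or y ⊥ ew nw) {L : List ℕ} {A B : List (List ℕ)} (e : pfC ew L A B = true) : Pf (cs y L) := by
  simp only [pfC, allL_iff (fun l : ℕ => band _ _), band_eq_true] at e
  refine ⟨cs_le fun l hl => ?_, cs_le fun l hl => subset_closure ⟨mem_cs y hl, o.sq (e l hl).1⟩⟩
  rw [← lw_one (lt := y) l, ← o.cmt (e l hl).2.2]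
  exact commutator_mem_commutator (mem_sub (e l hl).2.1.1) (mem_sub (e l hl).2.1.2)

theorem mem_three [Finite X] {a x : X} (a3 : a * a * a = 1) (a1 : a ≠ 1) (h : x ∈ zpowers a) :
    orderOf a = 3 ∧ (x = 1 ∨ x = a ∨ x = a * a) := by
  classical
  have o : orderOf a = 3 := orderOf_eq_prime (by rw [pow_three, ← mul_assoc, a3]) a1
  rw [mem_zpowers_iff_mem_range_orderOf, o, Finset.mem_image] at h
  obtain ⟨i, hi, rfl⟩ := h
  rw [Finset.mem_range] at hi
  refine ⟨o, ?_⟩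
  interval_cases i
  exacts [.inl (pow_zero a), .inr (.inl (pow_one a)), .inr (.inr (pow_two a))]

/-- two commuting elements of order three -/
theorem nine_dvd [Finite X] {N : Subgroup X} {a c : X} (ha : a ∈ N) (hc : c ∈ N) (h : a * c = c * a)
    (a3 : a * a * a = 1) (a1 : a ≠ 1) (c3 : c * c * c = 1) (c1 : c ≠ 1) (h1 : a ≠ c) (h2 : a * c ≠ 1) :
    9 ∣ Nat.card N := by
  have hA := zpowers_le.2 ha
  have hC := zpowers_le.2 hc
  have cm : ∀ (u : zpowers a) (v : zpowers c), Commute (inclusion hA u) (inclusion hC v) := fun u v => by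
    obtain ⟨_, i, rfl⟩ := u
    obtain ⟨_, j, rfl⟩ := v
    exact Subtype.ext ((show Commute a c from h).zpow_zpow i j)
  have hi : Injective ((inclusion hA).noncommCoprod (inclusion hC) cm) := by
    refine (MonoidHom.noncommCoprod_injective _ _ _).2 ⟨inclusion_injective _, inclusion_injective _, ?_⟩
    rw [disjoint_def]
    rintro x ⟨u, rfl⟩ ⟨v, e⟩
    have e' : (v : X) = u := congrArg Subtype.val e
    refine Subtype.ext (show (u : X) = 1 from ?_)
    rcases (mem_three a3 a1 u.2).2 with p | p | p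
    · exact p
    all_goals rcases (mem_three c3 c1 v.2).2 with r | r | r
    · rw [← e', r]
    · exact absurd (p.symm.trans (e'.symm.trans r)) h1
    · exact absurd (by rw [p.symm.trans (e'.symm.trans r), c3]) h2
    · rw [← e', r]
    · exact absurd (by rw [← p.symm.trans (e'.symm.trans r), ← mul_assoc, a3]) h2
    · have k := p.symm.trans (e'.symm.trans r)
      refine absurd ?_ h1
      calc a = a * a * (a * a) := by rw [← mul_assoc, a3, one_mul]
        _ = c := by rw [k, ← mul_assoc, c3, one_mul]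
  have := card_dvd_of_injective _ hi
  rwa [Nat.card_prod, Nat.card_zpowers, Nat.card_zpowers, (mem_three a3 a1 (one_mem _)).1,
    (mem_three c3 c1 (one_mem _)).1] at this

noncomputable def nineC (ew nw : List ℕ → List ℕ → Bool) (L a c : List ℕ) : Bool :=
  band (band (band (sub a L) (sub c L)) (ew (a ++ c) (c ++ a)))
    (band (band (band (ew (a ++ a ++ a) []) (nw a [])) (band (ew (c ++ c ++ c) []) (nw c [])))
      (band (nw a c) (nw (a ++ c) [])))

theorem Or.nine [Finite X] (o : Or y ⊥ ew nw) {L a c : List ℕ} (e : nineC ew nw L a c = true) :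
    9 ∣ Nat.card (cs y L) := by
  simp only [nineC, band_eq_true] at e
  obtain ⟨⟨⟨e1, e2⟩, e3⟩, ⟨⟨e4, e5⟩, e6, e7⟩, e8, e9⟩ := e
  exact nine_dvd (mem_sub e1) (mem_sub e2) (o.cm e3) (by simpa only [lw_append, lw_nil] using o.eq e4) (o.ne e5)
    (by simpa only [lw_append, lw_nil] using o.eq e6) (o.ne e7) (o.ne e8)
    (by simpa only [lw_append, lw_nil] using o.ne e9)

/-- the words `Y l`, `l ∈ L`, are even and commute with the letter `x` -/
noncomputable def cenC (EM : ℕ) (ew : List ℕ → List ℕ → Bool) (x : ℕ) (Y : List (List ℕ)) (L : List ℕ) : Bool :=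
  allL (fun l => band (Nat.beq (pw EM (nthW Y l)) 0) (ew (nthW Y l ++ [x]) ([x] ++ nthW Y l))) L

theorem Bs.cen {EM N : ℕ} (b : Bs J y ew nw EM N) {x : ℕ} {Y : List (List ℕ)} {L : List ℕ}
    (e : cenC EM ew x Y L = true) : cs (fun i => lw y (nthW Y i)) L ≤ J ∧
      ∀ a ∈ cs (fun i => lw y (nthW Y i)) L, a * y x = y x * a := by
  simp only [cenC, allL_iff (fun l : ℕ => band _ _), band_eq_true] at e
  refine ⟨cs_le fun l hl => b.mem (e l hl).1, fun a ha => mem_centralizer_singleton_iff.1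
    (cs_le (H := centralizer {y x}) (fun l hl => mem_centralizer_singleton_iff.2 ?_) ha)⟩
  simpa only [lw_one] using b.or.cm (e l hl).2

/-- the codes of the words `Y` on the points of `Ts` -/
noncomputable def Dt.cY (D : Dt) (Y : List (List ℕ)) (l : ℕ) : ℕ := wc D.cT D.tT.get (nthW Y l)

/-- the test for `Out` -/
noncomputable def outC (D : Dt) (ew nw : List ℕ → List ℕ → Bool) (x : ℕ) (u v c j : List ℕ) (Y : List (List ℕ))
    (V : ℕ) (L : List ℕ) (ch : Chain) : Bool :=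
  band (band (band (Nat.beq (pw D.EM u) 0) (Nat.beq (pw D.EM v) 0)) (Nat.beq (pw D.EM j) 0))
    (band (band (band (ew (u ++ [x]) ([x] ++ u)) (ew (v ++ [x]) ([x] ++ v)))
        (band (nw c []) (band (ew (c ++ (v ++ u)) (u ++ v)) (ew (j ++ [x]) (([x] ++ c) ++ j)))))
      (band (band (allBits (fun l => band (allL (tb D.VT) (nthW Y l))
          (Nat.beq (D.cY Y l) (wc D.cT D.tT.get (nthW Y l)))) 200 V) (gdL D.cT V (D.cY Y) ch L))
        (band (cenC D.EM ew x Y L) (Nat.ble D.n2 (ch.size D.cT.n)))))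

theorem Mo.out (m : Mo D J y ew nw pt) {a : ℕ} (hS : D.chS.size D.cT.n = 2 ^ a) {x : ℕ} {u v c j : List ℕ}
    {Y : List (List ℕ)} {V : ℕ} {L : List ℕ} {ch : Chain} (e : outC D ew nw x u v c j Y V L ch = true) :
    (D.F J y).Out (y x) := by
  simp only [outC, band_eq_true, Nat.ble_eq] at e
  obtain ⟨⟨⟨e1, e2⟩, e3⟩, ⟨⟨e4, e5⟩, e6, e7, e8⟩, ⟨e9, e10⟩, e11, e12⟩ := e
  have b := m.toBs
  obtain ⟨h1, h2⟩ := (m.lT.sb e9).gdL e10
  obtain ⟨h3, h4⟩ := b.cen e11
  refine ⟨⟨_, b.mem e1, _, b.mem e2, by simpa only [lw_one] using b.or.cm e4,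
    by simpa only [lw_one] using b.or.cm e5, b.or.cmt e7 ▸ b.or.ne e6, _, b.mem e3, ?_⟩,
    _, h3, (IsPGroup.of_card (m.lT.gd.card_bot.trans hS)).to_le h1, h4, h2.card_bot ▸ e12⟩
  rw [b.or.cmt e7]
  simpa only [lw_append, lw_one] using b.or.cj e8

/-- the remaining tests for `Gl` -/
noncomputable def glC (D : Dt) (ew nw : List ℕ → List ℕ → Bool) (i : ℕ) (ch : Chain) : Bool :=
  band (band (allL (fun l => Nat.beq (pw D.EM [l]) 0) D.LM) (allL (fun l => ew [l, 1] [1, l]) (5 :: D.LT)))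
    (band (band (ew [1] (List.replicate i 4)) (band (ew [1, 1] []) (nw [1] [])))
      (band (band (band (Nat.beq (pw D.EM [5]) 1) (Nat.beq (pw D.EM [6]) 1)) (band (ew [5, 5] []) (ew [6, 6] [])))
        (gdL D.cT D.VT D.tT.get ch D.LR)))

theorem Mo.gl [Finite X] (m : Mo D J y ew nw pt) (cM : (D.F J y).CM) {a i r : ℕ} {ch : Chain}
    (hS : D.chS.size D.cT.n = 2 ^ a) (hN : ¬ 2 ^ a ∣ D.N) (e : glC D ew nw i ch = true)
    (hr : ch.size D.cT.n = r) (k1 : 4 * D.n2 ≤ r) (k2 : 2 * D.n3 ^ 2 < 4 * r * D.n2) (k3 : 2 ^ a < r * D.n2)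
    (oφ : (D.F J y).Out (y 5)) (oψ : (D.F J y).Out (y 6))
    (oo : 2 ^ a ≤ D.n2 ^ 2 ∨ (IsConj (y 5) (y 6) ∧ ∃ (N : Subgroup X) (k : ℕ), Pf N ∧ N ≤ J ∧
      (∀ a ∈ N, a * y 5 = y 5 * a) ∧ k ∣ Nat.card N ∧ ¬ k ^ 2 ∣ D.N)) : Gl (D.F J y) := by
  simp only [glC, band_eq_true, allL_iff (fun l : ℕ => Nat.beq _ _), allL_iff (fun l : ℕ => ew _ _)] at e
  obtain ⟨⟨e1, e2⟩, ⟨e3, e4, e5⟩, ⟨⟨e6, e7⟩, e8, e9⟩, e10⟩ := e
  have b := m.toBs
  have cS : Nat.card (D.F J y).Ts = 2 ^ a := m.lT.gd.card_bot.trans hS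
  have cR : Nat.card (D.F J y).R = r := (m.lT.gdL e10).2.card_bot.trans hr
  have fT : y 4 ∈ (D.F J y).T := m.eT ▸ m.fT
  have hM : cs y D.LM ≤ J := cs_le fun l hl => lw_one (lt := y) l ▸ b.mem (e1 l hl)
  have n5 : y 5 ∉ J := lw_one (lt := y) 5 ▸ b.nmem e6
  have n6 : y 6 ∉ J := lw_one (lt := y) 6 ▸ b.nmem e7
  have z1 : y 1 ≠ 1 := lw_one (lt := y) 1 ▸ b.or.ne e5
  refine ⟨b.nJ, b.simple, b.sq, b.aut fun g hg => ?_, b.syl cS hN, ?_, b.or.sq e4, z1, fun g hg => ?_,
    mem_cs y List.mem_cons_self, n5, b.or.sq e8, n6,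
    b.or.sq e9, oφ, oψ, cR ▸ k1, cR ▸ k2, cR ▸ cS ▸ k3, cS ▸ oo.imp_right fun h => ⟨h.1, ?_⟩⟩
  · have gJ : g ∈ J := zpowers_le.2 fT.2 (cM g fun a ha => hg a (hM ha))
    have := b.simple
    obtain ⟨⟨u, hu, v, hv, -, -, h, -⟩, -⟩ := oφ
    rcases (inferInstance : (center J).Normal).eq_bot_or_eq_top with k | k
    · have : (⟨g, gJ⟩ : J) ∈ center J := mem_center_iff.2 fun a => Subtype.ext (hg a a.2).symm
      rw [k, mem_bot] at this
      exact congrArg Subtype.val this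
    · have : (⟨v, hv⟩ : J) ∈ center J := k ▸ mem_top _
      exact absurd (commutatorElement_eq_one_iff_mul_comm.2
        (congrArg Subtype.val (mem_center_iff.1 this ⟨u, hu⟩))) h
  · have := b.or.eq e3
    rw [lw_one, lw_rep] at this
    show y 1 ∈ _
    exact this ▸ pow_mem fT i
  · refine mem_centralizer_singleton_iff.1 (cs_le (H := centralizer {y 1}) (fun l hl => ?_) hg)
    simpa only [lw_one, mem_centralizer_singleton_iff] using b.or.cm (u := [l]) (v := [1]) (e2 l hl)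
  · obtain ⟨N, k, h1, h2, h3, h4, h5⟩ := h.2
    exact ⟨N, k, h1, h2, h3, h4, b.card ▸ h5⟩

theorem eqns_GG : True := by
  have := @pfC.eq_1
  have := @nineC.eq_1
  have := @cenC.eq_1
  have := @Dt.cY.eq_1
  have := @outC.eq_1
  have := @glC.eq_1
  trivial

end H36.SV
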