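import Mathlib
import Cfsg.Agent.Lib.StdV.XG

/-! The facts `Sy` on the Sylow subgroup from a scan of its elements (`He`, `Suz`). -/

set_option autoImplicit false

namespace H36.SV.SHS

open Subgroup H54 H69 Function
open H92.SW (cs mem_cs cs_le lw_nil lw_one lw_cons lw_rep)
open scoped commutatorElement

/-- the digits in base `128` -/
noncomputable def dgs (k v : ℕ) : List ℕ :=
  Nat.rec (motive := fun _ => ℕ → List ℕ) (fun _ => [])
    (fun _ ih v => sel (Nat.beq v 0) [] (Nat.land v 127 :: force (Nat.shiftRight v 7) ih)) k v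

/-- the images of the base points -/
noncomputable def key (D : Dt) (cl : ℕ → ℕ) (u : List ℕ) : ℕ :=
  List.rec (motive := fun _ => ℕ) 0 (fun b _ ih => Nat.add (wl D.cT cl u b) (Nat.mul 128 ih)) D.chS.baseList

/-- `u` is conjugate under `T` to one of the first `m` words of `Rp` -/
noncomputable def look (D : Dt) (tr : Tr) (Rp : List (List ℕ)) (m : ℕ) (cl : ℕ → ℕ) (u : List ℕ) : Bool :=
  force (key D cl u) fun k => force (tr.get k) fun v => force (Nat.land v 63) fun i =>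
    force (Nat.shiftRight v 6) fun w =>
      band (band (Nat.ble (Nat.succ i) m) (sub (dgs 12 w) D.LT)) (D.eT cl (u ++ dgs 12 w) (dgs 12 w ++ nthW Rp i))

noncomputable def scan (D : Dt) (tr : Tr) (Rp : List (List ℕ)) (a1 a4 : ℕ) : Bool :=
  allW D.cT D.tT.get D.chS fun cl =>
    band (bor (D.nT cl [0, 0] []) (bor (D.eT cl [0] []) (look D tr Rp a4 cl [0])))
      (bor (D.eT cl [0, 0, 0, 0] []) (bor (D.nT cl [0, 0, 0, 0, 0, 0, 0, 0] []) (look D tr Rp a1 cl [0, 0, 0, 0])))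

/-- the letter of the class of the `i`-th representative -/
noncomputable def ty (a1 a2 a3 i : ℕ) : ℕ :=
  sel (Nat.ble a1 i) (sel (Nat.ble a2 i) (sel (Nat.ble a3 i) 6 5) 2) 1

/-- the representatives are conjugate under `J` to `z`, `b`, `φ`, `ψ` -/
noncomputable def rpC (D : Dt) (ew : List ℕ → List ℕ → Bool) (Rp Cj : List (List ℕ)) (a1 a2 a3 a4 : ℕ) : Bool :=
  allLt (fun i => band (band (allL (Nat.ble 1) (nthW Rp i)) (Nat.beq (pw D.EM (nthW Cj i)) 0))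
    (ew (nthW Cj i ++ [ty a1 a2 a3 i]) (nthW Rp i ++ nthW Cj i))) a4

/-- the orders of the centralisers -/
noncomputable def ceC (D : Dt) (Rp : List (List ℕ)) (a1 a2 a3 : ℕ) : Bool :=
  band (allFrom (fun i => cntC D.cT D.VT D.tT.get D.chT (nthW Rp i) 512) a1 (Nat.sub a2 a1))
    (allFrom (fun i => cntC D.cT D.VT D.tT.get D.chS (nthW Rp i) D.n3) a2 (Nat.sub a3 a2))

/-- the centre, and the group `R` -/
noncomputable def loC (D : Dt) (chR : Chain) : Bool :=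
  band (srch D.cT D.VT D.tT.get D.chS (D.LT.map fun l => ([l], [l]))
      fun cl' => anyL (fun u => ewL D.cT D.VT D.chS cl' u [0]) [[], [1]])
    (band (gdL D.cT D.VT D.tT.get chR D.LR) (Nat.beq (chR.size D.cT.n) 512))

/-- relations between the letters -/
noncomputable def smC (D : Dt) (ew nw : List ℕ → List ℕ → Bool) (u v c : List ℕ) : Bool :=
  band (band (allL (fun l => band (Nat.ble 1 l) (ew [l, l] [])) D.LT)
      (allL (fun l => band (Nat.beq (pw D.EM [l]) 0) (band (ew [l, l] []) (ew [l, 2] [2, l]))) D.LR))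
    (band (band (band (sub u D.LR) (sub v D.LR)) (band (ew (u ++ v) (2 :: (v ++ u))) (band (ew [2, 2] []) (nw [2] []))))
      (band (band (band (tb D.VT 37) (ew [37, 2] [2, 37])) (band (ew [38, 2] [2, 38])
          (band (ew (c ++ [1]) ([38, 38, 38, 38] ++ c)) (ew [39, 2] [2, 38, 38, 38, 38, 39]))))
        (band (allL (fun w => Nat.beq (pw D.EM w) 0) [[1], [2], [38], [39], c])
          (allL (fun w => Nat.beq (pw D.EM w) 1) [[5], [6], [37]]))))

variable {X Ω : Type} [Group X] [MulAction X Ω] {y : ℕ → X} {pt : ℕ → Ω} {D : Dt} {J : Subgroup X}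
  {ew nw : List ℕ → List ℕ → Bool}

theorem card_cj_le [Finite X] {H : Subgroup X} {τ a r : X} (hτ : τ ∈ H) (e : a * τ = τ * r) :
    Nat.card (H ⊓ centralizer {a} : Subgroup X) ≤ Nat.card (H ⊓ centralizer {r} : Subgroup X) := by
  obtain rfl : a = τ * r * τ⁻¹ := eq_mul_inv_of_mul_eq e
  refine Nat.card_le_card_of_injective (fun g => ⟨τ⁻¹ * g.1 * τ, H.mul_mem (H.mul_mem (H.inv_mem hτ) g.2.1) hτ,
    mem_centralizer_singleton_iff.2 ?_⟩) fun g g' h => Subtype.ext (by simpa using congrArg Subtype.val h)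
  have := mem_centralizer_singleton_iff.1 g.2.2
  calc τ⁻¹ * g.1 * τ * r = τ⁻¹ * (g.1 * (τ * r * τ⁻¹)) * τ := by group
    _ = _ := by rw [this]; group

theorem look_spec {tr : Tr} {Rp : List (List ℕ)} {m : ℕ} {cl : ℕ → ℕ} {u : List ℕ} {g : X} {pt' : ℕ → Ω}
    {P : Subgroup X} (lv : Lv (update y 0 g) D.cT pt' D.VT cl ⊥ P D.chS) (h0 : 0 ∉ D.LT)
    (hR : ∀ i, i < m → 0 ∉ nthW Rp i) (e : look D tr Rp m cl u = true) :
    ∃ i, i < m ∧ ∃ τ ∈ cs y D.LT, lw (update y 0 g) u * τ = τ * lw y (nthW Rp i) := by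
  simp only [look, force_eq, band_eq_true, Nat.ble_eq] at e
  obtain ⟨⟨e1, e2⟩, e3⟩ := e
  refine ⟨_, e1, _, mem_upd (g := g) e2 h0, ?_⟩
  have := lv.or.eq e3
  rwa [lw_append, lw_append, lw_upd (hR _ e1)] at this

theorem sy [Finite X] (mo : Mo D J y ew nw pt) {tr : Tr} {Rp Cj : List (List ℕ)} {a1 a2 a3 a4 : ℕ} {chR : Chain}
    {u v c : List ℕ} (h12 : a1 ≤ a2) (h23 : a2 ≤ a3) (h14 : a1 ≤ a4) (e1 : scan D tr Rp a1 a4 = true)
    (e2 : rpC D ew Rp Cj a1 a2 a3 a4 = true) (e3 : ceC D Rp a1 a2 a3 = true) (e4 : loC D chR = true)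
    (e5 : smC D ew nw u v c = true) (nc : a3 < a4 → ¬ IsConj (y 5) (y 6)) : Sy (D.F J y) := by
  have o := mo.or
  have b := mo.toBs
  have nJ := b.nJ
  simp only [rpC, allLt_iff, band_eq_true, allL_iff (Nat.ble 1), Nat.ble_eq] at e2
  simp only [ceC, band_eq_true, allFrom_iff, Nat.sub_eq] at e3
  rw [loC, band_eq_true, band_eq_true, Nat.beq_eq] at e4
  simp only [smC, band_eq_true, allL_iff (α := ℕ), allL_iff (α := List ℕ), List.forall_mem_cons, Nat.ble_eq] at e5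
  obtain ⟨⟨s1, s2⟩, ⟨⟨s3, s4⟩, s5, s6, s7⟩, ⟨⟨s8, s9⟩, s10, s11, s12⟩, ⟨p1, p2, p38, p39, pc, -⟩, p5, p6, p37, -⟩ := e5
  obtain ⟨c1, c2, c3⟩ := e4
  have l1 : ∀ a, lw y [a] = y a := lw_one
  have l2 : ∀ a a', lw y [a, a'] = y a * y a' := fun a a' => by rw [lw_cons, l1]
  have l4 : ∀ (y' : ℕ → X) a, lw y' [a, a, a, a] = y' a ^ 4 := fun y' a => lw_rep a 4
  have h0 : 0 ∉ D.LT := fun h => absurd (s1 0 h).1 (by decide)
  have hR : ∀ i, i < a4 → 0 ∉ nthW Rp i := fun i hi h => absurd ((e2 i hi).1.1 0 h) (by decide)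
  have eT : (D.F J y).T = cs y D.LT := mo.eT
  have TJ : cs y D.LT ≤ J := eT ▸ inf_le_right
  have TS : cs y D.LT ≤ cs y (5 :: D.LT) := eT ▸ inf_le_left
  obtain ⟨RS, gR⟩ := mo.lT.gdL c2
  have cR : Nat.card (cs y D.LR) = 512 := gR.card_bot.trans c3
  have RJ : cs y D.LR ≤ J := cs_le fun l hl => l1 l ▸ b.mem (s2 l hl).1
  have cj : ∀ {i a τ}, i < a4 → τ ∈ cs y D.LT → a * τ = τ * lw y (nthW Rp i) →
      ∃ j ∈ J, j * y (ty a1 a2 a3 i) * j⁻¹ = a := fun {i a τ} hi hτ e => by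
    refine ⟨τ * lw y (nthW Cj i), mul_mem (TJ hτ) (b.mem (e2 i hi).1.2), ?_⟩
    have := o.cj (e2 i hi).2
    rw [l1] at this
    rw [eq_mul_inv_of_mul_eq e, ← this]; group
  have t1 : ∀ {i}, i < a1 → ty a1 a2 a3 i = 1 := fun h => by simp [ty, sel_eq, h.not_ge]
  have t2 : ∀ {i}, a1 ≤ i → i < a2 → ty a1 a2 a3 i = 2 := fun h h' => by simp [ty, sel_eq, h, h'.not_ge]
  have t5 : ∀ {i}, a2 ≤ i → i < a3 → ty a1 a2 a3 i = 5 := fun h h' => by
    simp [ty, sel_eq, h, h12.trans h, h'.not_ge]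
  have t6 : ∀ {i}, a3 ≤ i → ty a1 a2 a3 i = 6 := fun h => by
    simp [ty, sel_eq, h, h23.trans h, h12.trans (h23.trans h)]
  have inv : ∀ a ∈ cs y (5 :: D.LT), a * a = 1 → a = 1 ∨
      ∃ i, i < a4 ∧ ∃ τ ∈ cs y D.LT, a * τ = τ * lw y (nthW Rp i) := fun a ha e => by
    obtain ⟨cl, q, lv⟩ := mo.lT.all mo.lT.gd le_rfl e1 ha
    simp only [band_eq_true, bor_eq_true] at q
    rcases q.1 with q | q | q
    · exact absurd (by rw [lw_cons, lw_one, update_self, e, lw_nil]) (lv.or.ne q)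
    · exact Or.inl (by simpa only [lw_one, update_self, lw_nil] using lv.or.eq q)
    · exact Or.inr (by simpa only [lw_one, update_self] using look_spec lv h0 hR q)
  have mJ : ∀ {j a x : X}, j * x * j⁻¹ = a → (a ∈ J ↔ x ∈ J) := fun {j a x} e =>
    e ▸ ⟨fun h => by simpa [mul_assoc] using nJ.conj_mem _ h j⁻¹, fun h => nJ.conj_mem _ h j⟩
  refine ⟨fun a ha h => ?_, ?_, fun a ha e => ?_, fun a ha hJ e => ?_, le_inf RS RJ, fun a ha => ?_, ?_,
    (l2 2 2).symm.trans (o.eq s6), fun h => o.ne s7 ((l1 2).trans h), ?_, (show 4 < Nat.card (cs y D.LR) by omega),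
    ⟨y 37, mo.lT.mem 37 s8, l1 37 ▸ b.nmem p37, (l2 _ _).symm.trans ((o.eq s9).trans (l2 _ _))⟩,
    Or.inr ⟨fun a ha e => ?_, y 38, l1 38 ▸ b.mem p38, (l2 _ _).symm.trans ((o.eq s10).trans (l2 _ _)),
      ⟨_, b.mem pc, by have := o.cj s11; rwa [l1, l4] at this⟩, y 39, l1 39 ▸ b.mem p39, ?_⟩⟩
  · obtain ⟨w, hw, e⟩ := mo.lT.srchU mo.lT.gd le_rfl c1 (by decide) ha fun q hq => by
      obtain ⟨l, hl, rfl⟩ := List.mem_map.1 hq
      exact h _ (eT ▸ l1 l ▸ mem_cs y hl)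
    rw [mem_bot, inv_mul_eq_one] at e
    rcases List.mem_pair.1 hw with rfl | rfl
    exacts [Or.inl e.symm, Or.inr (e.symm.trans (l1 1))]
  · rw [eT]
    exact cs_le fun l hl => subset_closure ⟨mem_cs y hl, (l2 l l).symm.trans (o.eq (s1 l hl).2)⟩
  · refine (inv a ha.1 e).imp_right fun ⟨i, hi, τ, hτ, e⟩ => ?_
    obtain ⟨j, hj, k⟩ := cj hi hτ e
    rcases lt_or_ge i a1 with h1 | h1
    · exact Or.inl ⟨j, hj, by rwa [t1 h1] at k⟩
    rcases lt_or_ge i a2 with h2 | h2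
    · refine Or.inr ⟨⟨j, hj, by rwa [t2 h1 h2] at k⟩, ?_⟩
      rw [eT]
      exact (card_cj_le hτ e).trans ((mo.lT.toLr.cnt mo.gT (e3.1 i h1 (by omega))).trans cR.ge)
    have := (mJ k).1 ha.2
    rcases lt_or_ge i a3 with h3 | h3
    · exact absurd (t5 h2 h3 ▸ this) (l1 5 ▸ b.nmem p5)
    · exact absurd (t6 h3 ▸ this) (l1 6 ▸ b.nmem p6)
  · obtain ⟨i, hi, τ, hτ, e⟩ := (inv a ha e).resolve_left fun h => hJ (h ▸ one_mem _)
    obtain ⟨j, hj, k⟩ := cj hi hτ e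
    rcases lt_or_ge i a1 with h1 | h1
    · exact absurd ((mJ k).2 (t1 h1 ▸ l1 1 ▸ b.mem p1)) hJ
    rcases lt_or_ge i a2 with h2 | h2
    · exact absurd ((mJ k).2 (t2 h1 h2 ▸ l1 2 ▸ b.mem p2)) hJ
    rcases lt_or_ge i a3 with h3 | h3
    · exact Or.inl ⟨⟨j, hj, by rwa [t5 h2 h3] at k⟩,
        (card_cj_le (TS hτ) e).trans (mo.lT.toLr.cnt mo.lT.gd (e3.2 i h2 (by omega)))⟩
    · exact Or.inr ⟨⟨j, hj, by rwa [t6 h3] at k⟩, nc (by omega)⟩
  · exact mem_centralizer_singleton_iff.1 ((cs_le fun l hl => mem_centralizer_singleton_iff.2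
      ((l2 _ _).symm.trans ((o.eq (s2 l hl).2.2).trans (l2 _ _))) : cs y D.LR ≤ centralizer {y 2}) ha)
  · have := o.eq s5
    rw [lw_append, lw_cons, lw_append] at this
    have e : y 2 = ⁅lw y u, lw y v⁆ := by rw [commutatorElement_def, this]; group
    show y 2 ∈ _
    rw [e]
    exact commutator_mem_commutator (mem_sub s3) (mem_sub s4)
  · exact cs_le fun l hl => subset_closure ⟨mem_cs y hl, (l2 l l).symm.trans (o.eq (s2 l hl).2.1)⟩
  · obtain ⟨cl, q, lv⟩ := mo.lT.all mo.lT.gd le_rfl e1 ha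
    simp only [band_eq_true, bor_eq_true] at q
    rcases q.2 with q | q | q
    · exact Or.inl (by simpa only [l4, update_self, lw_nil] using lv.or.eq q)
    · exact absurd ((lw_rep 0 8).trans (by rw [update_self, e, lw_nil])) (lv.or.ne q)
    · obtain ⟨i, hi, τ, hτ, e⟩ := look_spec lv h0 (fun i hi => hR i (by omega)) q
      rw [l4, update_self] at e
      obtain ⟨j, hj, k⟩ := cj (by omega) hτ e
      exact Or.inr ⟨j, hj, by rwa [t1 hi] at k⟩
  · have := o.cj (u := [39]) (a := [2]) (v := [2, 38, 38, 38, 38]) s12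
    rwa [l1, l1, lw_cons, l4] at this

theorem eqns_SHS : True := by
  have := @dgs.eq_1
  have := @key.eq_1
  have := @look.eq_1
  have := @scan.eq_1
  have := @ty.eq_1
  have := @rpC.eq_1
  have := @ceC.eq_1
  have := @loC.eq_1
  have := @smC.eq_1
  trivial

end H36.SV.SHS
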